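import Cfsg.Agent.Lib.OrthFrame.Std

/-!
If the stabiliser of each axis is monomial, so is the whole group.
-/

set_option autoImplicit false
set_option linter.unusedSectionVars false

namespace Cfsg.Agent.Lib.OrthFrame

open Matrix Cfsg.Agent.Lib.Orth

variable {ι : Type} [Fintype ι] [DecidableEq ι] {F : Type*} [Field F] (h2 : (2 : F) ≠ 0)
include h2

omit h2 in
theorem card_le_of_orth {A B : Type*} [Fintype A] [Fintype B] [DecidableEq A] (M : A → B → F)
    (d : A → F) (hd : ∀ x, d x ≠ 0) (h : ∀ x y, ∑ b, M x b * M y b = if x = y then d x else 0) :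
    Fintype.card A ≤ Fintype.card B := by
  let L : (A → F) →ₗ[F] (B → F) := LinearMap.pi fun b => ∑ x, M x b • LinearMap.proj x
  have hL : ∀ c b, L c b = ∑ x, M x b * c x := fun c b => by simp [L]
  have hinj : Function.Injective L := by
    rw [← LinearMap.ker_eq_bot, Submodule.eq_bot_iff]
    intro c hc
    funext y
    have h0 : ∑ b, M y b * L c b = 0 := by simp [LinearMap.mem_ker.1 hc]
    simp only [hL, Finset.mul_sum] at h0
    rw [Finset.sum_comm] at h0
    simp only [← mul_assoc, ← Finset.sum_mul, h, ite_mul, zero_mul, Finset.sum_ite_eq,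
      Finset.mem_univ, if_true] at h0
    exact (mul_eq_zero.1 h0).resolve_left (hd y)
  simpa using LinearMap.finrank_le_finrank_of_injective hinj

omit h2 in
theorem ext_ax {g h : O ι F} (H : ∀ a, app g (ax a) = app h (ax a)) : g = h := by
  refine isometry_ext fun x => ?_
  have : (toLin g).toLinearMap = (toLin h).toLinearMap := by
    refine LinearMap.pi_ext' fun a => LinearMap.ext_ring ?_
    exact H a
  exact LinearMap.congr_fun this x

omit h2 in
theorem app_neg_ax (g : O ι F) {v : ι → F} {a : ι} (h : app g (ax a) = -v) : app g (-ax a) = v := by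
  rw [app_neg, h, neg_neg]

theorem Mono.supp_eq {τ : O ι F} (hτ : Mono τ) {v w : ι → F} (h : supp v = supp w) :
    supp (app τ v) = supp (app τ w) := by
  ext b
  obtain ⟨a, ha⟩ := Mono.inv h2 hτ b
  have e : ∀ u, app τ u b ≠ 0 ↔ u a ≠ 0 := fun u => by
    rw [← dot_ax (app τ u) b, app_dot_left h2]
    rcases ha with ha | ha <;> rw [ha] <;> simp [dot_ax]
  rw [mem_supp, mem_supp, e, e, ← mem_supp, ← mem_supp, h]

/-- The conjugate of a sign change. -/
theorem app_conj_dd (k : O ι F) (S : Finset ι) (x : ι → F) :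
    app (k * dd S * k⁻¹) x = x - (2 : F) • ∑ s ∈ S, (app k (ax s) ⬝ᵥ x) • app k (ax s) := by
  have hy : ∀ y : ι → F, app (dd S) y = y - (2 : F) • ∑ s ∈ S, y s • ax s := fun y => by
    rw [app_dd]; funext i
    simp only [Pi.sub_apply, Pi.smul_apply, Finset.sum_apply, ax, Pi.single_apply, smul_eq_mul,
      mul_ite, mul_one, mul_zero, Finset.sum_ite_eq]
    split_ifs <;> ring
  rw [app_mul, app_mul, hy, app_sub, app_app_inv, app_smul]
  congr 2
  rw [show app k (∑ s ∈ S, app k⁻¹ x s • ax s) = (toLin k) (∑ s ∈ S, app k⁻¹ x s • ax s) from rfl, map_sum]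
  refine Finset.sum_congr rfl fun s _ => ?_
  rw [map_smul, app_dot_left h2, ax_dot]
  rfl

/-- The supports of a set of conjugated axes. -/
noncomputable def usupp (k : O ι F) (S : Finset ι) : Finset ι :=
  S.biUnion fun s => supp (app k (ax s))

omit h2 in
/-- The projection. -/
noncomputable def proj (k : O ι F) (S : Finset ι) (a b : ι) : F :=
  ∑ s ∈ S, app k (ax s) a * app k (ax s) b

omit h2 in
theorem proj_comm (k : O ι F) (S : Finset ι) (a b : ι) : proj k S a b = proj k S b a :=
  Finset.sum_congr rfl fun _ _ => mul_comm _ _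

omit h2 in
theorem mem_usupp {k : O ι F} {S : Finset ι} {a : ι} :
    a ∈ usupp k S ↔ ∃ s ∈ S, app k (ax s) a ≠ 0 := by simp [usupp, mem_supp]

/-- A monomial conjugate of a sign change has rows of two entries. -/
theorem proj_row {k : O ι F} {S : Finset ι} (hm : Mono (k * dd S * k⁻¹)) (a : ι) :
    ∃ b, (∀ i, i ≠ a → i ≠ b → proj k S a i = 0) ∧ (a ∈ usupp k S → proj k S a a ≠ 0) := by
  obtain ⟨b, hb⟩ := hm a
  have he : ∀ i, app (k * dd S * k⁻¹) (ax a) i = (ax a : ι → F) i - 2 * proj k S a i := fun i => by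
    rw [app_conj_dd h2]
    simp only [Pi.sub_apply, Pi.smul_apply, Finset.sum_apply, smul_eq_mul, proj, dot_ax]
  have hz : ∀ i, i ≠ a → i ≠ b → proj k S a i = 0 := fun i hia hib => by
    have := he i
    rcases hb with e | e <;> rw [e] at this <;> simp [ax, hia, hib] at this <;>
      exact this.resolve_left h2
  refine ⟨b, hz, fun ha h0 => ?_⟩
  have hall : ∀ i, proj k S a i = 0 := by
    intro i
    by_cases hia : i = a
    · rw [hia, h0]
    by_cases hib : i = b
    · exfalso
      have := he a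
      rw [h0] at this
      rcases hb with e | e <;> rw [e] at this <;> simp [ax, show a ≠ b from fun e => hia (hib.trans e.symm)] at this
    exact hz i hia hib
  obtain ⟨s, hs, hne⟩ := mem_usupp.1 ha
  refine hne ?_
  have : ∑ i, proj k S a i * app k (ax s) i = app k (ax s) a := by
    simp only [proj, Finset.sum_mul, mul_assoc]
    rw [Finset.sum_comm]
    simp only [← Finset.mul_sum]
    rw [Finset.sum_eq_single s]
    · have := app_ax_dot h2 k s s
      rw [if_pos rfl, dotProduct] at this
      rw [this, mul_one]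
    · intro t _ hts
      have := app_ax_dot h2 k t s
      rw [if_neg hts, dotProduct] at this
      rw [this, mul_zero]
    · exact fun hh => absurd hs hh
  rw [← this]
  simp [hall]

theorem usupp_card_le {k : O ι F} {S : Finset ι} (hm : Mono (k * dd S * k⁻¹)) :
    (usupp k S).card ≤ 2 * S.card := by
  classical
  choose b hb hne using proj_row h2 hm
  obtain ⟨T, hT, hmax⟩ := Finset.exists_max_image
    ((usupp k S).powerset.filter fun T => ∀ a ∈ T, ∀ c ∈ T, a ≠ c → proj k S a c = 0) Finset.card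
    ⟨∅, by simp⟩
  simp only [Finset.mem_filter, Finset.mem_powerset] at hT hmax
  obtain ⟨hTU, hTd⟩ := hT
  have hcard : T.card ≤ S.card := by
    have := card_le_of_orth (F := F) (A := T) (B := S) (fun a s => app k (ax s.1) a.1)
      (fun a => proj k S a.1 a.1) (fun a => hne _ (hTU a.2)) (fun a c => by
        rw [Finset.sum_coe_sort S fun s => app k (ax s) a.1 * app k (ax s) c.1]
        change proj k S a.1 c.1 = _
        by_cases h : a = c
        · subst h; rw [if_pos rfl]
        · rw [if_neg h, hTd _ a.2 _ c.2 (fun e => h (Subtype.ext e))])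
    simpa using this
  have hsub : usupp k S ⊆ T ∪ T.image b := by
    intro a ha
    by_contra hh
    simp only [Finset.mem_union, Finset.mem_image, not_or, not_exists, not_and] at hh
    have hz : ∀ t ∈ T, proj k S t a = 0 := fun t ht =>
      hb t a (fun e => hh.1 (e ▸ ht)) (fun e => hh.2 t ht e.symm)
    have := hmax (insert a T) ⟨Finset.insert_subset ha hTU, fun x hx y hy hxy => by
      rcases Finset.mem_insert.1 hx with rfl | hx <;> rcases Finset.mem_insert.1 hy with rfl | hy
      · exact absurd rfl hxy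
      · first | exact hz _ hy | (rw [proj_comm]; exact hz _ hy)
      · first | exact hz _ ‹x ∈ T› | (rw [proj_comm]; exact hz _ ‹x ∈ T›)
      · exact hTd x hx y hy hxy⟩
    rw [Finset.card_insert_of_notMem hh.1] at this
    omega
  have := Finset.card_le_card hsub
  have := Finset.card_union_le T (T.image b)
  have := Finset.card_image_le (s := T) (f := b)
  omega

/-- Two conjugated axes with monomial pair. -/
theorem pair_supp {k : O ι F} {x y : ι} (hxy : x ≠ y) (hm : Mono (k * dd {x, y} * k⁻¹)) :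
    supp (app k (ax x)) = supp (app k (ax y)) ∨
      (Disjoint (supp (app k (ax x))) (supp (app k (ax y))) ∧ (supp (app k (ax x))).card ≤ 2) := by
  classical
  have hd : app k (ax x) ⬝ᵥ app k (ax y) = 0 := by rw [app_ax_dot h2, if_neg hxy]
  have hP : ∀ a i, proj k {x, y} a i =
      app k (ax x) a * app k (ax x) i + app k (ax y) a * app k (ax y) i := fun a i => by
    rw [proj, Finset.sum_pair hxy]
  generalize app k (ax x) = u at *
  generalize app k (ax y) = w at *
  have main : ∀ (u w : ι → F), u ⬝ᵥ w = 0 →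
      (∀ a, ∃ b, ∀ i, i ≠ a → i ≠ b → u a * u i + w a * w i = 0) →
      ∀ a, u a ≠ 0 → w a = 0 → (supp u).card ≤ 2 ∧ Disjoint (supp u) (supp w) := by
    intro u w hd hrow a hua hwa
    obtain ⟨b, hb⟩ := hrow a
    have hsub : supp u ⊆ {a, b} := fun i hi => by
      by_contra hh
      simp only [Finset.mem_insert, Finset.mem_singleton, not_or] at hh
      have := hb i hh.1 hh.2
      rw [hwa, zero_mul, add_zero, mul_eq_zero] at this
      exact mem_supp.1 hi (this.resolve_left hua)
    refine ⟨le_trans (Finset.card_le_card hsub) Finset.card_le_two, ?_⟩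
    rw [Finset.disjoint_left]
    intro i hiu hiw
    have hi : i = b := by
      have := hsub hiu
      simp only [Finset.mem_insert, Finset.mem_singleton] at this
      refine this.resolve_left fun e => mem_supp.1 hiw (e ▸ hwa)
    subst hi
    rw [dotProduct, Finset.sum_eq_single i] at hd
    · exact mul_ne_zero (mem_supp.1 hiu) (mem_supp.1 hiw) hd
    · intro l _ hl
      by_cases hla : l = a
      · rw [hla, hwa, mul_zero]
      · have : u l = 0 := by
          by_contra h0
          have := hsub (mem_supp.2 h0)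
          simp [hla, hl] at this
        rw [this, zero_mul]
    · simp
  have hrow : ∀ a, ∃ b, ∀ i, i ≠ a → i ≠ b → u a * u i + w a * w i = 0 := fun a => by
    obtain ⟨b, hb, -⟩ := proj_row h2 hm a
    exact ⟨b, fun i h1 h3 => hP a i ▸ hb i h1 h3⟩
  by_cases he : supp u = supp w
  · exact Or.inl he
  right
  by_cases h1 : ∃ a, u a ≠ 0 ∧ w a = 0
  · obtain ⟨a, hua, hwa⟩ := h1
    exact ⟨(main u w hd hrow a hua hwa).2, (main u w hd hrow a hua hwa).1⟩
  push Not at h1
  obtain ⟨a, hwa, hua⟩ : ∃ a, w a ≠ 0 ∧ u a = 0 := by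
    by_contra hh
    push Not at hh
    exact he (Finset.ext fun a => by rw [mem_supp, mem_supp]; exact ⟨h1 a, hh a⟩)
  have hrow' : ∀ a, ∃ b, ∀ i, i ≠ a → i ≠ b → w a * w i + u a * u i = 0 := fun a => by
    obtain ⟨b, hb⟩ := hrow a
    exact ⟨b, fun i h1 h3 => by rw [add_comm]; exact hb i h1 h3⟩
  have h := main w u (by rw [dotProduct_comm]; exact hd) hrow' a hwa hua
  refine ⟨h.2.symm, ?_⟩
  -- the supports of `u` lie in that of `w`
  have hsub : supp u ⊆ supp w := fun i hi => mem_supp.2 (h1 i (mem_supp.1 hi))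
  exact le_trans (Finset.card_le_card hsub) h.1

/-- The cycle through three points. -/
def cyc (x y z : ι) : Equiv.Perm ι := Equiv.swap x y * Equiv.swap y z

omit h2 in
theorem cyc_sign {x y z : ι} (hxy : x ≠ y) (hyz : y ≠ z) : Equiv.Perm.sign (cyc x y z) = 1 := by
  simp [cyc, Equiv.Perm.sign_swap hxy, Equiv.Perm.sign_swap hyz]

omit h2 in
theorem cyc_fix {x y z i : ι} (h1 : i ≠ x) (h2' : i ≠ y) (h3 : i ≠ z) : cyc x y z i = i := by
  simp [cyc, Equiv.swap_apply_of_ne_of_ne h2' h3, Equiv.swap_apply_of_ne_of_ne h1 h2']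

/-- A family of conjugated axes with monomial pairs and cycles contains a signed axis. -/
theorem axis_of_family {k : O ι F} (Fs : Finset ι) (h5 : 5 ≤ Fs.card)
    (hn : Fintype.card ι < 2 * Fs.card)
    (hpair : ∀ x ∈ Fs, ∀ y ∈ Fs, x ≠ y → Mono (k * dd {x, y} * k⁻¹))
    (hcyc : ∀ x ∈ Fs, ∀ y ∈ Fs, ∀ z ∈ Fs, x ≠ y → y ≠ z → x ≠ z → Mono (k * pG (cyc x y z) * k⁻¹)) :
    ∃ x ∈ Fs, IsAx (app k (ax x)) := by
  classical
  obtain ⟨f, hf⟩ : ∃ f : ι → ι → F, ∀ x, f x = app k (ax x) := ⟨_, fun _ => rfl⟩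
  have hnem : ∀ x, (supp (f x)).Nonempty := fun x => by
    by_contra hh
    rw [Finset.not_nonempty_iff_eq_empty] at hh
    have h1 : f x ⬝ᵥ f x = 1 := by rw [hf, app_ax_dot h2, if_pos rfl]
    have h0 : f x = 0 := funext fun i => by
      by_contra h0
      have := mem_supp.2 h0
      rw [hh] at this
      simp at this
    simp [h0] at h1
  have hps := fun x (hx : x ∈ Fs) y (hy : y ∈ Fs) (hxy : x ≠ y) => pair_supp h2 hxy (hpair x hx y hy hxy)
  simp only [← hf] at hps
  have hneq : ∀ x ∈ Fs, ∀ y ∈ Fs, x ≠ y → supp (f x) ≠ supp (f y) := by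
    intro x hx y hy hxy he
    have hall : ∀ z ∈ Fs, supp (f z) = supp (f x) := by
      intro z hz
      by_cases hzx : z = x
      · rw [hzx]
      by_cases hzy : z = y
      · rw [hzy, he]
      have e := Mono.supp_eq h2 (hcyc x hx y hy z hz hxy (Ne.symm hzy) (Ne.symm hzx))
        (v := f x) (w := f y) he
      have m : ∀ a, app (k * pG (cyc x y z) * k⁻¹) (f a) = f (cyc x y z a) := fun a => by
        rw [hf, hf, app_mul, app_mul, app_inv_app, app_pG_ax]
      rw [m, m] at e
      have cx : cyc x y z x = y := by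
        simp [cyc, Equiv.swap_apply_of_ne_of_ne hxy (Ne.symm hzx)]
      have cy : cyc x y z y = z := by
        simp [cyc, Equiv.swap_apply_of_ne_of_ne hzx hzy]
      rw [cx, cy, ← he] at e
      exact e.symm
    have hu : usupp k {x, y} = supp (f x) := by
      rw [usupp]; simp only [Finset.biUnion_insert, Finset.singleton_biUnion, ← hf, he, Finset.union_self]
    have h4 := usupp_card_le h2 (hpair x hx y hy hxy)
    rw [hu, Finset.card_pair hxy] at h4
    have := card_le_of_orth (F := F) (A := Fs) (B := supp (f x)) (fun a b => f a.1 b.1) (fun _ => 1)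
      (fun _ => one_ne_zero) (fun a c => by
        rw [Finset.sum_coe_sort (supp (f x)) fun b => f a.1 b * f c.1 b,
          Finset.sum_subset (Finset.subset_univ _) fun i _ hi => by
            rw [← hall _ a.2, mem_supp, not_not] at hi
            rw [hi, zero_mul]]
        change f a.1 ⬝ᵥ f c.1 = _
        rw [hf, hf, app_ax_dot h2]
        by_cases hac : a = c
        · rw [if_pos hac, if_pos (congrArg Subtype.val hac)]
        · rw [if_neg hac, if_neg fun e => hac (Subtype.ext e)])
    simp at this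
    omega
  by_contra hno
  push Not at hno
  have hcard : ∀ x ∈ Fs, 2 ≤ (supp (f x)).card := fun x hx => by
    by_contra hh
    obtain ⟨a, ha⟩ := Finset.card_eq_one.1 (show (supp (f x)).card = 1 by
      have := (hnem x).card_pos; omega)
    have h1 : f x ⬝ᵥ f x = 1 := by rw [hf, app_ax_dot h2, if_pos rfl]
    exact hno x hx (hf x ▸ ⟨a, axis_of_supp h1 (ha ▸ subset_rfl)⟩)
  have hdis : ∀ x ∈ Fs, ∀ y ∈ Fs, x ≠ y → Disjoint (supp (f x)) (supp (f y)) := fun x hx y hy hxy =>
    ((hps x hx y hy hxy).resolve_left (hneq x hx y hy hxy)).1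
  have h1 : ∑ x ∈ Fs, (supp (f x)).card ≤ Fintype.card ι := by
    rw [← Finset.card_biUnion hdis]
    exact Finset.card_le_univ _
  have h2' := Finset.card_nsmul_le_sum Fs (fun x => (supp (f x)).card) 2 hcard
  simp at h2'
  omega

theorem mono_conj_dd {g : O ι F} (hg : Mono g) (S : Finset ι) :
    ∃ T : Finset ι, T.card = S.card ∧ g * dd S * g⁻¹ = dd T := by
  choose p hp using hg
  have hinj : Function.Injective p := fun a b e => by
    by_contra hne
    have h := app_ax_dot h2 g a b
    rw [if_neg hne] at h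
    rcases hp a with ha | ha <;> rcases hp b with hb | hb <;> rw [ha, hb, ← e] at h <;> simp [ax] at h
  refine ⟨S.image p, Finset.card_image_of_injective _ hinj, ?_⟩
  rw [mul_inv_eq_iff_eq_mul]
  refine ext_ax fun a => ?_
  have hmem : p a ∈ S.image p ↔ a ∈ S := by simp [hinj.eq_iff]
  rw [app_mul, app_mul, app_dd_ax]
  rcases hp a with e | e <;>
    by_cases ha : a ∈ S <;>
    simp [ha, e, app_neg, app_dd_ax, hmem]

section main

variable [Finite F] {K : Subgroup (O ι F)} (hn : 10 ≤ Fintype.card ι)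
  (hdd : ∀ S : Finset ι, Even S.card → dd S ∈ K)
  (hperm : ∀ σ : Equiv.Perm ι, Equiv.Perm.sign σ = 1 → pG σ ∈ K)
  (hfix : ∀ k ∈ K, ∀ c, app k (ax c) = ax c → Mono k)
include hn hdd hperm hfix

theorem mono_of_ax {k : O ι F} (hk : k ∈ K) {c : ι} (h : IsAx (app k (ax c))) : Mono k := by
  obtain ⟨d, hd⟩ := h
  obtain ⟨σ, hσ, hσd⟩ := exists_even_perm {d} (fun _ => c) (by simp) (by simp; omega)
  obtain ⟨x, hx⟩ : ∃ x, x ≠ d := Fintype.exists_ne_of_one_lt_card (by omega) d
  have hd2 : (dd {d, x} : O ι F) ∈ K := hdd _ (by rw [Finset.card_pair (Ne.symm hx)]; exact even_two)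
  have e : app (pG σ) (ax d) = (ax c : ι → F) := by rw [app_pG_ax, hσd d (Finset.mem_singleton_self d)]
  rcases hd with hd | hd
  · have := hfix _ (mul_mem (hperm σ hσ) hk) c (by rw [app_mul, hd, e])
    have h' := ((mono_pG σ).inv h2).mul this
    rwa [inv_mul_cancel_left] at h'
  · have := hfix _ (mul_mem (hperm σ hσ) (mul_mem hd2 hk)) c (by
      rw [app_mul, app_mul, hd, app_neg, app_dd_ax, if_pos (by simp), neg_neg, e])
    have h' := ((mono_dd {d, x}).inv h2).mul (((mono_pG σ).inv h2).mul this)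
    rwa [inv_mul_cancel_left, inv_mul_cancel_left] at h'

theorem mono_of_small {k : O ι F} (hk : k ∈ K) {c : ι} {S : Finset ι} (hS : S.card ≤ 4)
    (hsupp : supp (app k⁻¹ (ax c)) ⊆ S) : Mono k := by
  classical
  have hfixv : ∀ h : O ι F, (∀ y : ι → F, supp y ⊆ S → app h y = y) →
      app (k * h * k⁻¹) (ax c) = ax c := fun h hh => by
    rw [app_mul, app_mul, hh _ hsupp, app_app_inv]
  have hmem : ∀ h ∈ K, k * h * k⁻¹ ∈ K := fun h hh => mul_mem (mul_mem hk hh) (inv_mem hk)
  obtain ⟨x, hx, hax⟩ := axis_of_family h2 (k := k) Sᶜ (by rw [Finset.card_compl]; omega)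
    (by rw [Finset.card_compl]; omega)
    (fun x hx y hy hxy => hfix _ (hmem _ (hdd _ (by rw [Finset.card_pair hxy]; exact even_two))) c
      (hfixv _ fun v hv => app_dd_of_supp _ fun i hi => by
        by_contra h0
        have := hv (mem_supp.2 h0)
        rw [Finset.mem_compl] at hx hy
        simp at hi
        rcases hi with rfl | rfl <;> contradiction))
    (fun x hx y hy z hz hxy hyz _ => hfix _ (hmem _ (hperm _ (cyc_sign hxy hyz))) c
      (hfixv _ fun v hv => by
        rw [Finset.mem_compl] at hx hy hz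
        have hS' : ∀ i ∈ S, cyc x y z i = i := fun i hi =>
          cyc_fix (fun e => hx (e ▸ hi)) (fun e => hy (e ▸ hi)) (fun e => hz (e ▸ hi))
        funext i
        rw [app_pG, Function.comp_apply]
        by_cases hi : i ∈ S
        · conv_lhs => rw [← hS' i hi]
          simp
        · have h0 : ∀ j, j ∉ S → v j = 0 := fun j hj => by
            by_contra h0; exact hj (hv (mem_supp.2 h0))
          rw [h0 i hi, h0]
          intro hj
          have := hS' _ hj
          simp at this
          exact hi (this.symm ▸ hj)))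
  exact mono_of_ax h2 hn hdd hperm hfix hk hax

theorem mono_of_pair {g : O ι F} (hg : g ∈ K) {a b : ι} (hab : a ≠ b)
    (hm : Mono (g * dd {a, b} * g⁻¹)) : Mono g := by
  have hc : (usupp g {a, b}).card ≤ 4 := le_trans (usupp_card_le h2 hm) (by rw [Finset.card_pair hab])
  have h := mono_of_small h2 hn hdd hperm hfix (inv_mem hg) (c := a) (S := usupp g {a, b}) hc (by
    rw [inv_inv]
    intro i hi
    exact mem_usupp.2 ⟨a, by simp, mem_supp.1 hi⟩)
  simpa using h.inv h2

theorem mono_of_two_zeros {g : O ι F} (hg : g ∈ K) {c : ι} {S : Finset ι}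
    (hS : S.card + 2 ≤ Fintype.card ι) (hsupp : supp (app g (ax c)) ⊆ S) : Mono g := by
  obtain ⟨x, hx, y, hy, hxy⟩ := Finset.one_lt_card.1
    (show 1 < Sᶜ.card by rw [Finset.card_compl]; omega)
  rw [Finset.mem_compl] at hx hy
  have hk := inv_mem hg
  have hm : Mono (g⁻¹ * dd {x, y} * g⁻¹⁻¹) :=
    hfix _ (mul_mem (mul_mem hk (hdd _ (by rw [Finset.card_pair hxy]; exact even_two))) (inv_mem hk)) c (by
      rw [inv_inv, app_mul, app_mul, app_dd_of_supp _ (fun i hi => ?_), app_inv_app]
      by_contra h0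
      have := hsupp (mem_supp.2 h0)
      simp at hi
      rcases hi with rfl | rfl <;> contradiction)
  simpa using (mono_of_pair h2 hn hdd hperm hfix hk hxy hm).inv h2

theorem mono_of_commute {g : O ι F} (hg : g ∈ K) {S : Finset ι} {c : ι} (hc : c ∈ S)
    (hS : S.card + 2 ≤ Fintype.card ι) (hcomm : g * dd S = dd S * g) : Mono g := by
  refine mono_of_two_zeros h2 hn hdd hperm hfix hg hS (c := c) fun i hi => ?_
  by_contra hiS
  have h := congrFun (congrArg (fun h : O ι F => app h (ax c)) hcomm) i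

  rw [app_mul, app_mul, app_dd_ax, if_pos hc, app_neg, app_dd] at h
  simp only [Pi.neg_apply, if_neg hiS] at h
  rw [neg_eq_iff_add_eq_zero, ← two_mul, mul_eq_zero] at h
  exact mem_supp.1 hi (h.resolve_left h2)

theorem mono_all {g : O ι F} (hg : g ∈ K) : Mono g := by
  classical
  haveI : Nonempty ι := Fintype.card_pos_iff.1 (by omega)
  obtain ⟨S, hS⟩ : ∃ S : Finset ι, S.card = 4 := by
    obtain ⟨S, -, hS⟩ := Finset.exists_subset_card_eq (s := (Finset.univ : Finset ι)) (n := 4)
      (by simp; omega)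
    exact ⟨S, hS⟩
  obtain ⟨T, hT⟩ : ∃ T : Finset ι, T.card = 2 := by
    obtain ⟨T, -, hT⟩ := Finset.exists_subset_card_eq (s := (Finset.univ : Finset ι)) (n := 2)
      (by simp; omega)
    exact ⟨T, hT⟩
  obtain ⟨a, b, hab, hTab⟩ := Finset.card_eq_two.1 hT
  have hSK : (dd S : O ι F) ∈ K := hdd S (by rw [hS]; exact ⟨2, rfl⟩)
  have hTK : (dd T : O ι F) ∈ K := hdd T (by rw [hT]; exact even_two)
  obtain ⟨s, hs⟩ : ∃ s, s = g * dd S * g⁻¹ := ⟨_, rfl⟩
  have hsK : s ∈ K := hs ▸ mul_mem (mul_mem hg hSK) (inv_mem hg)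
  -- it suffices that `s` is monomial
  suffices hsm : Mono s by
    have hc := usupp_card_le h2 (hs ▸ hsm : Mono (g * dd S * g⁻¹))
    obtain ⟨c, hc'⟩ := Finset.card_pos.1 (show 0 < S.card by omega)
    exact mono_of_two_zeros h2 hn hdd hperm hfix hg (S := usupp g S) (c := c) (by omega)
      fun i hi => mem_usupp.2 ⟨c, hc', mem_supp.1 hi⟩
  obtain ⟨t, ht⟩ : ∃ t, t = (dd T : O ι F) := ⟨_, rfl⟩
  have htK : t ∈ K := ht ▸ hTK
  have htt : t * t = 1 := ht ▸ dd_mul_self T
  have hss : s * s = 1 := by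
    rw [hs, show g * dd S * g⁻¹ * (g * dd S * g⁻¹) = g * (dd S * dd S) * g⁻¹ by group, dd_mul_self,
      mul_one, mul_inv_cancel]
  obtain ⟨r, hr⟩ : ∃ r, r = t * s := ⟨_, rfl⟩
  have hrK : r ∈ K := hr ▸ mul_mem htK hsK
  have htrt : t * r * t⁻¹ = r⁻¹ := by
    rw [hr, _root_.mul_inv_rev, inv_eq_of_mul_eq_one_right htt, inv_eq_of_mul_eq_one_right hss, ← mul_assoc t t,
      htt, one_mul]
  have htr : ∀ n : ℤ, t * r ^ n * t⁻¹ = r ^ (-n) := fun n => by
    rw [← conj_zpow, htrt, _root_.inv_zpow']
  have hsr : s = t * r := by rw [hr, ← mul_assoc, htt, one_mul]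
  have hconj : ∀ l : ℤ, r ^ (-l) * t * r ^ l = t * r ^ (2 * l) := fun l => by
    rw [← htr l]
    rw [show t * r ^ l * t⁻¹ * t * r ^ l = t * (r ^ l * r ^ l) by group, ← _root_.zpow_add, two_mul]
  have hconj' : ∀ l : ℤ, r ^ (-l) * s * r ^ l = t * r ^ (2 * l + 1) := fun l => by
    rw [hsr, show r ^ (-l) * (t * r) * r ^ l = (r ^ (-l) * t * r ^ l) * r by group, hconj]
    rw [mul_assoc, ← _root_.zpow_add_one]
  rcases Nat.even_or_odd (orderOf r) with hN | hN
  · obtain ⟨m, hm⟩ := hN
    have hpos : 0 < orderOf r := orderOf_pos r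
    obtain ⟨z, hz⟩ : ∃ z, z = r ^ (m : ℤ) := ⟨_, rfl⟩
    have hz1 : z ≠ 1 := fun e => by
      rw [hz, zpow_natCast] at e
      have := Nat.le_of_dvd (by omega) (orderOf_dvd_of_pow_eq_one e)
      omega
    have hzinv : z⁻¹ = z := inv_eq_of_mul_eq_one_right (by
      rw [hz, zpow_natCast, ← pow_add, ← hm, pow_orderOf_eq_one])
    have hzt : t * z = z * t := by
      have := htr (m : ℤ)
      rw [_root_.zpow_neg, ← hz, hzinv, mul_inv_eq_iff_eq_mul] at this
      exact this
    have hzs : s * z = z * s := by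
      rw [hsr, mul_assoc, show r * z = z * r by
        rw [hz]; exact (Commute.self_zpow r _).eq, ← mul_assoc, hzt, mul_assoc]
    have hzK : z ∈ K := hz ▸ zpow_mem hrK _
    -- `t * z` is a conjugate of `t` or `s`
    obtain ⟨W, hW, hzW⟩ : ∃ W : Finset ι, W.card ≤ 4 ∧ t * z = dd W := by
      have hzmono : Mono z := mono_of_commute h2 hn hdd hperm hfix hzK (S := T) (c := a)
        (by rw [hTab]; simp) (by omega) (by rw [← ht]; exact hzt.symm)
      have humono : Mono (t * z) := (ht ▸ mono_dd T : Mono t).mul hzmono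
      rcases Int.even_or_odd (m : ℤ) with ⟨l, hl⟩ | ⟨l, hl⟩
      · have e : t * z = r ^ (-l) * dd T * (r ^ (-l))⁻¹ := by
          rw [← _root_.zpow_neg, neg_neg, ← ht, hconj, hz, hl, ← two_mul]
        rw [e] at humono ⊢
        subst hTab
        have := mono_of_pair h2 hn hdd hperm hfix (zpow_mem hrK _) hab humono
        obtain ⟨W, hW, hW'⟩ := mono_conj_dd h2 this {a, b}
        exact ⟨W, by omega, hW'⟩
      · have e : t * z = (r ^ (-l) * g) * dd S * (r ^ (-l) * g)⁻¹ := by
          rw [_root_.mul_inv_rev, ← _root_.zpow_neg, neg_neg,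
            show r ^ (-l) * g * dd S * (g⁻¹ * r ^ l) = r ^ (-l) * (g * dd S * g⁻¹) * r ^ l by group, ← hs,
            hconj', hz, hl]
        rw [e] at humono ⊢
        have hgK : r ^ (-l) * g ∈ K := mul_mem (zpow_mem hrK _) hg
        have hc := usupp_card_le h2 humono
        obtain ⟨c, hc'⟩ := Finset.card_pos.1 (show 0 < S.card by omega)
        have := mono_of_two_zeros h2 hn hdd hperm hfix hgK (S := usupp (r ^ (-l) * g) S) (c := c)
          (by omega) fun i hi => mem_usupp.2 ⟨c, hc', mem_supp.1 hi⟩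
        obtain ⟨W, hW, hW'⟩ := mono_conj_dd h2 this S
        exact ⟨W, by omega, hW'⟩
    have hz' : z = dd (symmDiff T W) := by
      rw [← dd_mul, ← ht, ← hzW, ← mul_assoc, htt, one_mul]
    obtain ⟨c, hc⟩ : (symmDiff T W).Nonempty := by
      rw [Finset.nonempty_iff_ne_empty]
      intro e
      rw [e, dd_empty] at hz'
      exact hz1 hz'
    have hcard : (symmDiff T W).card + 2 ≤ Fintype.card ι := by
      have h1 : symmDiff T W ⊆ T ∪ W := fun i hi => by
        simp only [Finset.mem_symmDiff] at hi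
        simp only [Finset.mem_union]
        tauto
      have := Finset.card_le_card h1
      have := Finset.card_union_le T W
      omega
    exact mono_of_commute h2 hn hdd hperm hfix hsK hc hcard (by rw [← hz']; exact hzs)
  · -- otherwise `t` and `s` are conjugate
    exfalso
    obtain ⟨l, hl⟩ := hN
    obtain ⟨w, hw⟩ : ∃ w, w = r ^ (-((l : ℤ) + 1)) := ⟨_, rfl⟩
    have e : s = w * t * w⁻¹ := by
      rw [hw, ← _root_.zpow_neg, neg_neg, hconj, hsr]
      congr 1
      rw [show (2 : ℤ) * ((l : ℤ) + 1) = ((2 * l + 1 : ℕ) : ℤ) + 1 by push_cast; ring, _root_.zpow_add_one,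
        zpow_natCast, ← hl, pow_orderOf_eq_one, one_mul]
    have e' : (w⁻¹ * g) * dd S * (w⁻¹ * g)⁻¹ = dd T := by
      rw [show (w⁻¹ * g) * dd S * (w⁻¹ * g)⁻¹ = w⁻¹ * (g * dd S * g⁻¹) * w by group, ← hs, e, ← ht]
      group
    obtain ⟨h, hh⟩ : ∃ h, h = w⁻¹ * g := ⟨_, rfl⟩
    rw [← hh] at e'
    have hsub : ∀ c ∈ S, ∀ i ∉ T, app h (ax c) i = 0 := by
      intro c hc i hi
      have h' := congrFun (congrArg (fun q : O ι F => app q (app h (ax c))) e') i

      rw [app_mul, app_mul, app_inv_app, app_dd_ax, if_pos hc, app_neg, app_dd] at h'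
      simp only [Pi.neg_apply, if_neg hi] at h'
      rw [neg_eq_iff_add_eq_zero, ← two_mul, mul_eq_zero] at h'
      exact h'.resolve_left h2
    have := card_le_of_orth (F := F) (A := S) (B := T) (fun x y => app h (ax x.1) y.1) (fun _ => 1)
      (fun _ => one_ne_zero) (fun x y => by
        rw [Finset.sum_coe_sort T fun j => app h (ax x.1) j * app h (ax y.1) j,
          Finset.sum_subset (Finset.subset_univ _) fun i _ hi => by
            rw [hsub x.1 x.2 i hi, zero_mul]]
        change app h (ax x.1) ⬝ᵥ app h (ax y.1) = _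
        rw [app_ax_dot h2]
        by_cases hac : x = y
        · rw [if_pos hac, if_pos (congrArg Subtype.val hac)]
        · rw [if_neg hac, if_neg fun e => hac (Subtype.ext e)])
    simp at this
    omega

end main

end Cfsg.Agent.Lib.OrthFrame
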