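import Cfsg.Agent.Lib.OrthFrame.Std

/-!
All products of two unit reflections generate `Ω`; extending membership to all unit vectors.
-/

set_option autoImplicit false
set_option linter.unusedSectionVars false

namespace Cfsg.Agent.Lib.OrthFrame

open Matrix QuadraticMap Cfsg.Agent.Lib.Orth

variable {ι : Type} [Fintype ι] [DecidableEq ι] {F : Type*} [Field F]

theorem exists_aniso (h2 : (2 : F) ≠ 0) (W : Submodule F (ι → F))
    (h : Fintype.card ι < 2 * Module.finrank F W) : ∃ w ∈ W, w ⬝ᵥ w ≠ 0 := by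
  by_contra hh
  push Not at hh
  have hp : ∀ x ∈ W, ∀ y ∈ W, x ⬝ᵥ y = 0 := fun x hx y hy => by
    have := hh _ (add_mem hx hy)
    simp only [add_dotProduct, dotProduct_add, hh x hx, hh y hy, dotProduct_comm y x] at this
    have h' : (2 : F) * (x ⬝ᵥ y) = 0 := by linear_combination this
    exact (mul_eq_zero.1 h').resolve_left h2
  let B : LinearMap.BilinForm F (ι → F) := dotProductBilin F F
  have hle : W ≤ B.orthogonal W := fun y hy x hx => hp x hx y hy
  have hB : B.Nondegenerate := ⟨fun x hx => funext fun i => by simpa [B] using hx (ax i),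
    fun y hy => funext fun i => by simpa [B, ax] using hy (ax i)⟩
  have hr : B.IsRefl := fun x y e => by
    show y ⬝ᵥ x = 0
    rw [dotProduct_comm]; exact e
  have := Submodule.finrank_mono hle
  rw [LinearMap.BilinForm.finrank_orthogonal hB, Module.finrank_fintype_fun_eq_card] at this
  omega

/-- The vectors orthogonal to a family. -/
def perpDot {k : ℕ} (f : Fin k → ι → F) : Submodule F (ι → F) :=
  LinearMap.ker (LinearMap.pi fun i => dotProductBilin F F (f i) : (ι → F) →ₗ[F] (Fin k → F))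

theorem mem_perpDot {k : ℕ} {f : Fin k → ι → F} {w : ι → F} (h : w ∈ perpDot f) (i : Fin k) :
    f i ⬝ᵥ w = 0 := congrFun (LinearMap.mem_ker.1 h) i

theorem finrank_ker_dot {k : ℕ} (f : Fin k → ι → F) :
    Fintype.card ι ≤ Module.finrank F (perpDot f) + k := by
  unfold perpDot
  have h1 := LinearMap.finrank_range_add_finrank_ker
    (LinearMap.pi fun i => dotProductBilin F F (f i) : (ι → F) →ₗ[F] (Fin k → F))
  have h2 := Submodule.finrank_le (LinearMap.range
    (LinearMap.pi fun i => dotProductBilin F F (f i) : (ι → F) →ₗ[F] (Fin k → F)))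
  rw [Module.finrank_fintype_fun_eq_card] at h1 h2
  simp only [Fintype.card_fin] at h2
  omega

variable [Finite F]

theorem exists_unit_perp (h2 : (2 : F) ≠ 0) (hn : 7 ≤ Fintype.card ι) (u v : ι → F) :
    ∃ z : ι → F, z ⬝ᵥ z = 1 ∧ u ⬝ᵥ z = 0 ∧ v ⬝ᵥ z = 0 := by
  obtain ⟨a, ha, ha'⟩ := exists_aniso h2 (perpDot ![u, v]) (by have := finrank_ker_dot ![u, v]; omega)
  obtain ⟨b, hb, hb'⟩ := exists_aniso h2 (perpDot ![u, v, a])
    (by have := finrank_ker_dot ![u, v, a]; omega)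
  have hua : u ⬝ᵥ a = 0 := mem_perpDot ha 0
  have hva : v ⬝ᵥ a = 0 := mem_perpDot ha 1
  have hub : u ⬝ᵥ b = 0 := mem_perpDot hb 0
  have hvb : v ⬝ᵥ b = 0 := mem_perpDot hb 1
  have hab : a ⬝ᵥ b = 0 := mem_perpDot hb 2
  obtain ⟨s, t, hst⟩ := exists_value_of_orth (Q := dotQ ι F) h2 (u := a) (v := b) ha' hb'
    (by rw [dotQ_polar, hab, mul_zero]) 1
  exact ⟨_, hst, by simp [dotProduct_add, hua, hub], by simp [dotProduct_add, hva, hvb]⟩

/-- The product of two reflections along a singular vector. -/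
theorem app_rr_rr {a u : ι → F} (ha : a ⬝ᵥ a = 1) (hu : u ⬝ᵥ u = 0) (hau : a ⬝ᵥ u = 0)
    (hb : (a + u) ⬝ᵥ (a + u) = 1) (x : ι → F) :
    app (rr a ha * rr (a + u) hb) x =
      x + (2 * (u ⬝ᵥ x)) • a - (2 * (a ⬝ᵥ x) + 2 * (u ⬝ᵥ x)) • u := by
  rw [app_mul, app_rr, app_rr]
  simp only [rf, dotProduct_sub, dotProduct_smul, dotProduct_add, add_dotProduct, ha, hau, smul_eq_mul]
  funext i
  simp only [Pi.sub_apply, Pi.add_apply, Pi.smul_apply, smul_eq_mul]
  ring

theorem omega_le_of_pairs (h2 : (2 : F) ≠ 0) (hn : 7 ≤ Fintype.card ι) (K : Subgroup (O ι F))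
    (h : ∀ (v w : ι → F) (hv : v ⬝ᵥ v = 1) (hw : w ⬝ᵥ w = 1), rr v hv * rr w hw ∈ K) :
    Omega F ⇑(dotQ ι F) ≤ K := by
  rw [omega_eq_siegelGroup h2 (dotQ_nondeg h2) (by omega), siegelGroup, Subgroup.closure_le]
  intro g hg
  obtain ⟨u, v, hu, hv, huv, c, rfl⟩ := exists_eq_siegel hg
  have huu : u ⬝ᵥ u = 0 := hu
  have hvv : v ⬝ᵥ v = 0 := hv
  have huv' : u ⬝ᵥ v = 0 := by
    rw [dotQ_polar] at huv
    exact (mul_eq_zero.1 huv).resolve_left h2
  obtain ⟨z, hz, huz, hvz⟩ := exists_unit_perp h2 hn u v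
  obtain ⟨a, hadef⟩ : ∃ a, a = c • v + z := ⟨_, rfl⟩
  obtain ⟨b, hbdef⟩ : ∃ b, b = -z := ⟨_, rfl⟩
  have ha : a ⬝ᵥ a = 1 := by
    simp [hadef, add_dotProduct, dotProduct_add, hvv, hz, hvz, dotProduct_comm z v]
  have hb : b ⬝ᵥ b = 1 := by simp [hbdef, hz]
  have hau : a ⬝ᵥ u = 0 := by
    simp [hadef, add_dotProduct, dotProduct_comm v u, huv', dotProduct_comm z u, huz]
  have hbu : b ⬝ᵥ u = 0 := by simp [hbdef, dotProduct_comm z u, huz]
  have hau' : (a + u) ⬝ᵥ (a + u) = 1 := by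
    simp [add_dotProduct, dotProduct_add, ha, huu, hau, dotProduct_comm u a]
  have hbu' : (b + u) ⬝ᵥ (b + u) = 1 := by
    simp [add_dotProduct, dotProduct_add, hb, huu, hbu, dotProduct_comm u b]
  have hab : a ⬝ᵥ b = -1 := by simp [hadef, hbdef, add_dotProduct, hvz, hz]
  have e : siegel (dotQ ι F) u v hu hv huv c =
      (rr a ha * rr (a + u) hau') * (rr b hb * rr (b + u) hbu') := isometry_ext fun x => by
    rw [app_siegel, app_mul (rr a ha * rr (a + u) hau'), app_rr_rr ha huu hau, app_rr_rr hb huu hbu,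
      dotQ_polar, dotQ_polar]
    simp only [dotProduct_add, dotProduct_sub, dotProduct_smul, huu, hau, hab, dotProduct_comm u b,
      hbu, smul_eq_mul]
    funext i
    have hi : a i + b i = c * v i := by simp [hadef, hbdef]
    have hx : a ⬝ᵥ x + b ⬝ᵥ x = c * (v ⬝ᵥ x) := by simp [hadef, hbdef, add_dotProduct]
    simp only [Pi.sub_apply, Pi.add_apply, Pi.smul_apply, smul_eq_mul]
    linear_combination (-2 * (u ⬝ᵥ x)) * hi + (2 * u i) * hx
  rw [SetLike.mem_coe, e]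
  exact mul_mem (h _ _ _ _) (h _ _ _ _)

omit [Finite F] in
theorem exists_four (h2 : (2 : F) ≠ 0) (hn : 6 ≤ Fintype.card ι) {v : ι → F} (hv : ∀ i, v i ≠ 0) (i : ι) :
    ∃ b : Fin 4 → ι, Function.Injective b ∧ (∀ l, b l ≠ i) ∧ ∑ l, v (b l) * v (b l) ≠ 0 := by
  classical
  obtain ⟨e⟩ : Nonempty (Fin 5 ↪ {j // j ≠ i}) :=
    Function.Embedding.nonempty_of_card_le (by simp; omega)
  by_contra hh
  push Not at hh
  have h : ∀ r : Fin 5, ∑ l : Fin 4, v (e (r.succAbove l)).1 * v (e (r.succAbove l)).1 = 0 := fun r =>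
    hh (fun l => (e (r.succAbove l)).1)
      (fun x y exy => Fin.succAbove_right_injective (e.injective (Subtype.ext exy))) (fun l => (e _).2)
  have key : ∀ r : Fin 5, v (e r).1 * v (e r).1 = ∑ l : Fin 5, v (e l).1 * v (e l).1 := fun r => by
    rw [Fin.sum_univ_succAbove _ r, h r, add_zero]
  have : (4 : F) * ∑ l : Fin 5, v (e l).1 * v (e l).1 = 0 := by
    have h5 : ∑ l : Fin 5, v (e l).1 * v (e l).1 = ∑ _l : Fin 5, ∑ l : Fin 5, v (e l).1 * v (e l).1 :=
      Finset.sum_congr rfl fun l _ => key l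
    simp at h5
    linear_combination -h5
  have h4 : (4 : F) ≠ 0 := by
    have := mul_ne_zero h2 h2
    norm_num at this; exact this
  have h0 := key 0
  rw [(mul_eq_zero.1 this).resolve_left h4] at h0
  exact hv _ (mul_self_eq_zero.1 h0)

/-- Every unit vector is a reflection image of one with a zero coordinate, by one with a zero. -/
theorem exists_rf_zero (h2 : (2 : F) ≠ 0) (hn : 6 ≤ Fintype.card ι) {v : ι → F}
    (hv : ∀ i, v i ≠ 0) (i : ι) :
    ∃ x : ι → F, x ⬝ᵥ x = 1 ∧ (∃ j, x j = 0) ∧ rf x v i = 0 := by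
  classical
  obtain ⟨b, hb, hbi, hN⟩ := exists_four h2 (by omega) hv i
  obtain ⟨w, hw⟩ : ∃ w : Fin 4 → F, w = fun l => v (b l) := ⟨_, rfl⟩
  have hw0 : dotQ (Fin 4) F w ≠ 0 := by rw [hw, dotQ_apply]; exact hN
  obtain ⟨z0, hz0, hp0, hq, hq'⟩ := exists_extend (Q := dotQ (Fin 4) F) h2 (dotQ_nondeg h2) (v := ![w])
    (fun a c e => absurd (Subsingleton.elim a c) e) (fun a => by fin_cases a; exact hw0) (by simp)
  obtain ⟨z1, hz1, hp1, -, -⟩ := exists_extend h2 (dotQ_nondeg h2) hq hq' (by simp)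
  have d0 : w ⬝ᵥ z0 = 0 := (mul_eq_zero.1 ((dotQ_polar w z0) ▸ (hp0 0))).resolve_left h2
  have d1 : w ⬝ᵥ z1 = 0 := by
    have := hp1 (0 : Fin 1).castSucc
    rw [Fin.snoc_castSucc] at this
    exact (mul_eq_zero.1 ((dotQ_polar w z1) ▸ this)).resolve_left h2
  have d01 : polar ⇑(dotQ (Fin 4) F) z0 z1 = 0 := by
    have := hp1 (Fin.last 1); rwa [Fin.snoc_last] at this
  obtain ⟨κ, hκ⟩ : ∃ κ, κ = (1 - v i / 2 * v i) / (w ⬝ᵥ w) := ⟨_, rfl⟩
  obtain ⟨s, t, hst⟩ := exists_value_of_orth h2 hz0 hz1 d01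
    (1 - v i / 2 * (v i / 2) - κ * κ * (w ⬝ᵥ w))
  obtain ⟨z, hz⟩ : ∃ z : Fin 4 → F, z = κ • w + (s • z0 + t • z1) := ⟨_, rfl⟩
  have hwz : w ⬝ᵥ z = 1 - v i / 2 * v i := by
    rw [hz, dotProduct_add, dotProduct_add, dotProduct_smul, dotProduct_smul, dotProduct_smul, d0, d1,
      smul_zero, smul_zero, add_zero, add_zero, smul_eq_mul, hκ, div_mul_cancel₀]
    exact hw0
  have hzz : z ⬝ᵥ z = 1 - v i / 2 * (v i / 2) := by
    have hh : w ⬝ᵥ (s • z0 + t • z1) = 0 := by simp [dotProduct_add, d0, d1]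
    rw [dotQ_apply] at hst
    rw [hz, add_dotProduct, dotProduct_add (κ • w) (κ • w), dotProduct_add (s • z0 + t • z1) (κ • w), hst,
      smul_dotProduct, smul_dotProduct, dotProduct_smul, dotProduct_smul, hh]
    rw [dotProduct_comm] at hh
    rw [hh]
    simp only [smul_eq_mul]; ring
  obtain ⟨x, hx⟩ : ∃ x : ι → F, x = (v i / 2) • ax i + vec b z := ⟨_, rfl⟩
  have hxi : x i = v i / 2 := by simp [hx, vec_apply_out _ hbi, ax]
  have hxv : x ⬝ᵥ v = 1 := by
    have hwz' : ∑ l, z l * v (b l) = w ⬝ᵥ z := by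
      rw [hw, dotProduct]; exact Finset.sum_congr rfl fun l _ => mul_comm _ _
    rw [hx, add_dotProduct, smul_dotProduct, ax_dot, vec_dot, hwz', hwz, smul_eq_mul]
    ring
  refine ⟨x, ?_, ?_, ?_⟩
  · rw [hx, add_dotProduct, dotProduct_add, dotProduct_add, smul_dotProduct, smul_dotProduct,
      dotProduct_smul, dotProduct_smul, ax_dot, ax_dot, dot_ax, vec_apply_out _ hbi, vec_dot_vec hb]
    change _ + (_ + z ⬝ᵥ z) = _
    rw [hzz, ax_apply_same]
    simp only [smul_eq_mul]; ring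
  · obtain ⟨j, hj⟩ : ∃ j, j ∈ (insert i (Finset.univ.image b))ᶜ := by
      apply Finset.Nonempty.exists_mem
      rw [← Finset.card_pos, Finset.card_compl]
      have := Finset.card_insert_le i (Finset.univ.image b)
      have := Finset.card_image_le (s := (Finset.univ : Finset (Fin 4))) (f := b)
      simp at this
      omega
    simp at hj
    exact ⟨j, by simp [hx, vec_apply_out _ hj.2, ax, hj.1]⟩
  · show v i - (2 * (x ⬝ᵥ v)) * x i = 0
    rw [hxv, hxi]; field_simp; ring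

/-- Closing the pairs with a zero coordinate under reflections. -/
theorem pairs_of_zero (h2 : (2 : F) ≠ 0) (hn : 6 ≤ Fintype.card ι) (K : Subgroup (O ι F)) (o : ι)
    (h : ∀ (v : ι → F) (hv : v ⬝ᵥ v = 1), (∃ j, v j = 0) → rr v hv * rr (ax o) (ax_unit o) ∈ K)
    (v w : ι → F) (hv : v ⬝ᵥ v = 1) (hw : w ⬝ᵥ w = 1) : rr v hv * rr w hw ∈ K := by
  obtain ⟨r0, hr0⟩ : ∃ r0, r0 = rr (ax o : ι → F) (ax_unit o) := ⟨_, rfl⟩
  have hsq : r0 * r0 = 1 := hr0 ▸ rr_mul_self _
  rw [← hr0] at h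
  have key : ∀ (u : ι → F) (hu : u ⬝ᵥ u = 1), rr u hu * r0 ∈ K := by
    intro u hu
    by_cases hz : ∃ j, u j = 0
    · exact h u hu hz
    push Not at hz
    obtain ⟨x, hx, hxz, hxi⟩ := exists_rf_zero h2 hn hz o
    have hy : rf x u ⬝ᵥ rf x u = 1 := by rw [rf_dot hx, hu]
    have e : rr u hu = rr x hx * rr (rf x u) hy * rr x hx := by
      conv_rhs => arg 2; rw [← rr_inv hx]
      rw [conj_rr h2]
      exact rr_congr _ _ (by rw [app_rr, rf_rf hx])
    have hxK := h x hx hxz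
    have hyK := h _ hy ⟨o, hxi⟩
    have e2 : rr u hu * r0 = (rr x hx * r0) * (rr (rf x u) hy * r0)⁻¹ * (rr x hx * r0) := by
      rw [e, _root_.mul_inv_rev, rr_inv, inv_eq_of_mul_eq_one_right hsq,
        show (rr x hx * r0) * (r0 * rr (rf x u) hy) = rr x hx * rr (rf x u) hy by
          rw [mul_assoc, ← mul_assoc r0, hsq, one_mul], ← mul_assoc]
    rw [e2]
    exact mul_mem (mul_mem hxK (inv_mem hyK)) hxK
  have e : rr v hv * rr w hw = (rr v hv * r0) * (rr w hw * r0)⁻¹ := by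
    rw [_root_.mul_inv_rev, rr_inv, inv_eq_of_mul_eq_one_right hsq, mul_assoc, ← mul_assoc r0, hsq, one_mul]
  rw [e]
  exact mul_mem (key v hv) (inv_mem (key w hw))

end Cfsg.Agent.Lib.OrthFrame
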