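import Cfsg.Agent.Lib.OrthFrame.RootThm
import Cfsg.Agent.Lib.OrthFrame.Pairs
import Cfsg.Agent.Lib.OrthFrame.Fusion

/-!
Subgroups of `Ω` over the monomial part are monomial or everything.
-/

set_option autoImplicit false
set_option linter.unusedSectionVars false

namespace Cfsg.Agent.Lib.OrthFrame

open Matrix Cfsg.Agent.Lib.Orth

variable {ι : Type} [Fintype ι] [DecidableEq ι] {F : Type*} [Field F] [Fintype F]
  (h2 : (2 : F) ≠ 0) (hp : (Fintype.card F).Prime) {K : Subgroup (O ι F)}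
  (hdd : ∀ S : Finset ι, Even S.card → dd S ∈ K)
  (hperm : ∀ σ : Equiv.Perm ι, Equiv.Perm.sign σ = 1 → pG σ ∈ K)
include h2 hp hdd hperm

/-- The odd-dimensional case. -/
theorem mono_or_pairs_odd (hn : Fintype.card ι = 5 ∨ Fintype.card ι = 7 ∨ 9 ≤ Fintype.card ι) (hodd : Odd (Fintype.card ι)) :
    (∀ k ∈ K, Mono k) ∨
      ∀ (v w : ι → F) (hv : v ⬝ᵥ v = 1) (hw : w ⬝ᵥ w = 1), rr v hv * rr w hw ∈ K := by
  classical
  obtain ⟨R, hR⟩ : ∃ R : Set (ι → F), R = {v | ∃ k ∈ K, ∃ e, app k (ax e) = v} := ⟨_, rfl⟩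
  have hD : ∀ a : ι, (dd {a}ᶜ : O ι F) ∈ K := fun a => hdd _ (by
    rw [Finset.card_compl, Finset.card_singleton]
    obtain ⟨l, hl⟩ := hodd
    exact ⟨l, by omega⟩)
  have hDr : ∀ a : ι, (dd {a}ᶜ : O ι F) = dd Finset.univ * rr (ax a) (ax_unit a) := fun a => by
    rw [← dd_singleton, dd_mul]; congr 1
    ext i; simp [Finset.mem_symmDiff]
  have hneg : ∀ v ∈ R, -v ∈ R := by
    rw [hR]
    rintro _ ⟨k, hk, e, rfl⟩
    obtain ⟨x, hx⟩ : ∃ x, x ≠ e := Fintype.exists_ne_of_one_lt_card (by omega) e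
    exact ⟨k * dd {e, x}, mul_mem hk (hdd _ (by rw [Finset.card_pair (Ne.symm hx)]; exact even_two)), e,
      by rw [app_mul, app_dd_ax, if_pos (by simp), app_neg]⟩
  have hsys : RootSys R := by
    refine ⟨?_, fun a => ?_, ?_, ?_, ?_⟩
    · rw [hR]; rintro _ ⟨k, -, e, rfl⟩; exact app_unit h2 k (ax_unit e)
    · rw [hR]; exact ⟨1, one_mem K, a, app_one _⟩
    · intro v hv w hw
      rw [hR] at hv hw
      obtain ⟨k, hk, a, rfl⟩ := hv
      obtain ⟨k', hk', b, rfl⟩ := hw
      have h1 : -rf (app k (ax a)) (app k' (ax b)) ∈ R := by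
        rw [hR]
        refine ⟨k * dd {a}ᶜ * k⁻¹ * k', mul_mem (mul_mem (mul_mem hk (hD a)) (inv_mem hk)) hk', b, ?_⟩
        rw [hDr, ← mul_assoc k, ← dd_univ_comm k, mul_assoc (dd Finset.univ) k, mul_assoc (dd Finset.univ),
          conj_rr h2, app_mul, app_mul, app_rr, app_dd]
        funext i; simp
      simpa using hneg _ h1
    · rw [hR]
      rintro σ hσ _ ⟨k, hk, e, rfl⟩
      exact ⟨pG σ⁻¹ * k, mul_mem (hperm _ (by simp [hσ])) hk, e, by rw [app_mul, app_pG, inv_inv]⟩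
    · intro v hv a
      rw [hR] at hv
      obtain ⟨k, hk, b, rfl⟩ := hv
      obtain ⟨σ, hσ, hσa⟩ := exists_even_perm {a} (fun _ => b) (by simp) (by simp; omega)
      have hg : k * pG σ ∈ K := mul_mem hk (hperm σ hσ)
      refine ⟨toLin (k * pG σ), ?_, fun x y => app_dot h2 _ x y, ?_, ?_⟩
      · show app (k * pG σ) (ax a) = _
        rw [app_mul, app_pG_ax, hσa a (Finset.mem_singleton_self a)]
      · rw [hR]
        rintro _ ⟨k', hk', e, rfl⟩
        exact ⟨k * pG σ * k', mul_mem hg hk', e, app_mul _ _ _⟩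
      · rw [hR]
        rintro _ ⟨k', hk', e, rfl⟩
        exact ⟨(k * pG σ)⁻¹ * k', mul_mem (inv_mem hg) hk', e, app_mul _ _ _⟩
  rcases hsys.axes_or_all hp h2 hn with h | h
  · refine Or.inl fun k hk a => h _ ?_
    rw [hR]; exact ⟨k, hk, a, rfl⟩
  · refine Or.inr fun v w hv hw => ?_
    have hv' := h v hv
    have hw' := h w hw
    rw [hR] at hv' hw'
    obtain ⟨k, hk, a, rfl⟩ := hv'
    obtain ⟨k', hk', b, rfl⟩ := hw'
    have hc : ∀ (k : O ι F) (a : ι), rr (app k (ax a)) (app_unit h2 k (ax_unit a)) =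
        dd Finset.univ * (k * dd {a}ᶜ * k⁻¹) := fun k a => by
      rw [hDr, ← mul_assoc k, ← dd_univ_comm k, mul_assoc (dd Finset.univ) k, mul_assoc (dd Finset.univ),
        conj_rr h2, ← mul_assoc, dd_mul_self, one_mul]
    have e : rr (app k (ax a)) hv * rr (app k' (ax b)) hw =
        (k * dd {a}ᶜ * k⁻¹) * (k' * dd {b}ᶜ * k'⁻¹) := by
      rw [hc k a, hc k' b, mul_assoc (dd Finset.univ) (k * dd {a}ᶜ * k⁻¹),
        ← mul_assoc (k * dd {a}ᶜ * k⁻¹) (dd Finset.univ), ← dd_univ_comm (k * dd {a}ᶜ * k⁻¹),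
        mul_assoc (dd Finset.univ) (k * dd {a}ᶜ * k⁻¹), ← mul_assoc (dd Finset.univ) (dd Finset.univ),
        dd_mul_self, one_mul]
    rw [e]
    exact mul_mem (mul_mem (mul_mem hk (hD a)) (inv_mem hk)) (mul_mem (mul_mem hk' (hD b)) (inv_mem hk'))

omit h2 hp hdd hperm in
/-- Extension of a vector by zero at one coordinate. -/
def extC (c : ι) (v : {i // i ≠ c} → F) : ι → F := fun i => if h : i = c then 0 else v ⟨i, h⟩

omit h2 hp hdd hperm in
theorem extC_dot (c : ι) (v w : {i // i ≠ c} → F) : extC c v ⬝ᵥ extC c w = v ⬝ᵥ w := by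
  simp only [dotProduct]
  rw [← Finset.sum_erase (Finset.univ) (a := c) (by simp [extC]),
    Finset.sum_subtype (p := fun i => i ≠ c) _ (by simp) fun i => extC c v i * extC c w i]
  exact Finset.sum_congr rfl fun i _ => by simp [extC, i.2]

omit h2 hp hdd hperm in
theorem extC_res {c : ι} {v : ι → F} (h : v c = 0) : extC c (fun i => v i.1) = v := by
  funext i
  by_cases hi : i = c
  · subst hi; simp [extC, h]
  · simp [extC, hi]

omit h2 hp hdd hperm in
theorem extC_ax (c : ι) (a : {i // i ≠ c}) : extC c (ax a : {i // i ≠ c} → F) = ax a.1 := by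
  funext i
  by_cases hi : i = c
  · subst hi; simp [extC, ax, Ne.symm a.2]
  · by_cases h : i = a.1
    · subst h; simp [extC, ax, a.2]
    · simp [extC, ax, hi, h, Subtype.ext_iff]

omit h2 hp hdd hperm in
theorem extC_apply (c : ι) (v : {i // i ≠ c} → F) : extC c v c = 0 := by simp [extC]

omit h2 hp hdd hperm in
theorem res_extC (c : ι) (v : {i // i ≠ c} → F) : (fun i : {i // i ≠ c} => extC c v i.1) = v := by
  funext i; simp [extC, i.2]

omit h2 hp hdd hperm in
theorem extC_add (c : ι) (v w : {i // i ≠ c} → F) : extC c (v + w) = extC c v + extC c w := by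
  funext i; by_cases hi : i = c <;> simp [extC, hi]

omit h2 hp hdd hperm in
theorem extC_smul (c : ι) (s : F) (v : {i // i ≠ c} → F) : extC c (s • v) = s • extC c v := by
  funext i; by_cases hi : i = c <;> simp [extC, hi]

omit hp hdd hperm in
theorem app_perp {k : O ι F} {c : ι} (hk : app k (ax c) = ax c) {x : ι → F} (hx : x c = 0) :
    app k x c = 0 := by
  rw [← dot_ax (app k x) c, ← hk, app_dot h2, dot_ax, hx]

/-- One axis stabiliser. -/
theorem mono_or_units (hn : Fintype.card ι = 6 ∨ 10 ≤ Fintype.card ι) (heven : Even (Fintype.card ι)) (c : ι) :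
    (∀ k ∈ K, app k (ax c) = ax c → Mono k) ∨
      ∀ (v : ι → F) (hv : v ⬝ᵥ v = 1), v c = 0 → rr v hv * rr (ax c) (ax_unit c) ∈ K := by
  classical
  have hcard : Fintype.card {i // i ≠ c} = 5 ∨ 9 ≤ Fintype.card {i // i ≠ c} := by simp; omega
  have hD : ∀ a : ι, a ≠ c → (dd {a, c}ᶜ : O ι F) ∈ K := fun a ha => hdd _ (by
    rw [Finset.card_compl, Finset.card_pair ha]
    obtain ⟨l, hl⟩ := heven
    exact ⟨l - 1, by omega⟩)
  obtain ⟨R, hR⟩ : ∃ R : Set ({i // i ≠ c} → F), R =
      {v | ∃ k ∈ K, app k (ax c) = ax c ∧ ∃ a : {i // i ≠ c}, app k (ax a.1) = extC c v} := ⟨_, rfl⟩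
  have hneg : ∀ v ∈ R, -v ∈ R := by
    rw [hR]
    rintro v ⟨k, hk, hkc, a, e⟩
    obtain ⟨x, hx⟩ : ∃ x, x ∈ ({a.1, c} : Finset ι)ᶜ := by
      apply Finset.Nonempty.exists_mem
      rw [← Finset.card_pos, Finset.card_compl, Finset.card_pair a.2]; omega
    simp at hx
    refine ⟨k * dd {a.1, x}, mul_mem hk (hdd _ (by rw [Finset.card_pair (Ne.symm hx.1)]; exact even_two)),
      ?_, a, ?_⟩
    · rw [app_mul, app_dd_ax, if_neg (by simp [Ne.symm a.2, Ne.symm hx.2]), hkc]
    · rw [app_mul, app_dd_ax, if_pos (by simp), app_neg, e]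
      funext i; by_cases hi : i = c <;> simp [extC, hi]
  have hsys : RootSys R := by
    refine ⟨?_, fun a => ?_, ?_, ?_, ?_⟩
    · rw [hR]; rintro v ⟨k, -, -, a, e⟩
      rw [← extC_dot c, ← e]; exact app_unit h2 k (ax_unit _)
    · rw [hR]; exact ⟨1, one_mem K, app_one _, a, by rw [app_one, extC_ax]⟩
    · intro v hv w hw
      rw [hR] at hv hw
      obtain ⟨k, hk, hkc, a, e⟩ := hv
      obtain ⟨k', hk', hkc', b, e'⟩ := hw
      have h1 : -rf v w ∈ R := by
        rw [hR]
        refine ⟨k * dd {a.1, c}ᶜ * k⁻¹ * k',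
          mul_mem (mul_mem (mul_mem hk (hD _ a.2)) (inv_mem hk)) hk', ?_, b, ?_⟩
        · have : app k⁻¹ (ax c) = ax c := by conv_lhs => rw [← hkc, app_inv_app]
          rw [app_mul, hkc', app_mul, app_mul, this, app_dd_ax, if_neg (by simp), hkc]
        · have hsum : ({a.1, c} : Finset ι)ᶜ = symmDiff Finset.univ {a.1, c} := by
            ext i; simp [Finset.mem_symmDiff]
          have he : k * dd {a.1, c}ᶜ * k⁻¹ =
              dd Finset.univ * (rr (app k (ax a.1)) (app_unit h2 k (ax_unit _)) *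
                rr (app k (ax c)) (app_unit h2 k (ax_unit _))) := by
            rw [hsum, ← dd_mul, dd_pair a.2, ← conj_rr h2 k (ax_unit a.1), ← conj_rr h2 k (ax_unit c), ← mul_assoc k,
              ← dd_univ_comm k]
            group
          have hw0 : extC c w c = 0 := extC_apply c w
          rw [he, app_mul, app_mul, app_mul, app_rr, app_rr, e, e', hkc,
            rf_of_orth (v := ax c) (by rw [ax_dot, hw0]), app_dd]
          funext i
          simp only [Finset.mem_univ, if_true, rf, extC_dot]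
          by_cases hi : i = c <;> simp [extC, hi]
      simpa using hneg _ h1
    · rw [hR]
      rintro σ hσ v ⟨k, hk, hkc, a, e⟩
      obtain ⟨τ, hτ⟩ : ∃ τ : Equiv.Perm ι, τ = Equiv.Perm.ofSubtype σ⁻¹ := ⟨_, rfl⟩
      refine ⟨pG τ * k, mul_mem (hperm τ (by simp [hτ, hσ])) hk, ?_, a, ?_⟩
      · rw [app_mul, hkc, app_pG_ax, hτ, Equiv.Perm.ofSubtype_apply_of_not_mem _ (by simp)]
      · rw [app_mul, e, app_pG, hτ, ← map_inv, inv_inv]
        funext i
        by_cases hi : i = c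
        · subst hi
          simp [extC, Equiv.Perm.ofSubtype_apply_of_not_mem]
        · simp [extC, hi, Equiv.Perm.ofSubtype_apply_of_mem σ hi, (σ ⟨i, hi⟩).2]
    · intro v hv a
      rw [hR] at hv
      obtain ⟨k, hk, hkc, b, e⟩ := hv
      obtain ⟨σ, hσ, hσa⟩ := exists_even_perm {a.1, c} (fun i => if i = c then c else b.1) (by
        intro x hx y hy exy
        simp at hx hy
        rcases hx with rfl | rfl <;> rcases hy with rfl | rfl <;>
          first | rfl | (simp [a.2] at exy; exact absurd exy (by first | exact b.2 | exact Ne.symm b.2)))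
        (by have := Finset.card_le_two (a := a.1) (b := c); omega)
      obtain ⟨g, hgdef⟩ : ∃ g, g = k * pG σ := ⟨_, rfl⟩
      have hg : g ∈ K := hgdef ▸ mul_mem hk (hperm σ hσ)
      have hgc : app g (ax c) = ax c := by
        rw [hgdef, app_mul, app_pG_ax, hσa c (by simp), if_pos rfl, hkc]
      have hgc' : app g⁻¹ (ax c) = ax c := by conv_lhs => rw [← hgc, app_inv_app]
      obtain ⟨φ, hφ⟩ : ∃ φ : ({i // i ≠ c} → F) ≃ₗ[F] ({i // i ≠ c} → F),
          (∀ x, extC c (φ x) = app g (extC c x)) ∧ ∀ x, extC c (φ.symm x) = app g⁻¹ (extC c x) := by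
        refine ⟨{ toFun := fun x i => app g (extC c x) i.1
                  map_add' := fun x y => by funext i; simp [extC_add, app_add]
                  map_smul' := fun s x => by funext i; simp [extC_smul, app_smul]
                  invFun := fun x i => app g⁻¹ (extC c x) i.1
                  left_inv := fun x => ?_
                  right_inv := fun x => ?_ }, fun x => ?_, fun x => ?_⟩
        · show (fun i : {i // i ≠ c} => app g⁻¹ (extC c (fun j => app g (extC c x) j.1)) i.1) = x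
          rw [extC_res (app_perp h2 hgc (extC_apply c x)), app_inv_app, res_extC]
        · show (fun i : {i // i ≠ c} => app g (extC c (fun j => app g⁻¹ (extC c x) j.1)) i.1) = x
          rw [extC_res (app_perp h2 hgc' (extC_apply c x)), app_app_inv, res_extC]
        · exact extC_res (app_perp h2 hgc (extC_apply c x))
        · exact extC_res (app_perp h2 hgc' (extC_apply c x))
      have hinj : ∀ x y : {i // i ≠ c} → F, extC c x = extC c y → x = y := fun x y h => by
        rw [← res_extC c x, ← res_extC c y, h]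
      refine ⟨φ, hinj _ _ ?_, fun x y => ?_, ?_, ?_⟩
      · rw [hφ.1, extC_ax, hgdef, app_mul, app_pG_ax, hσa _ (by simp), if_neg a.2, e]
      · rw [← extC_dot c, hφ.1, hφ.1, app_dot h2, extC_dot]
      · rw [hR]
        rintro u ⟨k', hk', hkc', d, ed⟩
        exact ⟨g * k', mul_mem hg hk', by rw [app_mul, hkc', hgc], d, by rw [app_mul, ed, hφ.1]⟩
      · rw [hR]
        rintro u ⟨k', hk', hkc', d, ed⟩
        exact ⟨g⁻¹ * k', mul_mem (inv_mem hg) hk', by rw [app_mul, hkc', hgc'], d,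
          by rw [app_mul, ed, hφ.2]⟩
  rcases hsys.axes_or_all hp h2 (hcard.imp id Or.inr) with h | h
  · refine Or.inl fun k hk hkc b => ?_
    by_cases hb : b = c
    · rw [hb, hkc]; exact isAx_ax c
    have hperp := app_perp h2 hkc (x := ax b) (by simp [ax, Ne.symm hb])
    obtain ⟨a, ha⟩ := h (fun i => app k (ax b) i.1) (by
      rw [hR]; exact ⟨k, hk, hkc, ⟨b, hb⟩, (extC_res hperp).symm⟩)
    refine ⟨a.1, ?_⟩
    rcases ha with ha | ha
    · left; rw [← extC_res hperp, ha, extC_ax]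
    · right; rw [← extC_res hperp, ha, ← extC_ax]
      funext i; by_cases hi : i = c <;> simp [extC, hi]
  · refine Or.inr fun v hv hvc => ?_
    have hv' := h (fun i => v i.1) (by rw [← extC_dot c, extC_res hvc, hv])
    rw [hR] at hv'
    obtain ⟨k, hk, hkc, a, e⟩ := hv'
    rw [extC_res hvc] at e
    have e2 : rr v hv * rr (ax c) (ax_unit c) = k * dd {a.1, c} * k⁻¹ := by
      rw [dd_pair a.2, show k * (rr (ax a.1) (ax_unit _) * rr (ax c) (ax_unit c)) * k⁻¹ =
        (k * rr (ax a.1) (ax_unit _) * k⁻¹) * (k * rr (ax c) (ax_unit c) * k⁻¹) by group,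
        conj_rr h2, conj_rr h2]
      congr 1 <;> apply rr_congr
      · exact e.symm
      · exact hkc.symm
    rw [e2]
    exact mul_mem (mul_mem hk (hdd _ (by rw [Finset.card_pair a.2]; exact even_two))) (inv_mem hk)

/-- The dichotomy. -/
theorem mono_or_pairs (hn : Fintype.card ι = 7 ∨ 9 ≤ Fintype.card ι) :
    (∀ k ∈ K, Mono k) ∨
      ∀ (v w : ι → F) (hv : v ⬝ᵥ v = 1) (hw : w ⬝ᵥ w = 1), rr v hv * rr w hw ∈ K := by
  rcases Nat.even_or_odd (Fintype.card ι) with heven | hodd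
  swap
  · exact mono_or_pairs_odd h2 hp hdd hperm (Or.inr hn) hodd
  have hn14 : 10 ≤ Fintype.card ι := by obtain ⟨l, hl⟩ := heven; omega
  by_cases hfix : ∀ k ∈ K, ∀ c, app k (ax c) = ax c → Mono k
  · exact Or.inl fun k hk => mono_all h2 hn14 hdd hperm hfix hk
  push Not at hfix
  obtain ⟨k0, hk0, o, hko, hk0'⟩ := hfix
  have hgood := (mono_or_units h2 hp hdd hperm (Or.inr hn14) heven o).resolve_left fun h => hk0' (h k0 hk0 hko)
  refine Or.inr (pairs_of_zero h2 (by omega) K o fun v hv ⟨j, hj⟩ => ?_)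
  by_cases hjo : j = o
  · exact hgood v hv (hjo ▸ hj)
  obtain ⟨σ, hσ, hσo⟩ := exists_even_perm {j} (fun _ => o) (by simp) (by simp; omega)
  obtain ⟨u, hu⟩ : ∃ u, u = app (pG σ) v := ⟨_, rfl⟩
  have hu1 : u ⬝ᵥ u = 1 := hu ▸ app_unit h2 _ hv
  have hσj : σ j = o := hσo j (Finset.mem_singleton_self j)
  have hu0 : u o = 0 := by
    rw [hu, app_pG, Function.comp_apply, ← hσj, Equiv.Perm.inv_def, Equiv.symm_apply_apply, hj]
  have h1 : (pG σ)⁻¹ * (rr u hu1 * rr (ax o) (ax_unit o)) * (pG σ) ∈ K :=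
    mul_mem (mul_mem (inv_mem (hperm σ hσ)) (hgood u hu1 hu0)) (hperm σ hσ)
  have e1 : (pG σ)⁻¹ * (rr u hu1 * rr (ax o) (ax_unit o)) * (pG σ) = rr v hv * rr (ax j) (ax_unit j) := by
    have a1 : rr u hu1 = pG σ * rr v hv * (pG σ)⁻¹ := by
      rw [conj_rr h2]; exact rr_congr _ _ hu
    have a2 : (rr (ax o) (ax_unit o) : O ι F) = pG σ * rr (ax j) (ax_unit j) * (pG σ)⁻¹ := by
      rw [conj_rr h2]; exact rr_congr _ _ (by rw [app_pG_ax, hσj])
    rw [a1, a2]; group
  have h3 : rr (ax j) (ax_unit j) * rr (ax o) (ax_unit o) ∈ K := by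
    rw [← dd_pair hjo]
    exact hdd _ (by rw [Finset.card_pair hjo]; exact even_two)
  have := mul_mem (e1 ▸ h1) h3
  rwa [mul_assoc, ← mul_assoc (rr (ax j) (ax_unit j)), rr_mul_self, one_mul] at this

omit hdd hperm in
/-- Maximality of the monomial part. -/
theorem frame_maximal (hn : Fintype.card ι = 7 ∨ 9 ≤ Fintype.card ι) :
    monoSub h2 ⊓ Omega F ⇑(dotQ ι F) < Omega F ⇑(dotQ ι F) ∧
    ∀ K : Subgroup (O ι F), monoSub h2 ⊓ Omega F ⇑(dotQ ι F) ≤ K → K ≤ Omega F ⇑(dotQ ι F) →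
      K = monoSub h2 ⊓ Omega F ⇑(dotQ ι F) ∨ K = Omega F ⇑(dotQ ι F) := by
  refine ⟨lt_of_le_of_ne inf_le_right fun e => ?_, fun K hK1 hK2 => ?_⟩
  · -- a reflection pair outside the monomial group
    obtain ⟨b⟩ : Nonempty (Fin 5 ↪ ι) := Function.Embedding.nonempty_of_card_le (by simp; omega)
    obtain ⟨v, hvdef⟩ : ∃ v : ι → F, v = vec (fun l : Fin 4 => b l.castSucc) (fun _ => 1 / 2) := ⟨_, rfl⟩
    have hbinj : Function.Injective fun l : Fin 4 => b l.castSucc :=
      fun x y h => Fin.castSucc_injective _ (b.injective h)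
    have hv : v ⬝ᵥ v = 1 := by
      rw [hvdef, vec_dot_vec hbinj]
      simp
      field_simp
      norm_num
    have hmem := rr_mul_rr_mem h2 (by omega : 2 ≤ Fintype.card ι) hv (ax_unit (b 4))
    rw [← e] at hmem
    obtain ⟨d, hd⟩ := (hmem.1 : Mono _) (b 0)
    have hb0 : v (b 0) = 1 / 2 := by rw [hvdef]; exact vec_apply hbinj _ 0
    have hb1 : v (b 1) = 1 / 2 := by rw [hvdef]; exact vec_apply hbinj _ 1
    have hne : b 0 ≠ b 4 := fun h => absurd (b.injective h) (by decide)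
    have hne1 : b 1 ≠ b 0 := fun h => absurd (b.injective h) (by decide)
    rw [app_mul, app_rr, app_rr, rf_ax, ax_apply_ne hne.symm, neg_zero] at hd
    rw [show Function.update (ax (b 0) : ι → F) (b 4) 0 = ax (b 0) by
      rw [← ax_apply_ne hne.symm, Function.update_eq_self]] at hd
    have h0 : rf v (ax (b 0)) (b 0) = 1 / 2 := by
      simp only [rf, dot_ax, hb0, Pi.sub_apply, Pi.smul_apply, smul_eq_mul, ax_apply_same]
      field_simp; ring
    have h1 : rf v (ax (b 0)) (b 1) = -(1 / 2) := by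
      simp only [rf, dot_ax, hb0, hb1, Pi.sub_apply, Pi.smul_apply, smul_eq_mul, ax_apply_ne hne1]
      field_simp; ring
    have hd0 : b 0 = d ∧ b 1 = d := by
      constructor <;> by_contra hh <;> rcases hd with hd | hd
      · rw [hd, ax_apply_ne hh] at h0; simp at h0; exact h2 h0.symm
      · rw [hd, Pi.neg_apply, ax_apply_ne hh] at h0; simp at h0; exact h2 h0.symm
      · rw [hd, ax_apply_ne hh] at h1; simp [h2] at h1
      · rw [hd, Pi.neg_apply, ax_apply_ne hh] at h1; simp [h2] at h1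
    exact hne1 (hd0.2.trans hd0.1.symm)
  · have hdd : ∀ S : Finset ι, Even S.card → dd S ∈ K := fun S hS =>
      hK1 ⟨mono_dd S, dd_mem h2 (by omega) hS⟩
    have hperm : ∀ σ : Equiv.Perm ι, Equiv.Perm.sign σ = 1 → pG σ ∈ K := fun σ hσ =>
      hK1 ⟨mono_pG σ, pG_mem h2 (by omega) hσ⟩
    rcases mono_or_pairs h2 hp hdd hperm hn with h | h
    · exact Or.inl (le_antisymm (fun k hk => ⟨h k hk, hK2 hk⟩) hK1)
    · exact Or.inr (le_antisymm hK2 (omega_le_of_pairs h2 (by omega) K h))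

end Cfsg.Agent.Lib.OrthFrame
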