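import Cfsg.Agent.Lib.OrthFrame.SixHalf
import Cfsg.Agent.Lib.OrthFrame.Frame

/-!
Six variables: a group over the monomial part is monomial or contains every product of two unit reflections.
-/

set_option autoImplicit false
set_option linter.unusedSectionVars false
set_option maxRecDepth 4000

namespace Cfsg.Agent.Lib.OrthFrame.Six

open Matrix Cfsg.Agent.Lib.Orth Cfsg.Agent.Lib.OrthFrame

variable {ι : Type} [Fintype ι] [DecidableEq ι] {F : Type*} [Field F]

theorem conj_dd_app (k : O ι F) (S : Finset ι) (s : ι) :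
    app (k * dd S * k⁻¹) (app k (ax s)) = if s ∈ S then -app k (ax s) else app k (ax s) := by
  rw [app_mul, app_mul, app_inv_app, app_dd_ax]
  split_ifs
  · rw [app_neg]
  · rfl

theorem conj_dd_sq (k : O ι F) (S : Finset ι) : k * dd S * k⁻¹ * (k * dd S * k⁻¹) = 1 := by
  rw [show k * dd S * k⁻¹ * (k * dd S * k⁻¹) = k * (dd S * dd S) * k⁻¹ by group, dd_mul_self, mul_one,
    mul_inv_cancel]

theorem smul_ax_inj {i j : ι} {a b : F} (ha : a ≠ 0) (h : a • (ax i : ι → F) = b • ax j) : i = j := by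
  by_contra hne
  have := congrFun h i
  simp [ax, hne] at this
  exact ha this

theorem unit_ne {e : F} (he : e * e = 1) : e ≠ 0 := fun h => by simp [h] at he

theorem partner_back {y : O ι F} (hy : y * y = 1) {i j : ι} {e : F} (he : e * e = 1)
    (h : app y (ax i) = e • ax j) : app y (ax j) = e • ax i := by
  have h' := congrArg (app y) h
  rw [← app_mul, hy, app_one, app_smul] at h'
  rw [h', smul_smul, he, one_smul]

theorem commute_dd_of_mono {y : O ι F} (hm : Mono y) (hy : y * y = 1) (S : Finset ι)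
    (hS : ∀ i ∈ S, ∃ j ∈ S, ∃ e : F, e * e = 1 ∧ app y (ax i) = e • ax j) : y * dd S = dd S * y := by
  refine ext_ax fun l => ?_
  obtain ⟨m, e, he, hl⟩ := mono_ax_smul hm l
  have hiff : l ∈ S ↔ m ∈ S := by
    constructor
    · intro h
      obtain ⟨j, hj, e', he', hl'⟩ := hS l h
      rw [hl] at hl'
      rwa [smul_ax_inj (unit_ne he) hl']
    · intro h
      obtain ⟨j, hj, e', he', hm'⟩ := hS m h
      rw [partner_back hy he hl] at hm'
      rwa [smul_ax_inj (unit_ne he) hm']
  rw [app_mul, app_mul, app_dd_ax, hl, app_smul, app_dd_ax]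
  by_cases h : l ∈ S
  · rw [if_pos h, if_pos (hiff.1 h), app_neg, hl, smul_neg]
  · rw [if_neg h, if_neg (fun hm => h (hiff.2 hm)), hl]

/-- Two involutions. -/
theorem dihedral [Finite F] (t s : O ι F) (ht : t * t = 1) (hs : s * s = 1) :
    (∃ w ∈ Subgroup.closure ({t, s} : Set (O ι F)), s = w * t * w⁻¹) ∨
    ∃ z ∈ Subgroup.closure ({t, s} : Set (O ι F)), z ≠ 1 ∧ z * t = t * z ∧ z * s = s * z ∧
      ∃ w ∈ Subgroup.closure ({t, s} : Set (O ι F)), t * z = w * t * w⁻¹ ∨ t * z = w * s * w⁻¹ := by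
  obtain ⟨r, hr⟩ : ∃ r, r = t * s := ⟨_, rfl⟩
  have hrH : r ∈ Subgroup.closure ({t, s} : Set (O ι F)) :=
    hr ▸ mul_mem (Subgroup.subset_closure (Or.inl rfl)) (Subgroup.subset_closure (Or.inr rfl))
  have htrt : t * r * t⁻¹ = r⁻¹ := by
    rw [hr, _root_.mul_inv_rev, inv_eq_of_mul_eq_one_right ht, inv_eq_of_mul_eq_one_right hs, ← mul_assoc t t,
      ht, one_mul]
  have htr : ∀ n : ℤ, t * r ^ n * t⁻¹ = r ^ (-n) := fun n => by
    rw [← conj_zpow, htrt, _root_.inv_zpow']
  have hsr : s = t * r := by rw [hr, ← mul_assoc, ht, one_mul]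
  have hconj : ∀ l : ℤ, r ^ (-l) * t * r ^ l = t * r ^ (2 * l) := fun l => by
    rw [← htr l]
    rw [show t * r ^ l * t⁻¹ * t * r ^ l = t * (r ^ l * r ^ l) by group, ← _root_.zpow_add, two_mul]
  have hconj' : ∀ l : ℤ, r ^ (-l) * s * r ^ l = t * r ^ (2 * l + 1) := fun l => by
    rw [hsr, show r ^ (-l) * (t * r) * r ^ l = (r ^ (-l) * t * r ^ l) * r by group, hconj]
    rw [mul_assoc, ← _root_.zpow_add_one]
  rcases Nat.even_or_odd (orderOf r) with ⟨m, hm⟩ | ⟨l, hl⟩
  · right
    obtain ⟨z, hz⟩ : ∃ z, z = r ^ (m : ℤ) := ⟨_, rfl⟩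
    have hpos : 0 < orderOf r := orderOf_pos r
    have hz1 : z ≠ 1 := fun e => by
      rw [hz, zpow_natCast] at e
      have := Nat.le_of_dvd (by omega) (orderOf_dvd_of_pow_eq_one e)
      omega
    have hzinv : z⁻¹ = z := inv_eq_of_mul_eq_one_right (by
      rw [hz, zpow_natCast, ← pow_add, ← hm, pow_orderOf_eq_one])
    have hzt : t * z = z * t := by
      have := htr (m : ℤ)
      rw [_root_.zpow_neg, ← hz, hzinv, mul_inv_eq_iff_eq_mul] at this
      exact this
    have hzs : s * z = z * s := by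
      rw [hsr, mul_assoc, show r * z = z * r by
        rw [hz]; exact (Commute.self_zpow r _).eq, ← mul_assoc, hzt, mul_assoc]
    refine ⟨z, hz ▸ zpow_mem hrH _, hz1, hzt.symm, hzs.symm, ?_⟩
    rcases Int.even_or_odd (m : ℤ) with ⟨l, hl⟩ | ⟨l, hl⟩
    · refine ⟨r ^ (-l), zpow_mem hrH _, Or.inl ?_⟩
      rw [← _root_.zpow_neg, neg_neg, hconj, hz, hl, ← two_mul]
    · refine ⟨r ^ (-l), zpow_mem hrH _, Or.inr ?_⟩
      rw [← _root_.zpow_neg, neg_neg, hconj', hz, hl]
  · left
    refine ⟨r ^ (-((l : ℤ) + 1)), zpow_mem hrH _, ?_⟩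
    rw [← _root_.zpow_neg, neg_neg, hconj, hsr]
    congr 1
    rw [show (2 : ℤ) * ((l : ℤ) + 1) = ((2 * l + 1 : ℕ) : ℤ) + 1 by push_cast; ring, _root_.zpow_add_one,
      zpow_natCast, ← hl, pow_orderOf_eq_one, one_mul]

variable (h2 : (2 : F) ≠ 0)
include h2

theorem neg_one_ne : (-1 : F) ≠ 1 := fun h => h2 (by linear_combination -h)

/-- In `closure {t, s}`, a common eigenvector stays one. -/
theorem eig_closure {t s : O ι F} {v : ι → F} (ht : app t v = v ∨ app t v = -v) (hs : app s v = v ∨ app s v = -v)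
    {w : O ι F} (hw : w ∈ Subgroup.closure ({t, s} : Set (O ι F))) : app w v = v ∨ app w v = -v := by
  induction hw using Subgroup.closure_induction with
  | mem x hx => rcases hx with rfl | rfl <;> assumption
  | one => exact Or.inl (app_one v)
  | mul x y _ _ hx hy =>
    rw [app_mul]
    rcases hy with e | e <;> rw [e]
    · exact hx
    · rw [app_neg]; rcases hx with e' | e' <;> rw [e'] <;> simp
  | inv x _ hx =>
    rcases hx with e | e
    · left; conv_lhs => rw [← e]
      rw [app_inv_app]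
    · right
      have := congrArg (app x⁻¹) e
      rw [app_inv_app, app_neg] at this
      rw [eq_neg_iff_add_eq_zero] at this ⊢
      rw [add_comm]; exact this

omit h2 in
theorem dd_card {D : Finset ι} {a b : ι} {W : Finset ι} (hab : a ≠ b) (hW : W.card = 2)
    (hD : D = symmDiff {a, b} W) : D = ∅ ∨ D.card = 2 ∨ D.card = 4 := by
  have hTc : ({a, b} : Finset ι).card = 2 := Finset.card_pair hab
  have h1 := Finset.card_sdiff_add_card_inter ({a, b} : Finset ι) W
  have h2' := Finset.card_sdiff_add_card_inter W ({a, b} : Finset ι)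
  have h3 : D.card = (({a, b} : Finset ι) \ W).card + (W \ {a, b}).card := by
    rw [hD, symmDiff_def, Finset.sup_eq_union, Finset.card_union_of_disjoint (by
      rw [Finset.disjoint_left]; intro i hi hi'
      exact (Finset.mem_sdiff.1 hi').2 (Finset.mem_sdiff.1 hi).1)]
  rw [Finset.inter_comm W] at h2'
  have : D.card = 0 ∨ D.card = 2 ∨ D.card = 4 := by omega
  rwa [Finset.card_eq_zero] at this

section main

variable [Finite F] {K : Subgroup (O ι F)} (hn : Fintype.card ι = 6)
  (hdd : ∀ S : Finset ι, Even S.card → dd S ∈ K)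
  (hperm : ∀ σ : Equiv.Perm ι, Equiv.Perm.sign σ = 1 → pG σ ∈ K)
  (hfix : ∀ k ∈ K, ∀ c, app k (ax c) = ax c → Mono k)
include hn hdd hperm hfix

/-- Three axes going into four coordinates. -/
theorem mono_of_block {k : O ι F} (hk : k ∈ K) {f : Fin 3 → ι} (hf : Function.Injective f) {p q : ι}
    (hpq : p ≠ q) (hp : ∀ i, app k (ax (f i)) p = 0) (hq : ∀ i, app k (ax (f i)) q = 0) : Mono k := by
  classical
  by_cases hax : ∃ i, IsAx (app k (ax (f i)))
  · obtain ⟨i, hi⟩ := hax
    exact mono_of_ax h2 hn hdd hperm hfix hk hi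
  exfalso
  obtain ⟨u, hu⟩ : ∃ u : Fin 3 → ι → F, ∀ i, app k (ax (f i)) = u i := ⟨_, fun _ => rfl⟩
  simp only [hu] at hp hq hax
  have hunit : ∀ i, u i ⬝ᵥ u i = 1 := fun i => hu i ▸ app_unit h2 _ (ax_unit _)
  have horth : ∀ i j, i ≠ j → u i ⬝ᵥ u j = 0 := fun i j h => by
    rw [← hu, ← hu, app_ax_dot h2, if_neg (hf.ne h)]
  have hcard : ∀ i, 2 ≤ (supp (u i)).card := by
    intro i
    by_contra hh
    refine hax ⟨i, ?_⟩
    obtain ⟨a, ha⟩ : (supp (u i)).Nonempty := by
      by_contra he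
      rw [Finset.not_nonempty_iff_eq_empty] at he
      have : u i = 0 := funext fun j => by_contra fun h0 => by
        have := mem_supp.2 h0; rw [he] at this; simp at this
      have h1 := hunit i; simp [this] at h1
    refine isAx_of_supp_le (hunit i) (a := a) fun j hj => by_contra fun h0 => ?_
    have h2' := Finset.one_lt_card.2 ⟨a, ha, j, mem_supp.2 h0, Ne.symm hj⟩
    omega
  have hsub : ∀ i, supp (u i) ⊆ ({p, q} : Finset ι)ᶜ := fun i a ha => by
    rw [Finset.mem_compl, Finset.mem_insert, Finset.mem_singleton]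
    rintro (rfl | rfl)
    · exact mem_supp.1 ha (hp i)
    · exact mem_supp.1 ha (hq i)
  have hUc : (({p, q} : Finset ι)ᶜ).card = 4 := by rw [Finset.card_compl, Finset.card_pair hpq, hn]
  have hpm : ∀ i j, i ≠ j → Mono (k * dd {f i, f j} * k⁻¹) := fun i j h => by
    refine hfix _ (mul_mem (mul_mem hk (hdd _ (by rw [Finset.card_pair (hf.ne h)]; exact even_two)))
      (inv_mem hk)) p ?_
    rw [app_mul, app_mul, app_dd_of_supp _ (fun x hx => ?_), app_app_inv]
    rw [inv_apply h2]
    simp at hx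
    rcases hx with rfl | rfl <;> rw [hu] <;> exact hp _
  -- all supports are equal
  have hall : ∀ i j, supp (u i) = supp (u j) := by
    by_cases he : ∃ i j, i ≠ j ∧ supp (u i) = supp (u j)
    · obtain ⟨i, j, hij, he⟩ := he
      obtain ⟨l, hli, hlj⟩ : ∃ l : Fin 3, l ≠ i ∧ l ≠ j :=
        (by decide : ∀ a b : Fin 3, ∃ l, l ≠ a ∧ l ≠ b) i j
      obtain ⟨c, hc⟩ : ∃ c, c = cyc (f i) (f j) (f l) := ⟨_, rfl⟩
      have hcs : Equiv.Perm.sign c = 1 := hc ▸ cyc_sign (hf.ne hij) (hf.ne hlj.symm)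
      have hm : Mono (k * pG c * k⁻¹) := by
        refine hfix _ (mul_mem (mul_mem hk (hperm c hcs)) (inv_mem hk)) p ?_
        have : app (pG c) (app k⁻¹ (ax p)) = app k⁻¹ (ax p) := by
          funext x
          rw [app_pG]
          show app k⁻¹ (ax p) (c⁻¹ x) = _
          by_cases hx : x = f i ∨ x = f j ∨ x = f l
          · have hx' : c⁻¹ x = f i ∨ c⁻¹ x = f j ∨ c⁻¹ x = f l := by
              by_contra hne
              simp only [not_or] at hne
              have := cyc_fix hne.1 hne.2.1 hne.2.2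
              rw [← hc, Equiv.Perm.coe_inv, Equiv.apply_symm_apply] at this
              rw [Equiv.Perm.coe_inv, ← this] at hne
              rcases hx with h | h | h <;> simp [h] at hne
            rw [inv_apply h2, inv_apply h2]
            rcases hx with h | h | h <;> rcases hx' with h' | h' | h' <;> rw [h', h] <;> simp only [hu, hp]
          · simp only [not_or] at hx
            have := cyc_fix hx.1 hx.2.1 hx.2.2
            rw [← hc] at this
            conv_lhs => rw [← this]
            simp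
        rw [app_mul, app_mul, this, app_app_inv]
      have e := Mono.supp_eq h2 hm he
      have m : ∀ a, app (k * pG c * k⁻¹) (app k (ax a)) = app k (ax (c a)) := fun a => by
        rw [app_mul, app_mul, app_inv_app, app_pG_ax]
      rw [← hu i, ← hu j, m, m, hc,
        show cyc (f i) (f j) (f l) (f i) = f j by
          simp [cyc, Equiv.swap_apply_of_ne_of_ne (hf.ne hij) (hf.ne hli.symm)],
        show cyc (f i) (f j) (f l) (f j) = f l by
          simp [cyc, Equiv.swap_apply_of_ne_of_ne (hf.ne hli) (hf.ne hlj)], hu, hu] at e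
      have hti : ∀ t, supp (u t) = supp (u i) := by
        intro t
        rcases (by decide : ∀ a b c d : Fin 3, a ≠ b → c ≠ a → c ≠ b → d = a ∨ d = b ∨ d = c) i j l t hij hli hlj with
          rfl | rfl | rfl
        · rfl
        · exact he.symm
        · exact e.symm.trans he.symm
      exact fun a b => (hti a).trans (hti b).symm
    · exfalso
      push Not at he
      have hd : ∀ i j, i ≠ j → Disjoint (supp (u i)) (supp (u j)) := fun i j h => by
        rcases pair_supp h2 (hf.ne h) (hpm i j h) with e | e <;> rw [hu, hu] at e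
        · exact absurd e (he i j h)
        · exact e.1
      have h1 : (supp (u 0) ∪ supp (u 1) ∪ supp (u 2)).card ≤ 4 := by
        rw [← hUc]
        exact Finset.card_le_card (Finset.union_subset (Finset.union_subset (hsub 0) (hsub 1)) (hsub 2))
      rw [Finset.card_union_of_disjoint (Finset.disjoint_union_left.2
        ⟨hd 0 2 (by decide), hd 1 2 (by decide)⟩), Finset.card_union_of_disjoint (hd 0 1 (by decide))] at h1
      have := hcard 0; have := hcard 1; have := hcard 2
      omega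
  -- partners of each coordinate
  have hneq3 : ∀ l : Fin 3, l + 1 ≠ l + 2 := by decide
  have hy : ∀ l i : Fin 3, app (k * dd {f (l + 1), f (l + 2)} * k⁻¹) (u i) =
      (if i = l then (1 : F) else -1) • u i := fun l i => by
    rw [← hu, conj_dd_app]
    have : f i ∈ ({f (l + 1), f (l + 2)} : Finset ι) ↔ i ≠ l := by
      simp only [Finset.mem_insert, Finset.mem_singleton, hf.eq_iff]
      revert l i; decide
    by_cases h : i = l
    · rw [if_neg (fun hh => this.1 hh h), if_pos h, one_smul]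
    · rw [if_pos (this.2 h), if_neg h, neg_one_smul]
  have key : ∀ a ∈ supp (u 0), ∀ i t, t ∈ ({p, q} : Finset ι)ᶜ → u i t * u i t = u i a * u i a := by
    intro a ha i t ht
    have hne0 : ∀ i, u i a ≠ 0 := fun i => mem_supp.1 (hall 0 i ▸ ha)
    choose b e he hb using fun l : Fin 3 => mono_ax_smul (hpm (l + 1) (l + 2) (hneq3 l)) a
    have hrel : ∀ l i, (if i = l then (1 : F) else -1) * e l * u i (b l) = u i a := fun l i =>
      eig_rel h2 (hb l) (hy l i)
    have hba : ∀ l, b l ≠ a := fun l hba => by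
      have r1 := hrel l l
      have r2 := hrel l (l + 1)
      rw [if_pos rfl, hba] at r1
      rw [if_neg ((by decide : ∀ a : Fin 3, a + 1 ≠ a) l), hba] at r2
      have e1 : e l = 1 := mul_right_cancel₀ (hne0 l) (by linear_combination r1)
      rw [e1] at r2
      have : (2 : F) * u (l + 1) a = 0 := by linear_combination -r2
      exact hne0 _ ((mul_eq_zero.1 this).resolve_left h2)
    have hbb : ∀ l l', l ≠ l' → b l ≠ b l' := fun l l' hll hbb => by
      obtain ⟨m, hml, hml'⟩ : ∃ m : Fin 3, m ≠ l ∧ m ≠ l' :=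
        (by decide : ∀ a b : Fin 3, ∃ m, m ≠ a ∧ m ≠ b) l l'
      have r1 := hrel l l
      have r2 := hrel l' l
      have r3 := hrel l m
      have r4 := hrel l' m
      rw [if_pos rfl] at r1
      rw [if_neg hll] at r2
      rw [if_neg hml] at r3
      rw [if_neg hml'] at r4
      rw [← hbb] at r2 r4
      have hub : u l (b l) ≠ 0 := fun h0 => hne0 l (by rw [← r1, h0, mul_zero])
      have ee : e l + e l' = 0 := by
        refine (mul_eq_zero.1 (show (e l + e l') * u l (b l) = 0 by linear_combination r1 - r2)).resolve_right hub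
      have : (2 : F) * u m a = 0 := by linear_combination -r3 - r4 - u m (b l) * ee
      exact hne0 m ((mul_eq_zero.1 this).resolve_left h2)
    have hsq : ∀ l, u i (b l) * u i (b l) = u i a * u i a := fun l => by
      rw [← hrel l i]
      have := he l
      split_ifs <;> linear_combination -(u i (b l) * u i (b l)) * this
    have hbU : ∀ l, b l ∈ ({p, q} : Finset ι)ᶜ := fun l => hsub l (mem_supp.2 fun h0 => hne0 l (by
      rw [← hrel l l, h0, mul_zero]))
    have hset : ({a, b 0, b 1, b 2} : Finset ι) = ({p, q} : Finset ι)ᶜ := by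
      refine Finset.eq_of_subset_of_card_le (by
        intro x hx; simp only [Finset.mem_insert, Finset.mem_singleton] at hx
        rcases hx with rfl | rfl | rfl | rfl
        · exact hsub 0 ha
        all_goals exact hbU _) ?_
      rw [hUc, Finset.card_insert_of_notMem, Finset.card_insert_of_notMem, Finset.card_pair]
      · exact hbb 1 2 (by decide)
      · simp [hbb 0 1 (by decide), hbb 0 2 (by decide)]
      · simp [Ne.symm (hba 0), Ne.symm (hba 1), Ne.symm (hba 2)]
    rw [← hset] at ht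
    simp only [Finset.mem_insert, Finset.mem_singleton] at ht
    rcases ht with rfl | rfl | rfl | rfl
    · rfl
    all_goals exact hsq _
  obtain ⟨a, ha⟩ := Finset.card_pos.1 (show 0 < (supp (u 0)).card by have := hcard 0; omega)
  have hval : ∀ i t, u i t * u i t = if t = p ∨ t = q then 0 else 1 / 4 := by
    intro i t
    have hsum : 4 * (u i a * u i a) = 1 := by
      rw [← hunit i, dotProduct, ← Finset.sum_subset (Finset.subset_univ (({p, q} : Finset ι)ᶜ))
        (fun x _ hx => by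
          simp at hx
          by_cases hxp : x = p
          · rw [hxp, hp, mul_zero]
          · rw [hx hxp, hq, mul_zero]),
        Finset.sum_congr rfl fun x hx => key a ha i x hx, Finset.sum_const, hUc, nsmul_eq_mul]
      norm_num
    by_cases ht : t = p ∨ t = q
    · rw [if_pos ht]; rcases ht with rfl | rfl
      · rw [hp, mul_zero]
      · rw [hq, mul_zero]
    · rw [if_neg ht, key a ha i t (by simpa using ht)]
      have h4 : (4 : F) ≠ 0 := by
        have := mul_ne_zero h2 h2; norm_num at this; exact this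
      field_simp
      linear_combination hsum
  exact no_half h2 hn hdd hperm hfix hk (x := f 0) (y := f 1) (hf.ne (by decide)) hpq
    (fun t => by rw [hu]; exact hval 0 t) (fun t => by rw [hu]; exact hval 1 t)

theorem mono_of_small {g : O ι F} (hg : g ∈ K) {a b : ι} (hab : a ≠ b) (h3 : (usupp g {a, b}).card ≤ 3) :
    Mono g := by
  classical
  obtain ⟨T, hT, hTc⟩ := Finset.exists_subset_card_eq (s := (usupp g {a, b})ᶜ) (n := 3)
    (by rw [Finset.card_compl]; omega)
  let f : Fin 3 → ι := fun i => ((Finset.equivFinOfCardEq hTc).symm i).1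
  have hf : Function.Injective f := Subtype.val_injective.comp (Equiv.injective _)
  have hz : ∀ i, ∀ s ∈ ({a, b} : Finset ι), app g (ax s) (f i) = 0 := fun i s hs => by
    by_contra h0
    exact (Finset.mem_compl.1 (hT ((Finset.equivFinOfCardEq hTc).symm i).2)) (mem_usupp.2 ⟨s, hs, h0⟩)
  have := mono_of_block h2 hn hdd hperm hfix (inv_mem hg) hf hab
    (fun i => by rw [inv_apply h2]; exact hz i a (by simp))
    (fun i => by rw [inv_apply h2]; exact hz i b (by simp))
  simpa using this.inv h2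

theorem supp_of_commute {g : O ι F} {S : Finset ι} (hc : g * dd S = dd S * g) {s : ι} (hs : s ∈ S) {t : ι}
    (ht : t ∉ S) : app g (ax s) t = 0 := by
  have h := congrFun (congrArg (fun h : O ι F => app h (ax s)) hc) t
  rw [app_mul, app_mul, app_dd_ax, if_pos hs, app_neg, app_dd] at h
  simp only [Pi.neg_apply, if_neg ht] at h
  rw [neg_eq_iff_add_eq_zero, ← two_mul, mul_eq_zero] at h
  exact h.resolve_left h2

theorem mono_of_commute_pair {g : O ι F} (hg : g ∈ K) {a b : ι} (hab : a ≠ b)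
    (hc : g * dd {a, b} = dd {a, b} * g) : Mono g := by
  refine mono_of_small h2 hn hdd hperm hfix hg hab (le_trans (Finset.card_le_card fun t ht => ?_)
    (Finset.card_le_two (a := a) (b := b) |>.trans (by norm_num)))
  obtain ⟨s, hs, hne⟩ := mem_usupp.1 ht
  exact by_contra fun h => hne (supp_of_commute h2 hn hdd hperm hfix hc hs h)

theorem mono_of_fixed {g : O ι F} (hg : g ∈ K) {a b : ι} (hab : a ≠ b) (hm : Mono (g * dd {a, b} * g⁻¹))
    {i : ι} (hi : i ∈ usupp g {a, b}) {e : F} (hie : app (g * dd {a, b} * g⁻¹) (ax i) = e • ax i) : Mono g := by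
  classical
  by_cases h3 : (usupp g {a, b}).card ≤ 3
  · exact mono_of_small h2 hn hdd hperm hfix hg hab h3
  exfalso
  have h4 : (usupp g {a, b}).card = 4 := by
    have := usupp_card_le h2 hm
    rw [Finset.card_pair hab] at this
    omega
  obtain ⟨y, hy⟩ : ∃ y, y = g * dd {a, b} * g⁻¹ := ⟨_, rfl⟩
  have hyy : y * y = 1 := hy ▸ conj_dd_sq g _
  rw [← hy] at hm hie
  have hys : ∀ s, app y (app g (ax s)) =
      (if s ∈ ({a, b} : Finset ι) then (-1 : F) else 1) • app g (ax s) := fun s => by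
    rw [hy, conj_dd_app]; split_ifs <;> simp
  have hstay : ∀ j ∈ usupp g {a, b}, ∀ l, ∀ c : F, app y (ax j) = c • ax l → l ∈ usupp g {a, b} := fun j hj l c hjl => by
    obtain ⟨s, hs, hne⟩ := mem_usupp.1 hj
    exact mem_usupp.2 ⟨s, hs, fun h0 => hne (by rw [← eig_rel h2 hjl (hys s), h0, mul_zero])⟩
  -- a fixed coordinate of the support lies in the moved plane
  have hfixed : ∀ j ∈ usupp g {a, b}, ∀ c : F, app y (ax j) = c • ax j →
      ∀ s ∉ ({a, b} : Finset ι), app g (ax s) j = 0 := by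
    intro j hj c hjc s hs
    obtain ⟨s', hs', hne⟩ := mem_usupp.1 hj
    have r1 := eig_rel h2 hjc (hys s')
    have r2 := eig_rel h2 hjc (hys s)
    rw [if_pos hs'] at r1
    rw [if_neg hs] at r2
    have hc : c = -1 := by
      refine mul_right_cancel₀ hne ?_
      linear_combination -r1
    rw [hc] at r2
    exact (mul_eq_zero.1 (show (2 : F) * app g (ax s) j = 0 by linear_combination -r2)).resolve_left h2
  have honly : ∀ j ∈ usupp g {a, b}, j ≠ i → ∀ c : F, app y (ax j) ≠ c • ax j := by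
    intro j hj hji c hjc
    obtain ⟨l, hl, hl'⟩ : ∃ l ∈ usupp g {a, b}, l ∉ ({i, j} : Finset ι) := by
      apply Finset.not_subset.1
      intro h
      have := Finset.card_le_card h
      have := Finset.card_le_two (a := i) (b := j)
      omega
    simp at hl'
    have h1 := hfixed i hi e hie
    have h2' := hfixed j hj c hjc
    let A := ({i, j, l} : Finset ι)
    have hA : A.card = 3 := by
      rw [Finset.card_eq_three]; exact ⟨i, j, l, Ne.symm hji, Ne.symm hl'.1, Ne.symm hl'.2, rfl⟩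
    obtain ⟨P, hP⟩ : ∃ P : ι → ι → F, ∀ x x', P x x' = proj g {a, b} x x' := ⟨_, fun _ _ => rfl⟩
    have hdot : ∀ x x', x ∈ A → x' ∈ A → x ≠ x' → proj g {a, b} x x' = 0 := by
      have base : ∀ x x', (∀ s ∉ ({a, b} : Finset ι), app g (ax s) x = 0) → x ≠ x' → proj g {a, b} x x' = 0 := by
        intro x x' hx hne
        have := app_ax_dot h2 g⁻¹ x x'
        rw [if_neg hne, dotProduct] at this
        rw [proj, ← this]
        simp only [inv_apply h2]
        refine Finset.sum_subset (Finset.subset_univ _) fun s _ hs => ?_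
        rw [hx s hs, zero_mul]
      intro x x' hx hx' hne
      simp only [A, Finset.mem_insert, Finset.mem_singleton] at hx hx'
      rcases hx with rfl | rfl | rfl
      · exact base _ _ h1 hne
      · exact base _ _ h2' hne
      · rw [proj_comm]
        rcases hx' with rfl | rfl | rfl
        · exact base _ _ h1 hne.symm
        · exact base _ _ h2' hne.symm
        · exact absurd rfl hne
    have hU : ∀ x ∈ A, x ∈ usupp g {a, b} := fun x hx => by
      simp only [A, Finset.mem_insert, Finset.mem_singleton] at hx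
      rcases hx with rfl | rfl | rfl <;> assumption
    have := card_le_of_orth (F := F) (A := A) (B := ({a, b} : Finset ι)) (fun x s => app g (ax s.1) x.1)
      (fun x => proj g {a, b} x.1 x.1)
      (fun x => by
        obtain ⟨w, -, hw⟩ := proj_row h2 (hy ▸ hm) x.1
        exact hw (hU _ x.2))
      (fun x x' => by
        rw [Finset.sum_coe_sort ({a, b} : Finset ι) fun s => app g (ax s) x.1 * app g (ax s) x'.1]
        change proj g {a, b} x.1 x'.1 = _
        by_cases h : x = x'
        · subst h; rw [if_pos rfl]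
        · rw [if_neg h, hdot _ _ x.2 x'.2 (fun e => h (Subtype.ext e))])
    rw [Fintype.card_coe, Fintype.card_coe, hA, Finset.card_pair hab] at this
    omega
  -- parity
  have hpart : ∀ j ∈ usupp g {a, b}, j ≠ i → ∃ l ∈ usupp g {a, b}, l ≠ i ∧ l ≠ j ∧
      ∃ c : F, app y (ax j) = c • ax l ∧ app y (ax l) = c • ax j ∧ c * c = 1 := by
    intro j hj hji
    obtain ⟨l, c, hc, hjl⟩ := mono_ax_smul hm j
    refine ⟨l, hstay j hj l c hjl, fun hli => ?_, fun hlj => honly j hj hji c (hlj ▸ hjl), c, hjl,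
      partner_back hyy hc hjl, hc⟩
    have := partner_back hyy hc hjl
    rw [hli, hie] at this
    have he0 : e ≠ 0 := fun h0 => by
      rw [h0, zero_smul] at hie
      have := congrArg (app y) hie
      rw [← app_mul, hyy, app_one] at this
      have := congrFun this i
      simp [ax] at this
    exact hji (smul_ax_inj he0 this).symm
  obtain ⟨j, hj, hji⟩ := Finset.exists_mem_ne (show 1 < (usupp g {a, b}).card by omega) i
  obtain ⟨l, hl, hli, hlj, c, hjl, hlj', hc⟩ := hpart j hj hji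
  obtain ⟨m, hm', hm3⟩ : ∃ m ∈ usupp g {a, b}, m ∉ ({i, j, l} : Finset ι) := by
    apply Finset.not_subset.1
    intro h
    have := Finset.card_le_card h
    have := Finset.card_le_three (a := i) (b := j) (c := l)
    omega
  simp at hm3
  obtain ⟨m', hm'', hm'i, hm'm, c', hmm', hm'b, hc'⟩ := hpart m hm' hm3.1
  have hne1 : m' ≠ j := fun h => by
    rw [h, hjl] at hm'b
    exact hm3.2.2 (smul_ax_inj (unit_ne hc) hm'b).symm
  have hne2 : m' ≠ l := fun h => by
    rw [h, hlj'] at hm'b
    exact hm3.2.1 (smul_ax_inj (unit_ne hc) hm'b).symm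
  have hsub : ({i, j, l, m, m'} : Finset ι) ⊆ usupp g {a, b} := by
    intro x hx
    simp at hx
    rcases hx with rfl | rfl | rfl | rfl | rfl <;> assumption
  have := Finset.card_le_card hsub
  rw [Finset.card_insert_of_notMem (by simp [Ne.symm hji, Ne.symm hli, Ne.symm hm3.1, Ne.symm hm'i]),
    Finset.card_insert_of_notMem (by simp [Ne.symm hlj, Ne.symm hm3.2.1, Ne.symm hne1]),
    Finset.card_insert_of_notMem (by simp [Ne.symm hm3.2.2, Ne.symm hne2]),
    Finset.card_pair (Ne.symm hm'm)] at this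
  omega

theorem mono_of_pair {g : O ι F} (hg : g ∈ K) {a b : ι} (hab : a ≠ b) (hm : Mono (g * dd {a, b} * g⁻¹)) :
    Mono g := by
  classical
  by_cases h3 : (usupp g {a, b}).card ≤ 3
  · exact mono_of_small h2 hn hdd hperm hfix hg hab h3
  by_cases hfx : ∃ i ∈ usupp g {a, b}, ∃ e : F, app (g * dd {a, b} * g⁻¹) (ax i) = e • ax i
  · obtain ⟨i, hi, e, he⟩ := hfx
    exact mono_of_fixed h2 hn hdd hperm hfix hg hab hm hi he
  push Not at hfx
  by_contra hng
  obtain ⟨y, hy⟩ : ∃ y, y = g * dd {a, b} * g⁻¹ := ⟨_, rfl⟩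
  have hyy : y * y = 1 := hy ▸ conj_dd_sq g _
  rw [← hy] at hm hfx
  obtain ⟨U, hUdef⟩ : ∃ U, U = usupp g {a, b} := ⟨_, rfl⟩
  rw [← hUdef] at hfx h3
  have hUc : U.card = 4 := by
    have := usupp_card_le h2 (hy ▸ hm : Mono (g * dd {a, b} * g⁻¹))
    rw [Finset.card_pair hab, ← hUdef] at this
    omega
  have hya : app y (app g (ax a)) = (-1 : F) • app g (ax a) := by rw [hy, conj_dd_app, if_pos (by simp), neg_one_smul]
  have hyb : app y (app g (ax b)) = (-1 : F) • app g (ax b) := by rw [hy, conj_dd_app, if_pos (by simp), neg_one_smul]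
  have hmemU : ∀ j, j ∈ U ↔ (app g (ax a) j ≠ 0 ∨ app g (ax b) j ≠ 0) := fun j => by
    rw [hUdef, mem_usupp]; simp
  have hpart : ∀ j ∈ U, ∃ l ∈ U, l ≠ j ∧ ∃ c : F, c * c = 1 ∧ app y (ax j) = c • ax l ∧
      app g (ax a) l * app g (ax a) l = app g (ax a) j * app g (ax a) j ∧
      app g (ax b) l * app g (ax b) l = app g (ax b) j * app g (ax b) j := by
    intro j hj
    obtain ⟨l, c, hc, hjl⟩ := mono_ax_smul hm j
    have r1 := eig_rel h2 hjl hya
    have r2 := eig_rel h2 hjl hyb
    refine ⟨l, (hmemU l).2 ?_, fun h => hfx j hj c (h ▸ hjl), c, hc, hjl, ?_, ?_⟩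
    · rcases (hmemU j).1 hj with h | h
      · left; intro h0; exact h (by rw [← r1, h0, mul_zero])
      · right; intro h0; exact h (by rw [← r2, h0, mul_zero])
    · rw [← r1]; linear_combination -(app g (ax a) l * app g (ax a) l) * hc
    · rw [← r2]; linear_combination -(app g (ax b) l * app g (ax b) l) * hc
  obtain ⟨a', ha'⟩ : ∃ a', app g (ax a) a' ≠ 0 := by
    by_contra hh
    push Not at hh
    have := app_ax_dot h2 g a a
    rw [if_pos rfl, show app g (ax a) = 0 from funext hh] at this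
    simp at this
  have ha'U : a' ∈ U := (hmemU a').2 (Or.inl ha')
  obtain ⟨b', hb'U, hb'a, cb, hcb, hab', hsa1, hsb1⟩ := hpart a' ha'U
  obtain ⟨c', hc'U, hc'⟩ : ∃ c' ∈ U, c' ∉ ({a', b'} : Finset ι) := by
    apply Finset.not_subset.1
    intro h
    have := Finset.card_le_card h
    have := Finset.card_le_two (a := a') (b := b')
    omega
  simp at hc'
  obtain ⟨d', hd'U, hd'c, cd, hcd, hcd', hsa2, hsb2⟩ := hpart c' hc'U
  have hb'back := partner_back hyy hcb hab'
  have hd'a : d' ≠ a' := fun h => by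
    have := partner_back hyy hcd hcd'
    rw [h, hab'] at this
    exact hc'.2 (smul_ax_inj (unit_ne hcb) this).symm
  have hd'b : d' ≠ b' := fun h => by
    have := partner_back hyy hcd hcd'
    rw [h, hb'back] at this
    exact hc'.1 (smul_ax_inj (unit_ne hcb) this).symm
  have hUeq : U = {a', b', c', d'} := by
    refine (Finset.eq_of_subset_of_card_le (fun x hx => ?_) ?_).symm
    · simp at hx; rcases hx with rfl | rfl | rfl | rfl <;> assumption
    · rw [hUc, Finset.card_insert_of_notMem (by simp [Ne.symm hb'a, Ne.symm hc'.1, Ne.symm hd'a]),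
        Finset.card_insert_of_notMem (by simp [Ne.symm hc'.2, Ne.symm hd'b]), Finset.card_pair (Ne.symm hd'c)]
  have hab'ne : a' ≠ b' := Ne.symm hb'a
  have hcomm : y * dd {a', b'} = dd {a', b'} * y := commute_dd_of_mono hm hyy _ fun x hx => by
    simp at hx
    rcases hx with rfl | rfl
    · exact ⟨b', by simp, cb, hcb, hab'⟩
    · exact ⟨a', by simp, cb, hcb, hb'back⟩
  obtain ⟨k1, hk1⟩ : ∃ k1, k1 = g⁻¹ * dd {a', b'} * g⁻¹⁻¹ := ⟨_, rfl⟩
  have hk1K : k1 ∈ K :=
    hk1 ▸ mul_mem (mul_mem (inv_mem hg) (hdd _ (by rw [Finset.card_pair hab'ne]; exact even_two)))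
      (inv_mem (inv_mem hg))
  have hk1c : k1 * dd {a, b} = dd {a, b} * k1 := by
    rw [hy] at hcomm
    calc k1 * dd {a, b} = g⁻¹ * (dd {a', b'} * (g * dd {a, b} * g⁻¹)) * g := by rw [hk1]; group
      _ = dd {a, b} * k1 := by rw [← hcomm, hk1]; group
  have hk1m : Mono k1 := mono_of_commute_pair h2 hn hdd hperm hfix hk1K hab hk1c
  obtain ⟨c, e, he, hce⟩ := mono_ax_smul hk1m a
  have hcab : c = a ∨ c = b := by
    by_contra hh
    simp only [not_or] at hh
    have := supp_of_commute h2 hn hdd hperm hfix hk1c (s := a) (by simp) (t := c) (by simp [hh.1, hh.2])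
    rw [hce] at this
    simp [ax, unit_ne he] at this
  have hz1 : app (dd {a', b'}) (app g (ax a)) = e • app g (ax c) := by
    have := congrArg (app g) hce
    rw [hk1, inv_inv, app_mul, app_mul, app_app_inv, app_smul] at this
    exact this
  rcases hcab with hca | hcb'
  · rw [hca] at hce
    refine hng ?_
    have := mono_of_fixed h2 hn hdd hperm hfix (inv_mem hg) hab'ne (hk1 ▸ hk1m) (i := a) (mem_usupp.2
      ⟨a', by simp, by rw [inv_apply h2]; exact ha'⟩) (hk1 ▸ hce)
    simpa using this.inv h2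
  · rw [hcb'] at hz1
    obtain ⟨u, hu⟩ : ∃ u, u = app g (ax a) := ⟨_, rfl⟩
    obtain ⟨v, hv⟩ : ∃ v, v = app g (ax b) := ⟨_, rfl⟩
    rw [← hu, ← hv] at hz1
    rw [← hu] at hsa1 hsa2
    have hvt : ∀ t, v t = e * (if t ∈ ({a', b'} : Finset ι) then -u t else u t) := fun t => by
      have := congrFun hz1 t
      rw [app_dd] at this
      simp only [Pi.smul_apply, smul_eq_mul] at this
      rw [this, ← mul_assoc, he, one_mul]
    have hout : ∀ t, t ∉ U → u t = 0 ∧ v t = 0 := fun t ht => by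
      rw [hmemU, not_or, not_not, not_not, ← hu, ← hv] at ht
      exact ht
    have hsum : ∀ f : ι → F, (∀ t, t ∉ U → f t = 0) → ∑ t, f t = f a' + (f b' + (f c' + f d')) := fun f hf => by
      rw [← Finset.sum_subset (Finset.subset_univ U) (fun t _ ht => hf t ht), hUeq,
        Finset.sum_insert (by simp [Ne.symm hb'a, Ne.symm hc'.1, Ne.symm hd'a]),
        Finset.sum_insert (by simp [Ne.symm hc'.2, Ne.symm hd'b]), Finset.sum_pair (Ne.symm hd'c)]
    have huu : u ⬝ᵥ u = 1 := hu ▸ app_unit h2 _ (ax_unit _)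
    have huv : u ⬝ᵥ v = 0 := by rw [hu, hv, app_ax_dot h2, if_neg hab]
    rw [dotProduct, hsum _ (fun t ht => by rw [(hout t ht).1, zero_mul])] at huu huv
    rw [hvt a', hvt b', hvt c', hvt d', if_pos (by simp), if_pos (by simp), if_neg (by simp [hc'.1, hc'.2]),
      if_neg (by simp [hd'a, hd'b])] at huv
    have h4 : (4 : F) ≠ 0 := by
      have := mul_ne_zero h2 h2; norm_num at this; exact this
    have hp : (2 : F) * (u c' * u c' - u a' * u a') = 0 := by
      have : e * ((2 : F) * (u c' * u c' - u a' * u a')) = 0 := by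
        linear_combination huv + e * hsa1 - e * hsa2
      exact (mul_eq_zero.1 this).resolve_left (unit_ne he)
    have hq := sub_eq_zero.1 ((mul_eq_zero.1 hp).resolve_left h2)
    have hval : ∀ t ∈ U, u t * u t = 1 / 4 := by
      have hqa : u a' * u a' = 1 / 4 := by
        field_simp
        linear_combination huu - hsa1 - hsa2 - 2 * hq
      intro t ht
      rw [hUeq] at ht
      simp at ht
      rcases ht with rfl | rfl | rfl | rfl
      · exact hqa
      · rw [hsa1, hqa]
      · rw [hq, hqa]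
      · rw [hsa2, hq, hqa]
    obtain ⟨p, q, hpq, hUpq⟩ := Finset.card_eq_two.1 (show Uᶜ.card = 2 by rw [Finset.card_compl, hn, hUc])
    have hU' : ∀ t, t ∈ U ↔ ¬ (t = p ∨ t = q) := fun t => by
      rw [← not_iff_not, not_not, ← Finset.mem_compl, hUpq]; simp
    refine no_half h2 hn hdd hperm hfix hg (x := a) (y := b) hab hpq (fun t => ?_) (fun t => ?_)
    · rw [← hu]
      by_cases ht : t = p ∨ t = q
      · rw [if_pos ht, (hout t (fun h => (hU' t).1 h ht)).1, mul_zero]
      · rw [if_neg ht, hval t ((hU' t).2 ht)]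
    · rw [← hv]
      by_cases ht : t = p ∨ t = q
      · rw [if_pos ht, (hout t (fun h => (hU' t).1 h ht)).2, mul_zero]
      · rw [if_neg ht, hvt t, ← hval t ((hU' t).2 ht)]
        split_ifs <;> linear_combination (u t * u t) * he

theorem mono_of_commute {g : O ι F} (hg : g ∈ K) {S : Finset ι} (hS : S.card = 2 ∨ S.card = 4)
    (hc : g * dd S = dd S * g) : Mono g := by
  rcases hS with h | h
  · obtain ⟨a, b, hab, rfl⟩ := Finset.card_eq_two.1 h
    exact mono_of_commute_pair h2 hn hdd hperm hfix hg hab hc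
  · obtain ⟨a, b, hab, hS'⟩ := Finset.card_eq_two.1 (show Sᶜ.card = 2 by rw [Finset.card_compl, hn, h])
    refine mono_of_commute_pair h2 hn hdd hperm hfix hg hab ?_
    have e : (dd {a, b} : O ι F) = dd Finset.univ * dd S := by
      rw [dd_mul, ← hS']; congr 1; ext i; simp [Finset.mem_symmDiff]
    rw [e, ← mul_assoc, ← dd_univ_comm, mul_assoc, hc, ← mul_assoc]

theorem mono_of_conj {g : O ι F} (hg : g ∈ K) {S : Finset ι} (hS : S.card = 2 ∨ S.card = 4)
    (hm : Mono (g * dd S * g⁻¹)) : Mono g := by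
  rcases hS with h | h
  · obtain ⟨a, b, hab, rfl⟩ := Finset.card_eq_two.1 h
    exact mono_of_pair h2 hn hdd hperm hfix hg hab hm
  · obtain ⟨a, b, hab, hS'⟩ := Finset.card_eq_two.1 (show Sᶜ.card = 2 by rw [Finset.card_compl, hn, h])
    refine mono_of_pair h2 hn hdd hperm hfix hg hab ?_
    have e : (dd {a, b} : O ι F) = dd Finset.univ * dd S := by
      rw [dd_mul, ← hS']; congr 1; ext i; simp [Finset.mem_symmDiff]
    rw [e, ← mul_assoc, ← dd_univ_comm, mul_assoc (dd Finset.univ), mul_assoc (dd Finset.univ)]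
    exact (mono_dd _).mul hm

theorem diag_of_conj {k : O ι F} (hk : k ∈ K) {a b : ι} (hab : a ≠ b) (hm : Mono (k * dd {a, b} * k⁻¹)) :
    ∃ W : Finset ι, W.card = 2 ∧ k * dd {a, b} * k⁻¹ = dd W := by
  obtain ⟨W, hW, e⟩ := mono_conj_dd h2 (mono_of_pair h2 hn hdd hperm hfix hk hab hm) {a, b}
  exact ⟨W, by rw [hW, Finset.card_pair hab], e⟩

/-- A centraliser. -/
theorem cent_mono (z : O ι F) (lam : F) {a b e f : ι} (hab : a ≠ b) (hef : e ≠ f) {u1 u2 : ι → F}
    (hzero : ∀ w : ι → F, app z w = lam • w → w e = 0 ∧ w f = 0)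
    (h1 : app z u1 = lam • u1) (h2' : app z u2 = lam • u2) (hu1 : app (dd {a, b}) u1 = -u1) (hu1' : u1 ≠ 0)
    (hu2 : app (dd {a, b}) u2 = u2) (hu2' : u2 ≠ 0) :
    ∀ h ∈ K, h * z = z * h → Mono h := by
  intro h hh hc
  obtain ⟨s, hs⟩ : ∃ s, s = h * dd {e, f} * h⁻¹ := ⟨_, rfl⟩
  have hef2 : Even ({e, f} : Finset ι).card := by rw [Finset.card_pair hef]; exact even_two
  have hab2 : Even ({a, b} : Finset ι).card := by rw [Finset.card_pair hab]; exact even_two
  have hsK : s ∈ K := hs ▸ mul_mem (mul_mem hh (hdd _ hef2)) (inv_mem hh)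
  have hsu : ∀ u : ι → F, app z u = lam • u → app s u = u := fun u hu => by
    have hu' : app z (app h⁻¹ u) = lam • app h⁻¹ u := by
      rw [← app_mul, show z * h⁻¹ = h⁻¹ * z by
        rw [eq_inv_mul_iff_mul_eq, ← mul_assoc, hc, mul_inv_cancel_right], app_mul, hu, app_smul]
    rw [hs, app_mul, app_mul, app_dd_of_supp _ (fun i hi => ?_), app_app_inv]
    simp at hi
    rcases hi with rfl | rfl
    · exact (hzero _ hu').1
    · exact (hzero _ hu').2
  obtain ⟨t, ht⟩ : ∃ t, t = (dd {a, b} : O ι F) := ⟨_, rfl⟩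
  have htK : t ∈ K := ht ▸ hdd _ hab2
  have hle : Subgroup.closure ({t, s} : Set (O ι F)) ≤ K :=
    (Subgroup.closure_le K).2 (by rintro x (rfl | rfl) <;> assumption)
  have he1 : ∀ w ∈ Subgroup.closure ({t, s} : Set (O ι F)), app w u1 = u1 ∨ app w u1 = -u1 := fun w hw =>
    eig_closure h2 (Or.inr (ht ▸ hu1)) (Or.inl (hsu _ h1)) hw
  rcases dihedral t s (ht ▸ dd_mul_self _) (hs ▸ conj_dd_sq h _) with ⟨w, hw, hsw⟩ |
    ⟨x, hx, hx1, hxt, hxs, w, hw, htx⟩
  · exfalso
    have h3 : app (w * t * w⁻¹) u1 = u1 := hsw ▸ hsu _ h1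
    rw [app_mul, app_mul] at h3
    apply hu1'
    have h4 : app w⁻¹ u1 = u1 ∨ app w⁻¹ u1 = -u1 := he1 _ (inv_mem hw)
    have h5 : app t (app w⁻¹ u1) = -app w⁻¹ u1 := by
      rcases h4 with e' | e' <;> rw [e', ht] <;> simp [app_neg, hu1]
    rw [h5, app_neg, app_app_inv] at h3
    funext i
    have := congrFun h3 i
    simp only [Pi.neg_apply] at this
    exact (mul_eq_zero.1 (show (2 : F) * u1 i = 0 by linear_combination -this)).resolve_left h2
  · have hxK : x ∈ K := hle hx
    have hxm : Mono x := mono_of_commute_pair h2 hn hdd hperm hfix hxK hab (ht ▸ hxt)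
    have htxm : Mono (t * x) := (ht ▸ mono_dd _ : Mono t).mul hxm
    obtain ⟨W, hW, hW'⟩ : ∃ W : Finset ι, W.card = 2 ∧ t * x = dd W := by
      rcases htx with e' | e'
      · rw [e', ht] at htxm ⊢
        exact diag_of_conj h2 hn hdd hperm hfix (hle hw) hab htxm
      · rw [e', hs, show w * (h * dd {e, f} * h⁻¹) * w⁻¹ = (w * h) * dd {e, f} * (w * h)⁻¹ by group] at htxm ⊢
        exact diag_of_conj h2 hn hdd hperm hfix (mul_mem (hle hw) hh) hef htxm
    have hxd : x = dd (symmDiff {a, b} W) := by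
      rw [← dd_mul, ← ht, ← hW', ← mul_assoc, ht, dd_mul_self, one_mul]
    rcases dd_card hab hW rfl with e' | e'
    · rw [e', dd_empty] at hxd; exact absurd hxd hx1
    · have hsm : Mono s := mono_of_commute h2 hn hdd hperm hfix hsK e' (hxd ▸ hxs.symm)
      exact mono_of_pair h2 hn hdd hperm hfix hh hef (hs ▸ hsm)

theorem cent_sdt (E : Fin 6 ≃ ι) (z : O ι F) (α β γ : F) (hα : α * α = 1) (hβ : β * β = 1) (hγ : γ * γ = 1)
    (h0 : app z (ax (E 0)) = α • ax (E 1)) (h1 : app z (ax (E 1)) = α • ax (E 0))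
    (h2' : app z (ax (E 2)) = β • ax (E 3)) (h3 : app z (ax (E 3)) = β • ax (E 2))
    (h4 : app z (ax (E 4)) = γ • ax (E 4)) (h5 : app z (ax (E 5)) = γ • ax (E 5)) :
    ∀ h ∈ K, h * z = z * h → Mono h := by
  have hne : ∀ i j : Fin 6, i ≠ j → E i ≠ E j := fun i j h => E.injective.ne h
  refine cent_mono h2 hn hdd hperm hfix z (-γ) (hne 0 1 (by decide)) (hne 4 5 (by decide))
    (u1 := ax (E 0) + (-(α * γ)) • ax (E 1)) (u2 := ax (E 2) + (-(β * γ)) • ax (E 3)) (fun w hw => ?_) ?_ ?_ ?_ ?_ ?_ ?_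
  · have r4 := eig_rel h2 h4 hw
    have r5 := eig_rel h2 h5 hw
    constructor
    · exact (mul_eq_zero.1 (show (2 : F) * w (E 4) = 0 by linear_combination -r4 - w (E 4) * hγ)).resolve_left h2
    · exact (mul_eq_zero.1 (show (2 : F) * w (E 5) = 0 by linear_combination -r5 - w (E 5) * hγ)).resolve_left h2
  · rw [app_add, app_smul, h0, h1, smul_add, smul_smul, smul_smul, add_comm,
      show -γ * -(α * γ) = α by linear_combination α * hγ,
      show -(α * γ) * α = -γ by linear_combination -γ * hα]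
  · rw [app_add, app_smul, h2', h3, smul_add, smul_smul, smul_smul, add_comm,
      show -γ * -(β * γ) = β by linear_combination β * hγ,
      show -(β * γ) * β = -γ by linear_combination -γ * hβ]
  · rw [app_add, app_smul, app_dd_ax, app_dd_ax, if_pos (by simp), if_pos (by simp), smul_neg, neg_add]
  · intro h
    have := congrFun h (E 0)
    simp [ax, Pi.single_apply, hne 0 1 (by decide)] at this
  · rw [app_add, app_smul, app_dd_ax, app_dd_ax,
      if_neg (by simp [hne 2 0 (by decide), hne 2 1 (by decide)]),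
      if_neg (by simp [hne 3 0 (by decide), hne 3 1 (by decide)])]
  · intro h
    have := congrFun h (E 2)
    simp [ax, Pi.single_apply, hne 2 3 (by decide)] at this

/-- Everything is monomial. -/
theorem mono_all {g : O ι F} (hg : g ∈ K) : Mono g := by
  classical
  let E : Fin 6 ≃ ι := (Fintype.equivFinOfCardEq hn).symm
  obtain ⟨σ, hσ⟩ : ∃ σ, σ = E.permCongr (Equiv.swap (0 : Fin 6) 1 * Equiv.swap 2 3) := ⟨_, rfl⟩
  have hσK : pG σ ∈ K := hperm _ (by rw [hσ, Equiv.Perm.sign_permCongr]; decide)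
  have hσv : ∀ i, σ (E i) = E ((Equiv.swap (0 : Fin 6) 1 * Equiv.swap 2 3 : Equiv.Perm (Fin 6)) i) := fun i => by
    rw [hσ]; simp
  obtain ⟨x, hxdef⟩ : ∃ x, x = (pG σ : O ι F) := ⟨_, rfl⟩
  have hxx : x * x = 1 := by
    rw [hxdef, ← map_mul, show σ * σ = 1 by
      apply Equiv.ext; intro i; obtain ⟨j, rfl⟩ := E.surjective i
      rw [Equiv.Perm.mul_apply, hσv, hσv, Equiv.Perm.one_apply]
      congr 1; revert j; decide, map_one]
  have hxa : ∀ i, app x (ax (E i)) =
      (1 : F) • ax (E ((Equiv.swap (0 : Fin 6) 1 * Equiv.swap 2 3 : Equiv.Perm (Fin 6)) i)) := fun i => by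
    rw [hxdef, app_pG_ax, hσv, one_smul]
  have hcx : ∀ h ∈ K, h * x = x * h → Mono h := cent_sdt h2 hn hdd hperm hfix E x 1 1 1 (one_mul 1) (one_mul 1)
    (one_mul 1) (hxa 0) (hxa 1) (hxa 2) (hxa 3) (hxa 4) (hxa 5)
  have hne : ∀ i j : Fin 6, i ≠ j → E i ≠ E j := fun i j h => E.injective.ne h
  have hdiag : ∀ W : Finset ι, x ≠ dd W := fun W h => by
    have := hxa 0
    rw [show (Equiv.swap (0 : Fin 6) 1 * Equiv.swap 2 3 : Equiv.Perm (Fin 6)) 0 = 1 by decide, h, app_dd_ax] at this
    have h' := congrFun this (E 0)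
    split_ifs at h' <;> simp [ax, Pi.single_apply, hne 0 1 (by decide)] at h'
  -- a monomial conjugate of `x` comes from a monomial element
  have hfus : ∀ k ∈ K, Mono (k * x * k⁻¹) → Mono k := by
    intro k hk hm
    have hyy : k * x * k⁻¹ * (k * x * k⁻¹) = 1 := by
      rw [show k * x * k⁻¹ * (k * x * k⁻¹) = k * (x * x) * k⁻¹ by group, hxx, mul_one, mul_inv_cancel]
    obtain ⟨i, j, hij, hc⟩ : ∃ i j, i ≠ j ∧ (k * x * k⁻¹) * dd {i, j} = dd {i, j} * (k * x * k⁻¹) := by
      by_cases hmv : ∃ i j, i ≠ j ∧ ∃ c : F, c * c = 1 ∧ app (k * x * k⁻¹) (ax i) = c • ax j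
      · obtain ⟨i, j, hij, c, hc, he⟩ := hmv
        refine ⟨i, j, hij, commute_dd_of_mono hm hyy _ fun t ht => ?_⟩
        simp at ht
        rcases ht with rfl | rfl
        · exact ⟨j, by simp, c, hc, he⟩
        · exact ⟨i, by simp, c, hc, partner_back hyy hc he⟩
      · push Not at hmv
        refine ⟨E 0, E 1, hne 0 1 (by decide), commute_dd_of_mono hm hyy _ fun t ht => ?_⟩
        obtain ⟨l, c, hc, he⟩ := mono_ax_smul hm t
        have : l = t := by_contra fun h => hmv t l (Ne.symm h) c hc he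
        exact ⟨t, ht, c, hc, this ▸ he⟩
    have hK' : k⁻¹ * dd {i, j} * k⁻¹⁻¹ ∈ K :=
      mul_mem (mul_mem (inv_mem hk) (hdd _ (by rw [Finset.card_pair hij]; exact even_two))) (inv_mem (inv_mem hk))
    have := hcx _ hK' (by
      calc k⁻¹ * dd {i, j} * k⁻¹⁻¹ * x = k⁻¹ * (dd {i, j} * (k * x * k⁻¹)) * k := by group
        _ = x * (k⁻¹ * dd {i, j} * k⁻¹⁻¹) := by rw [← hc]; group)
    simpa using (mono_of_pair h2 hn hdd hperm hfix (inv_mem hk) hij this).inv h2
  obtain ⟨s, hs⟩ : ∃ s, s = g * x * g⁻¹ := ⟨_, rfl⟩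
  obtain ⟨t, ht⟩ : ∃ t, t = (dd {E 4, E 5} : O ι F) := ⟨_, rfl⟩
  have h45 := hne 4 5 (by decide)
  have htK : t ∈ K := ht ▸ hdd _ (by rw [Finset.card_pair h45]; exact even_two)
  have hxK : x ∈ K := hxdef ▸ hσK
  have hsK : s ∈ K := hs ▸ mul_mem (mul_mem hg hxK) (inv_mem hg)
  have hss : s * s = 1 := by
    rw [hs, show g * x * g⁻¹ * (g * x * g⁻¹) = g * (x * x) * g⁻¹ by group, hxx, mul_one, mul_inv_cancel]
  have hle : Subgroup.closure ({t, s} : Set (O ι F)) ≤ K :=
    (Subgroup.closure_le K).2 (by rintro y (rfl | rfl) <;> assumption)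
  rcases dihedral t s (ht ▸ dd_mul_self _) hss with ⟨w, hw, hsw⟩ | ⟨z, hz, hz1, hzt, hzs, w, hw, htz⟩
  · exfalso
    obtain ⟨k, hk⟩ : ∃ k, k = w⁻¹ * g := ⟨_, rfl⟩
    have hkK : k ∈ K := hk ▸ mul_mem (inv_mem (hle hw)) hg
    have e : k * x * k⁻¹ = t := by
      rw [hk, show w⁻¹ * g * x * (w⁻¹ * g)⁻¹ = w⁻¹ * (g * x * g⁻¹) * w by group, ← hs, hsw]; group
    have hkm := hfus k hkK (by rw [e, ht]; exact mono_dd _)
    obtain ⟨W, -, hW⟩ := mono_conj_dd h2 (hkm.inv h2) {E 4, E 5}
    refine hdiag W ?_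
    rw [← hW, ← ht, ← e]; group
  · have hzK : z ∈ K := hle hz
    have hzm : Mono z := mono_of_commute_pair h2 hn hdd hperm hfix hzK h45 (ht ▸ hzt)
    have htzm : Mono (t * z) := (ht ▸ mono_dd _ : Mono t).mul hzm
    rcases htz with e | e
    · rw [e, ht] at htzm
      obtain ⟨W, hW, hW'⟩ := diag_of_conj h2 hn hdd hperm hfix (hle hw) h45 htzm
      rw [← ht, ← e] at hW'
      have hzd : z = dd (symmDiff {E 4, E 5} W) := by
        rw [← dd_mul, ← ht, ← hW', ← mul_assoc, ht, dd_mul_self, one_mul]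
      rcases dd_card h45 hW rfl with e' | e'
      · rw [e', dd_empty] at hzd; exact absurd hzd hz1
      · have hK' : g⁻¹ * z * g⁻¹⁻¹ ∈ K := mul_mem (mul_mem (inv_mem hg) hzK) (inv_mem (inv_mem hg))
        have hm := hcx _ hK' (by
          rw [hs] at hzs
          calc g⁻¹ * z * g⁻¹⁻¹ * x = g⁻¹ * (z * (g * x * g⁻¹)) * g := by group
            _ = x * (g⁻¹ * z * g⁻¹⁻¹) := by rw [hzs]; group)
        rw [hzd] at hm
        simpa using (mono_of_conj h2 hn hdd hperm hfix (inv_mem hg) e' hm).inv h2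
    · obtain ⟨k, hk⟩ : ∃ k, k = w * g := ⟨_, rfl⟩
      have hkK : k ∈ K := hk ▸ mul_mem (hle hw) hg
      have ek : t * z = k * x * k⁻¹ := by rw [e, hs, hk]; group
      have hkm : Mono k := hfus k hkK (ek ▸ htzm)
      obtain ⟨W, hW, hW'⟩ := mono_conj_dd h2 (hkm.inv h2) {E 4, E 5}
      rw [← ht, inv_inv] at hW'
      rw [Finset.card_pair h45] at hW
      have hz0 : k⁻¹ * z * k = dd W * x := by
        rw [← hW', show x = k⁻¹ * (t * z) * k by rw [ek]; group]
        rw [show k⁻¹ * t * k * (k⁻¹ * (t * z) * k) = k⁻¹ * (t * t) * z * k by group, ht, dd_mul_self]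
        group
      -- `W` is invariant
      have hWx : ∀ i, E i ∈ W ↔ E ((Equiv.swap (0 : Fin 6) 1 * Equiv.swap 2 3 : Equiv.Perm (Fin 6)) i) ∈ W := by
        intro i
        have hcom : x * dd W = dd W * x := by
          rw [← hW', show x = k⁻¹ * (t * z) * k by rw [ek]; group]
          calc k⁻¹ * (t * z) * k * (k⁻¹ * t * k) = k⁻¹ * (t * (z * t)) * k := by group
            _ = k⁻¹ * t * k * (k⁻¹ * (t * z) * k) := by rw [hzt]; group
        have := congrArg (fun q : O ι F => app q (ax (E i))) hcom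
        rw [app_mul, app_mul, app_dd_ax, hxa, app_smul, app_dd_ax] at this
        by_cases h1' : E i ∈ W <;>
          by_cases h2'' : E ((Equiv.swap (0 : Fin 6) 1 * Equiv.swap 2 3 : Equiv.Perm (Fin 6)) i) ∈ W <;>
          simp only [h1', h2'', if_true, if_false, app_neg, hxa, one_smul, iff_true, iff_false, not_false_eq_true]
            at this ⊢ <;>
          exact absurd (congrFun this (E ((Equiv.swap (0 : Fin 6) 1 * Equiv.swap 2 3 : Equiv.Perm (Fin 6)) i)))
            (by simp [ax]; first | exact neg_one_ne h2 | exact (neg_one_ne h2).symm)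
      obtain ⟨W0, hW0⟩ : ∃ W0 : Finset (Fin 6), W0 = W.map E.symm.toEmbedding := ⟨_, rfl⟩
      have hmem0 : ∀ i, i ∈ W0 ↔ E i ∈ W := fun i => by rw [hW0, Finset.mem_map_equiv]; simp
      have hcl : W0 = {0, 1} ∨ W0 = {2, 3} ∨ W0 = {4, 5} := by
        have h1' : W0.card = 2 := by rw [hW0, Finset.card_map, hW]
        have h2'' : ∀ i, i ∈ W0 ↔ (Equiv.swap (0 : Fin 6) 1 * Equiv.swap 2 3 : Equiv.Perm (Fin 6)) i ∈ W0 :=
          fun i => by rw [hmem0, hmem0]; exact hWx i
        revert h1' h2''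
        clear hW0 hmem0
        revert W0
        decide
      obtain ⟨sg, hsg⟩ : ∃ sg : Fin 6 → F, ∀ i, (if i ∈ W0 then -1 else 1) = sg i := ⟨_, fun _ => rfl⟩
      have hza : ∀ i, app (dd W * x) (ax (E i)) =
          sg ((Equiv.swap (0 : Fin 6) 1 * Equiv.swap 2 3 : Equiv.Perm (Fin 6)) i) •
            ax (E ((Equiv.swap (0 : Fin 6) 1 * Equiv.swap 2 3 : Equiv.Perm (Fin 6)) i)) := fun i => by
        rw [app_mul, hxa, one_smul, app_dd_ax, ← hsg]
        simp only [hmem0]
        split_ifs <;> simp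
      have hsg2 : ∀ i, sg i * sg i = 1 := fun i => by rw [← hsg]; split_ifs <;> ring
      have hcz : ∀ h ∈ K, h * (dd W * x) = (dd W * x) * h → Mono h := by
        refine cent_sdt h2 hn hdd hperm hfix E _ (sg 1) (sg 3) (sg 4) (hsg2 _) (hsg2 _) (hsg2 _) (hza 0) ?_ (hza 2)
          ?_ (hza 4) ?_
        · rw [hza 1]
          show sg 0 • ax (E 0) = _
          rw [← hsg, ← hsg]; rcases hcl with e' | e' | e' <;> simp [e']
        · rw [hza 3]
          show sg 2 • ax (E 2) = _
          rw [← hsg, ← hsg]; rcases hcl with e' | e' | e' <;> simp [e']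
        · rw [hza 5]
          show sg 5 • ax (E 5) = _
          rw [← hsg, ← hsg]; rcases hcl with e' | e' | e' <;> simp [e']
      have hsm' : Mono (k⁻¹ * s * k) := hcz _ (mul_mem (mul_mem (inv_mem hkK) hsK) hkK) (by
        rw [← hz0]
        calc k⁻¹ * s * k * (k⁻¹ * z * k) = k⁻¹ * (s * z) * k := by group
          _ = k⁻¹ * z * k * (k⁻¹ * s * k) := by rw [← hzs]; group)
      have hsm : Mono s := by
        have := (hkm.mul hsm').mul (hkm.inv h2)
        simpa [mul_assoc] using this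
      exact hfus g hg (hs ▸ hsm)

omit hfix in
/-- The dichotomy in six variables. -/
theorem mono_or_pairs [Fintype F] (hp : (Fintype.card F).Prime) :
    (∀ k ∈ K, Mono k) ∨
      ∀ (v w : ι → F) (hv : v ⬝ᵥ v = 1) (hw : w ⬝ᵥ w = 1), rr v hv * rr w hw ∈ K := by
  have heven : Even (Fintype.card ι) := by rw [hn]; exact ⟨3, rfl⟩
  by_cases hfix : ∀ k ∈ K, ∀ c, app k (ax c) = ax c → Mono k
  · exact Or.inl fun k hk => mono_all h2 hn hdd hperm hfix hk
  push Not at hfix
  obtain ⟨k0, hk0, o, hko, hk0'⟩ := hfix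
  have hgood := (mono_or_units h2 hp hdd hperm (Or.inl hn) heven o).resolve_left fun h => hk0' (h k0 hk0 hko)
  refine Or.inr (pairs_of_zero h2 (by omega) K o fun v hv ⟨j, hj⟩ => ?_)
  by_cases hjo : j = o
  · exact hgood v hv (hjo ▸ hj)
  obtain ⟨σ, hσ, hσo⟩ := exists_even_perm {j} (fun _ => o) (by simp) (by simp; omega)
  obtain ⟨u, hu⟩ : ∃ u, u = app (pG σ) v := ⟨_, rfl⟩
  have hu1 : u ⬝ᵥ u = 1 := hu ▸ app_unit h2 _ hv
  have hσj : σ j = o := hσo j (Finset.mem_singleton_self j)
  have hu0 : u o = 0 := by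
    rw [hu, app_pG, Function.comp_apply, ← hσj, Equiv.Perm.inv_def, Equiv.symm_apply_apply, hj]
  have h1 : (pG σ)⁻¹ * (rr u hu1 * rr (ax o) (ax_unit o)) * (pG σ) ∈ K :=
    mul_mem (mul_mem (inv_mem (hperm σ hσ)) (hgood u hu1 hu0)) (hperm σ hσ)
  have e1 : (pG σ)⁻¹ * (rr u hu1 * rr (ax o) (ax_unit o)) * (pG σ) = rr v hv * rr (ax j) (ax_unit j) := by
    have a1 : rr u hu1 = pG σ * rr v hv * (pG σ)⁻¹ := by
      rw [conj_rr h2]; exact rr_congr _ _ hu
    have a2 : (rr (ax o) (ax_unit o) : O ι F) = pG σ * rr (ax j) (ax_unit j) * (pG σ)⁻¹ := by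
      rw [conj_rr h2]; exact rr_congr _ _ (by rw [app_pG_ax, hσj])
    rw [a1, a2]; group
  have h3 : rr (ax j) (ax_unit j) * rr (ax o) (ax_unit o) ∈ K := by
    rw [← dd_pair hjo]
    exact hdd _ (by rw [Finset.card_pair hjo]; exact even_two)
  have := mul_mem (e1 ▸ h1) h3
  rwa [mul_assoc, ← mul_assoc (rr (ax j) (ax_unit j)), rr_mul_self, one_mul] at this

end main

end Cfsg.Agent.Lib.OrthFrame.Six
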