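import Mathlib

/-!
Sets of unit vectors of `ι → F` (dot product) closed under their reflections, containing the
coordinate axes and invariant under even permutations of the coordinates.
-/

set_option autoImplicit false
set_option linter.unusedSectionVars false

namespace Cfsg.Agent.Lib.OrthFrame

open Matrix Finset

variable {ι : Type*} [Fintype ι] [DecidableEq ι] {F : Type*} [Field F]

/-- The coordinate vector. -/
abbrev ax (a : ι) : ι → F := Pi.single a 1

/-- The reflection in the unit vector `v`. -/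
def rf (v x : ι → F) : ι → F := x - (2 * (v ⬝ᵥ x)) • v

/-- The support of a vector. -/
noncomputable def supp (v : ι → F) : Finset ι := by
  classical exact Finset.univ.filter fun i => v i ≠ 0

theorem mem_supp {v : ι → F} {i : ι} : i ∈ supp v ↔ v i ≠ 0 := by simp [supp]

theorem dot_ax (v : ι → F) (a : ι) : v ⬝ᵥ ax a = v a := by simp [ax]

theorem ax_dot (v : ι → F) (a : ι) : ax a ⬝ᵥ v = v a := by simp [ax]

theorem ax_apply_same (a : ι) : (ax a : ι → F) a = 1 := by simp [ax]

theorem ax_apply_ne {a i : ι} (h : i ≠ a) : (ax a : ι → F) i = 0 := by simp [ax, h]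

theorem rf_dot {v : ι → F} (hv : v ⬝ᵥ v = 1) (x y : ι → F) : rf v x ⬝ᵥ rf v y = x ⬝ᵥ y := by
  simp only [rf, sub_dotProduct, dotProduct_sub, smul_dotProduct, dotProduct_smul, hv, smul_eq_mul]
  rw [dotProduct_comm x v]
  ring

theorem rf_rf {v : ι → F} (hv : v ⬝ᵥ v = 1) (x : ι → F) : rf v (rf v x) = x := by
  have h : v ⬝ᵥ rf v x = -(v ⬝ᵥ x) := by
    simp only [rf, dotProduct_sub, dotProduct_smul, hv, smul_eq_mul]; ring
  conv_lhs => rw [rf, h]
  simp only [rf, mul_neg, neg_smul, sub_neg_eq_add, sub_add_cancel]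

theorem rf_self {v : ι → F} (hv : v ⬝ᵥ v = 1) : rf v v = -v := by
  simp only [rf, hv]; module

theorem rf_of_orth {v x : ι → F} (h : v ⬝ᵥ x = 0) : rf v x = x := by simp [rf, h]

theorem rf_ax (a : ι) (x : ι → F) : rf (ax a) x = Function.update x a (-x a) := by
  funext i
  by_cases h : i = a
  · subst h; simp [rf, ax]; ring
  · simp [rf, ax, h]

theorem unit_ne_zero {v : ι → F} (hv : v ⬝ᵥ v = 1) : v ≠ 0 := by
  rintro rfl; simp at hv

theorem eq_single_of_supp {v : ι → F} {a : ι} (h : supp v ⊆ {a}) : v = Pi.single a (v a) := by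
  funext i
  by_cases hi : i = a
  · subst hi; simp
  · rw [Pi.single_eq_of_ne hi]
    by_contra h0
    exact hi (Finset.mem_singleton.1 (h (mem_supp.2 h0)))

theorem axis_of_supp {v : ι → F} (hv : v ⬝ᵥ v = 1) {a : ι} (h : supp v ⊆ {a}) :
    v = ax a ∨ v = -ax a := by
  have e := eq_single_of_supp h
  have hs : v a * v a = 1 := by rw [e] at hv; simpa using hv
  rcases mul_self_eq_one_iff.1 hs with h1 | h1
  · left; rw [e, h1]
  · right; rw [e, h1, Pi.single_neg]

/-- A root set: unit vectors, containing the axes, closed under reflection, invariant under even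
permutations, with a transitive group of symmetries. -/
structure RootSys (R : Set (ι → F)) : Prop where
  unit : ∀ v ∈ R, v ⬝ᵥ v = 1
  axis : ∀ a, ax a ∈ R
  refl : ∀ v ∈ R, ∀ w ∈ R, rf v w ∈ R
  perm : ∀ σ : Equiv.Perm ι, Equiv.Perm.sign σ = 1 → ∀ v ∈ R, v ∘ σ ∈ R
  trans : ∀ v ∈ R, ∀ a, ∃ φ : (ι → F) ≃ₗ[F] (ι → F), φ (ax a) = v ∧
    (∀ x y, φ x ⬝ᵥ φ y = x ⬝ᵥ y) ∧ (∀ u ∈ R, φ u ∈ R) ∧ (∀ u ∈ R, φ.symm u ∈ R)

/-- The vector with coordinate `c i` at position `b i`. -/
def vec {k : ℕ} (b : Fin k → ι) (c : Fin k → F) : ι → F := ∑ i, Pi.single (b i) (c i)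

theorem vec_apply {k : ℕ} {b : Fin k → ι} (hb : Function.Injective b) (c : Fin k → F) (i : Fin k) :
    vec b c (b i) = c i := by
  rw [vec, Finset.sum_apply, Finset.sum_eq_single i]
  · simp
  · intro j _ hj; rw [Pi.single_eq_of_ne (fun e => hj (hb e).symm)]
  · simp

theorem vec_apply_out {k : ℕ} {b : Fin k → ι} (c : Fin k → F) {j : ι} (hj : ∀ i, b i ≠ j) :
    vec b c j = 0 := by
  rw [vec, Finset.sum_apply]
  exact Finset.sum_eq_zero fun i _ => Pi.single_eq_of_ne (fun e => hj i e.symm) _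

theorem eq_vec {k : ℕ} {b : Fin k → ι} (hb : Function.Injective b) {v : ι → F}
    (hv : ∀ j, (∀ i, b i ≠ j) → v j = 0) : v = vec b fun i => v (b i) := by
  funext j
  by_cases h : ∃ i, b i = j
  · obtain ⟨i, rfl⟩ := h; rw [vec_apply hb]
  · push Not at h; rw [vec_apply_out _ h, hv j h]

theorem vec_dot {k : ℕ} (b : Fin k → ι) (c : Fin k → F) (x : ι → F) :
    vec b c ⬝ᵥ x = ∑ i, c i * x (b i) := by
  simp [vec, sum_dotProduct]

theorem vec_dot_vec {k : ℕ} {b : Fin k → ι} (hb : Function.Injective b) (c d : Fin k → F) :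
    vec b c ⬝ᵥ vec b d = ∑ i, c i * d i := by
  rw [vec_dot]; simp [vec_apply hb]

theorem rf_vec {k : ℕ} {b : Fin k → ι} (hb : Function.Injective b) (c d : Fin k → F) :
    rf (vec b c) (vec b d) = vec b (fun i => d i - 2 * (∑ l, c l * d l) * c i) := by
  funext j
  by_cases h : ∃ i, b i = j
  · obtain ⟨i, rfl⟩ := h
    simp [rf, vec_dot_vec hb, vec_apply hb]
  · push Not at h
    simp [rf, vec_apply_out _ h]

theorem exists_even_perm (S : Finset ι) (f : ι → ι) (hf : Set.InjOn f ↑S)
    (hS : S.card + 2 ≤ Fintype.card ι) :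
    ∃ σ : Equiv.Perm ι, Equiv.Perm.sign σ = 1 ∧ ∀ i ∈ S, σ i = f i := by
  classical
  obtain ⟨σ, hσ⟩ : ∃ σ : Equiv.Perm ι, ∀ i ∈ S, σ i = f i := by
    let e : {x // x ∈ S} ≃ {x // x ∈ S.image f} :=
      Equiv.ofBijective (fun x => ⟨f x.1, Finset.mem_image_of_mem f x.2⟩)
        ⟨fun x y h => Subtype.ext (hf x.2 y.2 (congrArg Subtype.val h)),
         fun y => by
          obtain ⟨x, hx, e⟩ := Finset.mem_image.1 y.2
          exact ⟨⟨x, hx⟩, Subtype.ext e⟩⟩
    exact ⟨e.extendSubtype, fun i hi => Equiv.extendSubtype_apply_of_mem e i hi⟩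
  rcases Int.units_eq_one_or (Equiv.Perm.sign σ) with h | h
  · exact ⟨σ, h, hσ⟩
  · obtain ⟨a, ha, b, hb, hab⟩ : ∃ a ∈ Sᶜ, ∃ b ∈ Sᶜ, a ≠ b :=
      Finset.one_lt_card.1 (by rw [Finset.card_compl]; omega)
    rw [Finset.mem_compl] at ha hb
    refine ⟨σ * Equiv.swap a b, by simp [Equiv.Perm.sign_swap hab, h], fun i hi => ?_⟩
    rw [Equiv.Perm.mul_apply, Equiv.swap_apply_of_ne_of_ne (fun (e : i = a) => ha (e ▸ hi))
      (fun (e : i = b) => hb (e ▸ hi))]
    exact hσ i hi

namespace RootSys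

variable {R : Set (ι → F)} (hR : RootSys R)
include hR

theorem neg {v : ι → F} (hv : v ∈ R) : -v ∈ R := rf_self (hR.unit v hv) ▸ hR.refl v hv v hv

theorem flip {v : ι → F} (hv : v ∈ R) (a : ι) : Function.update v a (-v a) ∈ R :=
  rf_ax a v ▸ hR.refl _ (hR.axis a) v hv

theorem flipSet {v : ι → F} (hv : v ∈ R) (T : Finset ι) :
    (fun i => if i ∈ T then -v i else v i) ∈ R := by
  induction T using Finset.induction_on with
  | empty => simpa using hv
  | insert a T ha ih =>
    have h := hR.flip ih a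
    convert h using 1
    funext i
    by_cases hi : i = a
    · subst hi; simp [ha]
    · simp [hi]

theorem permute {v : ι → F} (hv : v ∈ R) (S : Finset ι) (f : ι → ι) (hf : Set.InjOn f ↑S)
    (hS : S.card + 2 ≤ Fintype.card ι) (hsupp : ∀ i, v i ≠ 0 → i ∈ S) :
    ∃ w ∈ R, (∀ i ∈ S, w (f i) = v i) ∧ ∀ j, (∀ i ∈ S, f i ≠ j) → w j = 0 := by
  obtain ⟨σ, hσ, hσf⟩ := exists_even_perm S f hf hS
  refine ⟨v ∘ ⇑σ⁻¹, hR.perm σ⁻¹ (by simp [hσ]) v hv, fun i hi => ?_, fun j hj => ?_⟩
  · simp [← hσf i hi]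
  · by_contra h
    have hm := hsupp _ h
    exact hj _ hm (by rw [← hσf _ hm]; simp)

/-- Moving a pattern to other positions. -/
theorem move {k : ℕ} (hk : k + 2 ≤ Fintype.card ι) {a b : Fin k → ι} (ha : Function.Injective a)
    (hb : Function.Injective b) {c : Fin k → F} (h : vec a c ∈ R) : vec b c ∈ R := by
  classical
  let f : ι → ι := fun j => if hj : ∃ i, a i = j then b hj.choose else j
  have hfa : ∀ i, f (a i) = b i := fun i => by
    have hj : ∃ l, a l = a i := ⟨i, rfl⟩
    simp only [f, dif_pos hj]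
    exact congrArg b (ha hj.choose_spec)
  have hcard : (Finset.univ.image a).card = k := by
    rw [Finset.card_image_of_injective _ ha, Finset.card_univ, Fintype.card_fin]
  obtain ⟨w, hw, hw1, hw2⟩ := hR.permute h (Finset.univ.image a) f (by
    intro x hx y hy e
    simp only [Finset.coe_image, Set.mem_image, Finset.coe_univ, Set.mem_univ, true_and] at hx hy
    obtain ⟨i, rfl⟩ := hx
    obtain ⟨l, rfl⟩ := hy
    rw [hfa, hfa] at e
    rw [hb e]) (by omega) (fun i hi => by
      by_contra hh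
      exact hi (vec_apply_out _ fun l e => hh (Finset.mem_image.2 ⟨l, Finset.mem_univ _, e⟩)))
  have he : w = vec b c := by
    have e1 := eq_vec hb (v := w) (fun j hj => hw2 j fun i hi => by
      obtain ⟨l, -, rfl⟩ := Finset.mem_image.1 hi
      rw [hfa]; exact hj l)
    rw [e1]
    congr 1
    funext i
    rw [← hfa i, hw1 _ (Finset.mem_image_of_mem a (Finset.mem_univ i)), vec_apply ha]
  exact he ▸ hw

/-- The inner product of two roots is a coordinate of a root. -/
theorem coord {v w : ι → F} (hv : v ∈ R) (hw : w ∈ R) (a : ι) :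
    ∃ x ∈ R, x a = v ⬝ᵥ w ∧ (x = ax a → w = v) ∧ (x = -ax a → w = -v) := by
  obtain ⟨φ, h1, h2, -, h4⟩ := hR.trans v hv a
  refine ⟨φ.symm w, h4 w hw, ?_, fun e => ?_, fun e => ?_⟩
  · have := h2 (ax a) (φ.symm w)
    rw [h1, φ.apply_symm_apply, ax_dot] at this
    exact this.symm
  · rw [← h1, ← e, φ.apply_symm_apply]
  · have e' := congrArg φ e
    rw [φ.apply_symm_apply, map_neg, h1] at e'
    exact e'

/-- Either all roots are axes or some root has at least three non-zero coordinates. -/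
theorem axes_or_three (h2 : (2 : F) ≠ 0) (hn : 5 ≤ Fintype.card ι) :
    (∀ v ∈ R, ∃ a, v = ax a ∨ v = -ax a) ∨ ∃ v ∈ R, 3 ≤ (supp v).card := by
  classical
  by_cases h3 : ∃ v ∈ R, 3 ≤ (supp v).card
  · exact Or.inr h3
  push Not at h3
  left
  intro v hv
  haveI : Nonempty ι := Fintype.card_pos_iff.1 (by omega)
  by_cases h1 : (supp v).card ≤ 1
  · obtain ⟨a, ha⟩ := Finset.card_le_one_iff_subset_singleton.1 h1
    exact ⟨a, axis_of_supp (hR.unit v hv) ha⟩
  exfalso
  obtain ⟨i, j, hij, hs⟩ := Finset.card_eq_two.1 (show (supp v).card = 2 by have := h3 v hv; omega)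
  have hi : v i ≠ 0 := mem_supp.1 (by simp [hs])
  have hj : v j ≠ 0 := mem_supp.1 (by simp [hs])
  have hz : ∀ l, l ≠ i → l ≠ j → v l = 0 := fun l a b => by
    by_contra h
    simpa [hs, a, b] using mem_supp.2 h
  -- a root with a partner
  obtain ⟨φ, hφ, hdot, hφR, -⟩ := hR.trans v hv i
  obtain ⟨b, hbi, hb⟩ : ∃ b, b ≠ i ∧ ∃ l, l ≠ i ∧ l ≠ j ∧ φ (ax b) l ≠ 0 := by
    by_contra hh
    push Not at hh
    have hinj : Function.Injective fun b : ι => φ (ax b) := fun x y e => by
      have := φ.injective e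
      by_contra hne
      have := congrFun this x
      simp [ax, Pi.single_apply, hne] at this
    have hker : ∀ y : ι → F, ∀ l, l ≠ i → l ≠ j → φ y l = 0 := by
      intro y l hli hlj
      have hy : φ y = ∑ x, y x • φ (ax x) := by
        conv_lhs => rw [pi_eq_sum_univ' y]
        simp [map_sum, ax]
      rw [hy, Finset.sum_apply]
      refine Finset.sum_eq_zero fun x _ => ?_
      by_cases hx : x = i
      · subst hx; simp [hφ, hz l hli hlj]
      · simp [hh x hx l hli hlj]
    obtain ⟨l, hl⟩ : ∃ l, l ∈ ({i, j} : Finset ι)ᶜ := by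
      apply Finset.Nonempty.exists_mem
      rw [← Finset.card_pos, Finset.card_compl, Finset.card_pair hij]
      omega
    simp at hl
    have := hker (φ.symm (ax l)) l hl.1 hl.2
    simp [ax] at this
  obtain ⟨l, hli, hlj, hl⟩ := hb
  set y := φ (ax b) with hy
  have hyR : y ∈ R := hφR _ (hR.axis b)
  have horth : v ⬝ᵥ y = 0 := by rw [← hφ, hdot, dot_ax, ax_apply_ne hbi]
  have hd : v i * y i + v j * y j = 0 := by
    rw [← horth]
    have hv' : v = Pi.single i (v i) + Pi.single j (v j) := by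
      funext x
      by_cases hxi : x = i
      · subst hxi; simp [hij]
      by_cases hxj : x = j
      · subst hxj; simp [Ne.symm hij]
      simp [hxi, hxj, hz x hxi hxj]
    conv_rhs => rw [hv']
    simp [add_dotProduct]
  have hyi : y i = 0 ∧ y j = 0 := by
    by_contra hh
    have hboth : y i ≠ 0 ∧ y j ≠ 0 := by
      constructor <;> intro h0 <;> apply hh
      · exact ⟨h0, by simpa [h0, hj] using hd⟩
      · exact ⟨by simpa [h0, hi] using hd, h0⟩
    have hsub : ({i, j, l} : Finset ι) ⊆ supp y := by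
      intro x hx
      simp at hx
      rcases hx with rfl | rfl | rfl
      · exact mem_supp.2 hboth.1
      · exact mem_supp.2 hboth.2
      · exact mem_supp.2 hl
    have := Finset.card_le_card hsub
    rw [Finset.card_eq_three.2 ⟨i, j, l, hij, Ne.symm hli, Ne.symm hlj, rfl⟩] at this
    have := h3 y hyR
    omega
  -- reflecting the axes gives a root of support three, unless the coordinates are equal squares
  have hv1 : v i * v i + v j * v j = 1 := by
    rw [← hR.unit v hv, dotProduct,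
      ← Finset.sum_subset (Finset.subset_univ ({i, j} : Finset ι)) fun x _ hx => by
        simp at hx; simp [hz x hx.1 hx.2], Finset.sum_pair hij]
  -- the diagonal vector
  obtain ⟨w, hwR, hw1, hw2⟩ := hR.permute hv {i, j} (fun x => if x = i then i else b) (by
      intro x hx y' hy' e
      simp only [Finset.coe_insert, Finset.coe_singleton, Set.mem_insert_iff, Set.mem_singleton_iff] at hx hy'
      rcases hx with rfl | rfl <;> rcases hy' with rfl | rfl <;> simp [hij, Ne.symm hij, hbi, Ne.symm hbi] at e ⊢)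
    (by rw [Finset.card_pair hij]; omega) (fun x hx => by
      by_contra hh; simp at hh; exact hx (hz x hh.1 hh.2))
  have hwi : w i = v i := by simpa using hw1 i (by simp)
  have hwb : w b = v j := by simpa [Ne.symm hij] using hw1 j (by simp)
  have hwz : ∀ x, x ≠ i → x ≠ b → w x = 0 := fun x a c => hw2 x fun z hz' => by
    simp at hz'
    rcases hz' with rfl | rfl <;> simp [Ne.symm hij, Ne.symm a, Ne.symm c]
  have hw' : w = Pi.single i (v i) + Pi.single b (v j) := by
    funext x
    by_cases hxi : x = i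
    · subst hxi; simp [hwi, Ne.symm hbi]
    by_cases hxb : x = b
    · subst hxb; simp [hwb, hbi]
    simp [hxi, hxb, hwz x hxi hxb]
  have him : φ w = v i • v + v j • y := by
    rw [hw', map_add, hy, ← hφ]
    congr 1 <;> rw [← map_smul] <;> congr 1 <;> funext x <;> simp [ax, Pi.single_apply]
  have hbad := h3 _ (hφR w hwR)
  have hsub : ({i, j, l} : Finset ι) ⊆ supp (φ w) := by
    intro x hx
    simp at hx
    rw [mem_supp, him]
    rcases hx with rfl | rfl | rfl
    · simp [hyi.1, hi]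
    · simp [hyi.2, hi, hj]
    · simp [hz x hli hlj, hj, hl]
  have := Finset.card_le_card hsub
  rw [Finset.card_eq_three.2 ⟨i, j, l, hij, Ne.symm hli, Ne.symm hlj, rfl⟩] at this
  omega

end RootSys

end Cfsg.Agent.Lib.OrthFrame
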