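import Cfsg.Agent.Lib.OrthFrame.Frame
import Cfsg.Prelude.Def_GeometricClasses

/-!
Transport to an arbitrary form with an orthogonal frame of isometric lines.
-/

set_option autoImplicit false
set_option linter.unusedSectionVars false

namespace Cfsg.Agent.Lib.OrthFrame

open Matrix Cfsg.Geo Cfsg.Agent.Lib.Orth

variable {ι : Type} [Fintype ι] [DecidableEq ι] {F : Type*} [Field F]

theorem exists_frame (h2 : (2 : F) ≠ 0) (Q : (ι → F) → F) (hQ : IsNondegenerateQuadraticForm Q)
    {t : ℕ} (D : Fin t → Submodule F (ι → F)) (hD : IsOrthogonalMDecomposition Q 1 D) :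
    ∃ (P : GL ι F) (c : F) (e : ι ≃ Fin t), c ≠ 0 ∧
      (∀ x : ι → F, Q ((P : Matrix ι ι F) *ᵥ x) = c * (x ⬝ᵥ x)) ∧
      ∀ a : ι, D (e a) = F ∙ ((P : Matrix ι ι F) *ᵥ ax a) := by
  classical
  have hb := hQ.polar_bilinear
  have hself : ∀ d : ι → F, QuadraticMap.polar Q d d = 2 * Q d := fun d => by
    rw [QuadraticMap.polar, ← two_smul F d, hQ.smul]; ring
  have hdec := hD.decomp.decomp
  have hint : DirectSum.IsInternal D :=
    DirectSum.isInternal_submodule_of_iSupIndep_of_iSup_eq_top hdec.indep hdec.iSup_eq_top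
  have hcard : Fintype.card ι = t := by
    let e := LinearEquiv.ofBijective (DirectSum.coeLinearMap D) hint
    have := e.finrank_eq
    rw [Module.finrank_fintype_fun_eq_card, Module.finrank_directSum] at this
    simp only [hdec.finrank_eq, Finset.sum_const, Finset.card_univ, Fintype.card_fin, smul_eq_mul,
      mul_one] at this
    exact this.symm
  obtain ⟨e⟩ : Nonempty (ι ≃ Fin t) := ⟨Fintype.equivFinOfCardEq hcard⟩
  -- spanning vectors
  have hspan : ∀ i, ∃ d, d ∈ D i ∧ D i = F ∙ d ∧ Q d ≠ 0 := by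
    intro i
    obtain ⟨d, hd, hd0⟩ := Submodule.exists_mem_ne_zero_of_ne_bot
      (show D i ≠ ⊥ from fun h => by
        have := hdec.finrank_eq i
        rw [h, finrank_bot] at this
        omega)
    have hs : D i = F ∙ d := (Submodule.eq_of_le_of_finrank_eq ((Submodule.span_singleton_le_iff_mem _ _).2 hd)
      (by rw [finrank_span_singleton hd0, hdec.finrank_eq])).symm
    refine ⟨d, hd, hs, fun h0 => ?_⟩
    obtain ⟨⟨x, hx, hxd⟩, -⟩ := hD.decomp.nondegenerate i d hd hd0
    rw [hs, Submodule.mem_span_singleton] at hx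
    obtain ⟨s, rfl⟩ := hx
    rw [hb.smul_left, hself, h0, mul_zero, mul_zero] at hxd
    exact hxd rfl
  choose d hdm hds hdQ using hspan
  have ht0 : 0 < t := by have := hdec.two_le; omega
  obtain ⟨c, hc⟩ : ∃ c, c = Q (d ⟨0, ht0⟩) := ⟨_, rfl⟩
  have hc0 : c ≠ 0 := hc ▸ hdQ _
  have hnorm : ∀ i, ∃ w, D i = F ∙ w ∧ Q w = c := by
    intro i
    obtain ⟨f, hf⟩ := hD.isometric ⟨0, ht0⟩ i
    have h1 := hf ⟨d ⟨0, ht0⟩, hdm _⟩
    refine ⟨(f ⟨d ⟨0, ht0⟩, hdm _⟩ : ι → F), ?_, h1.trans hc.symm⟩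
    refine (Submodule.eq_of_le_of_finrank_eq ((Submodule.span_singleton_le_iff_mem _ _).2 (f _).2) ?_).symm
    rw [finrank_span_singleton, hdec.finrank_eq]
    intro h0
    rw [h0] at h1
    have hz : Q (0 : ι → F) = 0 := by simpa using hQ.smul 0 0
    rw [hz] at h1
    exact hdQ _ h1.symm
  choose w hws hwQ using hnorm
  have hmem : ∀ i, w i ∈ D i := fun i => hws i ▸ Submodule.mem_span_singleton_self _
  let L : (ι → F) →ₗ[F] (ι → F) := Fintype.linearCombination F fun a => w (e a)
  have hL : ∀ x, L x = ∑ a, x a • w (e a) := fun x => Fintype.linearCombination_apply F _ x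
  have hB : ∀ x y : ι → F, QuadraticMap.polar Q (L x) (L y) = 2 * c * (x ⬝ᵥ y) := by
    intro x y
    let Bl : (ι → F) →ₗ[F] (ι → F) →ₗ[F] F := LinearMap.mk₂ F (QuadraticMap.polar Q) hb.add_left
      hb.smul_left hb.add_right (fun s v z => hb.smul_right s v z)
    show Bl (L x) (L y) = _
    rw [hL, hL]
    simp only [map_sum, map_smul, LinearMap.sum_apply, LinearMap.smul_apply, smul_eq_mul]
    rw [dotProduct, Finset.mul_sum]
    refine Finset.sum_congr rfl fun a _ => ?_
    rw [Finset.sum_eq_single a]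
    · show y a * (x a * QuadraticMap.polar Q (w (e a)) (w (e a))) = _
      rw [hself, hwQ]; ring
    · intro b _ hb'
      show x b * QuadraticMap.polar Q (w (e b)) (w (e a)) = 0
      rw [hD.decomp.orthogonal _ _ (fun h => hb' (e.injective h)) _ (hmem _) _ (hmem _), mul_zero]
    · simp
  have hQL : ∀ x, Q (L x) = c * (x ⬝ᵥ x) := fun x => by
    have h := hB x x
    rw [hself] at h
    exact mul_left_cancel₀ h2 (h.trans (by ring))
  have hLinj : Function.Injective L := by
    rw [← LinearMap.ker_eq_bot, Submodule.eq_bot_iff]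
    intro x hx
    funext a
    have h := hB x (ax a)
    rw [LinearMap.mem_ker.1 hx, dot_ax] at h
    have hz : QuadraticMap.polar Q (0 : ι → F) (L (ax a)) = 0 := by
      simpa using hb.smul_left 0 0 (L (ax a))
    rw [hz] at h
    exact (mul_eq_zero.1 h.symm).resolve_left (mul_ne_zero h2 hc0)
  have hbij : Function.Bijective L := ⟨hLinj, LinearMap.injective_iff_surjective.1 hLinj⟩
  let Le := LinearEquiv.ofBijective L hbij
  refine ⟨⟨LinearMap.toMatrix' Le.toLinearMap, LinearMap.toMatrix' Le.symm.toLinearMap,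
    by rw [← LinearMap.toMatrix'_comp, LinearEquiv.comp_symm, LinearMap.toMatrix'_id],
    by rw [← LinearMap.toMatrix'_comp, LinearEquiv.symm_comp, LinearMap.toMatrix'_id]⟩, c, e, hc0,
    fun x => ?_, fun a => ?_⟩
  · show Q (LinearMap.toMatrix' Le.toLinearMap *ᵥ x) = _
    rw [LinearMap.toMatrix'_mulVec]
    exact hQL x
  · show D (e a) = F ∙ (LinearMap.toMatrix' Le.toLinearMap *ᵥ ax a)
    rw [LinearMap.toMatrix'_mulVec, hws]
    show _ = F ∙ (L (ax a))
    rw [hL, Finset.sum_eq_single a (fun b _ hb' => by simp [ax, hb']) (by simp)]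
    simp [ax]

/-- Frame stabilisers are maximal. -/
theorem frame_stabilizer_maximal_of_seven [Fintype F] (hp : (Fintype.card F).Prime) (h2 : (2 : F) ≠ 0)
    (Q : (ι → F) → F) (hQ : IsNondegenerateQuadraticForm Q) (hn : Fintype.card ι = 7 ∨ 9 ≤ Fintype.card ι) {t : ℕ}
    (D : Fin t → Submodule F (ι → F)) (hD : IsOrthogonalMDecomposition Q 1 D) :
    IsMaximalIn (omegaGL Q) (decompositionStabilizer D ⊓ omegaGL Q) := by
  classical
  obtain ⟨P, c, e, hc, hPQ, hPD⟩ := exists_frame h2 Q hQ D hD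
  let φ : O ι F →* GL ι F := (MulAut.conj P).toMonoidHom.comp (isometryGroup F ⇑(dotQ ι F)).subtype
  have hφinj : Function.Injective φ := (MulAut.conj P).injective.comp Subtype.val_injective
  have hI : isometryGroup F Q = φ.range := by
    ext g
    constructor
    · intro hg
      refine ⟨⟨P⁻¹ * g * P, mem_isometryGroup_iff.2 fun x => ?_⟩, ?_⟩
      · apply mul_left_cancel₀ hc
        rw [dotQ_apply, dotQ_apply, ← hPQ, ← hPQ, Units.val_mul, Units.val_mul, mulVec_mulVec, ← mul_assoc,
          ← mul_assoc, ← Units.val_mul P, mul_inv_cancel, Units.val_one, one_mul, ← mulVec_mulVec]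
        exact hg _ ((P : Matrix ι ι F) *ᵥ x)
      · show P * (P⁻¹ * g * P) * P⁻¹ = g
        group
    · rintro ⟨k, rfl⟩
      intro v _
      show Q (((P * k.1 * P⁻¹ : GL ι F) : Matrix ι ι F) *ᵥ v) = Q v
      rw [Units.val_mul, Units.val_mul, ← mulVec_mulVec, ← mulVec_mulVec, hPQ,
        show ((k.1 : GL ι F) : Matrix ι ι F) *ᵥ (((P⁻¹ : GL ι F) : Matrix ι ι F) *ᵥ v) =
          app k (((P⁻¹ : GL ι F) : Matrix ι ι F) *ᵥ v) from rfl, app_dot h2, ← hPQ, mulVec_mulVec,
        ← Units.val_mul, mul_inv_cancel, Units.val_one, one_mulVec]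
  have hom : omegaGL Q = (Omega F ⇑(dotQ ι F)).map φ := by
    rw [omegaGL, Cfsg.Omega, Cfsg.Omega, commutator_def, commutator_def, Subgroup.map_commutator,
      Subgroup.map_commutator, ← MonoidHom.range_eq_map, ← MonoidHom.range_eq_map, Subgroup.range_subtype, hI]
  have happ : ∀ (k : O ι F) (a : ι), ((φ k : GL ι F) : Matrix ι ι F) *ᵥ ((P : Matrix ι ι F) *ᵥ ax a) =
      (P : Matrix ι ι F) *ᵥ app k (ax a) := fun k a => by
    show ((P * k.1 * P⁻¹ : GL ι F) : Matrix ι ι F) *ᵥ _ = _
    rw [Units.val_mul, Units.val_mul, mulVec_mulVec, mul_assoc, ← Units.val_mul P⁻¹, inv_mul_cancel,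
      Units.val_one, mul_one, ← mulVec_mulVec]
    rfl
  have hmap : ∀ (k : O ι F) (a : ι),
      (D (e a)).map (Matrix.toLin' ((φ k : GL ι F) : Matrix ι ι F)) =
        F ∙ ((P : Matrix ι ι F) *ᵥ app k (ax a)) := fun k a => by
    rw [hPD, Submodule.map_span, Set.image_singleton, Matrix.toLin'_apply, happ]
  have hstab : ∀ k : O ι F, φ k ∈ decompositionStabilizer D ↔ Mono k := by
    intro k
    constructor
    · rintro ⟨σ, hσ⟩ a
      have h := hσ (e a)
      obtain ⟨b, hb⟩ := e.surjective (σ (e a))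
      rw [hmap, ← hb, hPD] at h
      have hmem : (P : Matrix ι ι F) *ᵥ app k (ax a) ∈ (F ∙ ((P : Matrix ι ι F) *ᵥ ax b)) :=
        h ▸ Submodule.mem_span_singleton_self _
      obtain ⟨s, hs⟩ := Submodule.mem_span_singleton.1 hmem
      have hu : s • ax b = app k (ax a) := by
        have := congrArg (fun z => ((P⁻¹ : GL ι F) : Matrix ι ι F) *ᵥ z) hs
        simp only [mulVec_smul, mulVec_mulVec, ← Units.val_mul, inv_mul_cancel, Units.val_one,
          one_mulVec] at this
        exact this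
      have h1 := app_unit h2 k (ax_unit a)
      rw [← hu, smul_dotProduct, dotProduct_smul, ax_unit, smul_eq_mul, smul_eq_mul, mul_one,
        mul_self_eq_one_iff] at h1
      refine ⟨b, ?_⟩
      rcases h1 with rfl | rfl
      · left; rw [← hu, one_smul]
      · right; rw [← hu, neg_one_smul]
    · intro hk
      choose p hp' using hk
      have hpinj : Function.Injective p := fun a b h => by
        by_contra hne
        have h' := app_ax_dot h2 k a b
        rw [if_neg hne] at h'
        rcases hp' a with ha | ha <;> rcases hp' b with hb | hb <;> rw [ha, hb, ← h] at h' <;> simp [ax] at h'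
      refine ⟨(e.symm.trans (Equiv.ofBijective p (Finite.injective_iff_bijective.1 hpinj))).trans e,
        fun i => ?_⟩
      obtain ⟨a, rfl⟩ := e.surjective i
      simp only [Equiv.trans_apply, Equiv.symm_apply_apply, Equiv.ofBijective_apply]
      rw [hmap, hPD]
      rcases hp' a with h | h <;> rw [h]
      rw [mulVec_neg, ← neg_one_smul F, Submodule.span_singleton_smul_eq (by simp)]
  have hsub : decompositionStabilizer D ⊓ omegaGL Q =
      (monoSub h2 ⊓ Omega F ⇑(dotQ ι F)).map φ := by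
    rw [hom]
    ext g
    constructor
    · rintro ⟨hg, k, hk, rfl⟩
      exact ⟨k, ⟨(hstab k).1 hg, hk⟩, rfl⟩
    · rintro ⟨k, ⟨hk1, hk2⟩, rfl⟩
      exact ⟨(hstab k).2 hk1, k, hk2, rfl⟩
  obtain ⟨hlt, hmax⟩ := frame_maximal (ι := ι) h2 hp hn
  rw [hsub, hom]
  refine ⟨(Subgroup.map_lt_map_iff_of_injective hφinj).2 hlt, fun M hM1 hM2 => ?_⟩
  have hM : (M.comap φ).map φ = M := by
    rw [Subgroup.map_comap_eq, inf_eq_right]
    exact hM2.trans (MonoidHom.range_eq_map φ ▸ Subgroup.map_mono le_top)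
  rcases hmax (M.comap φ) (fun k hk => hM1 ⟨k, hk, rfl⟩) (fun k hk => by
    obtain ⟨k', hk', he⟩ := hM2 (hk : φ k ∈ M)
    exact hφinj he ▸ hk') with h | h
  · left; rw [← hM, h]
  · right; rw [← hM, h]

/-- The frame stabiliser is maximal from nine coordinates on. -/
theorem frame_stabilizer_maximal [Fintype F] (hp : (Fintype.card F).Prime) (h2 : (2 : F) ≠ 0)
    (Q : (ι → F) → F) (hQ : IsNondegenerateQuadraticForm Q) (hn : 9 ≤ Fintype.card ι) {t : ℕ}
    (D : Fin t → Submodule F (ι → F)) (hD : IsOrthogonalMDecomposition Q 1 D) :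
    IsMaximalIn (omegaGL Q) (decompositionStabilizer D ⊓ omegaGL Q) :=
  frame_stabilizer_maximal_of_seven hp h2 Q hQ (Or.inr hn) D hD

end Cfsg.Agent.Lib.OrthFrame
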