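import Cfsg.Agent.Lib.OrthFrame.Test

/-!
Invariance under the rotations of one three-space containing two axes forces all unit vectors to be
roots.
-/

set_option autoImplicit false
set_option linter.unusedSectionVars false

namespace Cfsg.Agent.Lib.OrthFrame

open Matrix Finset SL2

variable {ι : Type*} [Fintype ι] [DecidableEq ι] {F : Type*} [Field F] [Fintype F]

/-- All unit vectors are roots. -/
def AllUnits (R : Set (ι → F)) : Prop := ∀ v : ι → F, v ⬝ᵥ v = 1 → v ∈ R

theorem comb_three (x y z : ι → F) (d : Fin 3 → F) :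
    comb ![x, y, z] d = d 0 • x + d 1 • y + d 2 • z := by
  simp [comb, Fin.sum_univ_three]

/-- `Inv` only depends on the span. -/
theorem inv_change {R : Set (ι → F)} {x y : Fin 3 → ι → F} (h : Inv R x)
    (h1 : ∀ i, ∃ e, x i = comb y e) (h2 : ∀ d, ∃ e, comb y d = comb x e) : Inv R y := by
  intro u hu d d' ho hn hn0
  obtain ⟨e, he⟩ := h2 d
  obtain ⟨e', he'⟩ := h2 d'
  rw [he] at ho hn hn0 ⊢
  rw [he'] at hn ⊢
  refine h u hu e e' (fun i => ?_) hn hn0
  obtain ⟨m, hm⟩ := h1 i
  rw [hm, comb_dot]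
  simp [ho]

variable {R : Set (ι → F)}

namespace RootSys

variable (hR : RootSys R)
include hR

theorem inv_perm {x : Fin 3 → ι → F} (h : Inv R x) {σ : Equiv.Perm ι}
    (hσ : Equiv.Perm.sign σ = 1) : Inv R (fun i => x i ∘ ⇑σ) := by
  intro u hu d d' ho hn hn0
  have hdot : ∀ a b : ι → F, (a ∘ ⇑σ) ⬝ᵥ (b ∘ ⇑σ) = a ⬝ᵥ b := fun a b => by
    simp [dotProduct, Equiv.sum_comp σ (fun i => a i * b i)]
  have hcomb : ∀ e, comb (fun i => x i ∘ ⇑σ) e = comb x e ∘ ⇑σ := fun e => by
    funext j; simp [comb, Finset.sum_apply]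
  have hu' : u ∘ ⇑σ⁻¹ ∈ R := hR.perm σ⁻¹ (by simp [hσ]) u hu
  have hu'' : (u ∘ ⇑σ⁻¹) ∘ ⇑σ = u := by funext j; simp
  rw [hcomb, hcomb] at *
  have := h _ hu' d d' (fun i => by
    have e := ho i
    rw [show u - comb x d ∘ ⇑σ = ((u ∘ ⇑σ⁻¹) - comb x d) ∘ ⇑σ from funext fun j => by simp, hdot] at e
    exact e) (by rwa [hdot, hdot] at hn) (by rwa [hdot] at hn0)
  have h' := hR.perm σ hσ _ this
  rw [show u - comb x d ∘ ⇑σ + comb x d' ∘ ⇑σ = ((u ∘ ⇑σ⁻¹) - comb x d + comb x d') ∘ ⇑σ from
    funext fun j => by simp]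
  exact h'

theorem all_of_triple (hp5 : 5 ≤ Fintype.card F) (hp : (Fintype.card F).Prime) (h2 : (2 : F) ≠ 0)
    (hn : 5 ≤ Fintype.card ι) {a b c : ι} (hab : a ≠ b) (hac : a ≠ c) (hbc : b ≠ c)
    (h : Inv R ![ax a, ax b, ax c]) : AllUnits R := by
  classical
  have hall : ∀ a' b' c' : ι, a' ≠ b' → a' ≠ c' → b' ≠ c' → Inv R ![ax a', ax b', ax c'] := by
    intro a' b' c' h1 h3 h4
    obtain ⟨σ, hσ, hf⟩ := exists_even_perm {a', b', c'}
      (fun i => if i = a' then a else if i = b' then b else c)
      (by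
        intro p hp' q hq e
        simp only [Finset.coe_insert, Finset.coe_singleton, Set.mem_insert_iff, Set.mem_singleton_iff] at hp' hq
        rcases hp' with rfl | rfl | rfl <;> rcases hq with rfl | rfl | rfl <;>
          simp [h1, h3, h4, Ne.symm h1, Ne.symm h3, Ne.symm h4, hab, hac, hbc, Ne.symm hab, Ne.symm hac,
            Ne.symm hbc] at e ⊢)
      (by rw [Finset.card_eq_three.2 ⟨a', b', c', h1, h3, h4, rfl⟩]; omega)
    have ea : σ a' = a := by simpa using hf a' (by simp)
    have eb : σ b' = b := by simpa [Ne.symm h1] using hf b' (by simp)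
    have ec : σ c' = c := by simpa [Ne.symm h3, Ne.symm h4] using hf c' (by simp)
    have hax : ∀ x x', σ x' = x → (ax x : ι → F) ∘ ⇑σ = ax x' := fun x x' e => by
      funext j
      simp [ax, Pi.single_apply, ← e]
    have := hR.inv_perm h hσ
    convert this using 1
    funext i
    fin_cases i
    · exact (hax a a' ea).symm
    · exact (hax b b' eb).symm
    · exact (hax c c' ec).symm
  suffices H : ∀ m, ∀ v : ι → F, v ⬝ᵥ v = 1 → (supp v).card = m → v ∈ R from
    fun v hv => H _ v hv rfl
  intro m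
  induction m using Nat.strong_induction_on with
  | _ m ih =>
  intro v hv hm
  by_cases h3 : m ≤ 3
  · obtain ⟨S, hS, hScard⟩ := Finset.exists_superset_card_eq (s := supp v) (n := 3) (by omega) (by omega)
    obtain ⟨p, q, r, hpq, hpr, hqr, rfl⟩ := Finset.card_eq_three.1 hScard
    have hvr : v = comb ![ax p, ax q, ax r] ![v p, v q, v r] := by
      rw [comb_three]
      funext j
      by_cases hj : j ∈ ({p, q, r} : Finset ι)
      · simp at hj
        rcases hj with rfl | rfl | rfl <;> simp [ax, hpq, hpr, hqr, Ne.symm hpq, Ne.symm hpr, Ne.symm hqr]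
      · have : v j = 0 := by
          by_contra h0
          exact hj (hS (mem_supp.2 h0))
        simp at hj
        simp [ax, hj, this]
    have := hall p q r hpq hpr hqr (ax p) (hR.axis p) ![1, 0, 0] ![v p, v q, v r]
      (fun i => by simp [comb_three])
      (by rw [← hvr, hv]; simp [comb_three, ax])
      (by simp [comb_three, ax])
    rw [← hvr] at this
    simpa [comb_three] using this
  -- three coordinates with non-zero sum of squares
  obtain ⟨p, q, r, hp', hq', hr', hpq, hpr, hqr, hN⟩ : ∃ p q r, p ∈ supp v ∧ q ∈ supp v ∧ r ∈ supp v ∧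
      p ≠ q ∧ p ≠ r ∧ q ≠ r ∧ v p * v p + v q * v q + v r * v r ≠ 0 := by
    by_contra hh
    push Not at hh
    obtain ⟨T, hT, hTc⟩ := Finset.exists_subset_card_eq (s := supp v) (n := 4) (by omega)
    obtain ⟨p, q, r, w, h1, h2', h3', h4, h5, h6, rfl⟩ := Finset.card_eq_four.1 hTc
    have hp' : p ∈ supp v := hT (by simp)
    have hq' : q ∈ supp v := hT (by simp)
    have hr' : r ∈ supp v := hT (by simp)
    have hw' : w ∈ supp v := hT (by simp)
    have e1 := hh p q r hp' hq' hr' h1 h2' h4
    have e2 := hh p q w hp' hq' hw' h1 h3' h5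
    have e3 := hh p r w hp' hr' hw' h2' h3' h6
    have e4 := hh q r w hq' hr' hw' h4 h5 h6
    have h30 : (3 : F) ≠ 0 := by
      haveI : Fact (Fintype.card F).Prime := ⟨hp⟩
      haveI : CharP F (Fintype.card F) := charP_of_card_eq_prime rfl
      intro h
      have := (CharP.cast_eq_zero_iff F (Fintype.card F) 3).1 (by simpa using h)
      have := Nat.le_of_dvd (by norm_num) this
      omega
    have : (3 : F) * (v p * v p) = 0 := by linear_combination e1 + e2 + e3 - 2 * e4
    exact mem_supp.1 hp' (mul_self_eq_zero.1 ((mul_eq_zero.1 this).resolve_left h30))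
  obtain ⟨x, y, hxy⟩ := exists_binary h2 (neg_ne_zero.2 (one_ne_zero (α := F)))
    (v p * v p + v q * v q + v r * v r)
  obtain ⟨d, hd⟩ : ∃ d : Fin 3 → F, d = ![v p, v q, v r] := ⟨_, rfl⟩
  obtain ⟨d', hd'⟩ : ∃ d' : Fin 3 → F, d' = ![x, y, 0] := ⟨_, rfl⟩
  set X : Fin 3 → ι → F := ![ax p, ax q, ax r] with hX
  set w := v - comb X d + comb X d' with hw
  have hout : ∀ e : Fin 3 → F, ∀ j, j ≠ p → j ≠ q → j ≠ r → comb X e j = 0 := fun e j a b c => by
    simp [hX, comb_three, ax, a, b, c]
  have hin : ∀ e : Fin 3 → F, comb X e p = e 0 ∧ comb X e q = e 1 ∧ comb X e r = e 2 := fun e => by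
    simp [hX, comb_three, ax, hpq, hpr, hqr, Ne.symm hpq, Ne.symm hpr, Ne.symm hqr]
  have hperp : ∀ i, X i ⬝ᵥ (v - comb X d) = 0 := fun i => by
    obtain ⟨a, b, c⟩ := hin d
    fin_cases i <;> simp [hX, comb_three, ax, hd, hpq, hpr, hqr, Ne.symm hpq, Ne.symm hpr, Ne.symm hqr]
  have hnd : comb X d ⬝ᵥ comb X d = v p * v p + v q * v q + v r * v r := by
    simp [hX, comb_three, ax, hd, hpq, hpr, hqr, Ne.symm hpq, Ne.symm hpr, Ne.symm hqr]
  have hnd' : comb X d' ⬝ᵥ comb X d' = v p * v p + v q * v q + v r * v r := by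
    simp [hX, comb_three, ax, hd', hpq, Ne.symm hpq]
    linear_combination hxy
  have hperp' : ∀ i, X i ⬝ᵥ (w - comb X d') = 0 := fun i => by rw [hw, add_sub_cancel_right]; exact hperp i
  have hw1 : w ⬝ᵥ w = 1 := by
    have e : ∀ e', comb X e' ⬝ᵥ (v - comb X d) = 0 := fun e' => by rw [comb_dot]; simp [hperp]
    have ed := e d
    rw [dotProduct_sub] at ed
    rw [hw]
    simp only [add_dotProduct, dotProduct_add, e, dotProduct_comm (v - comb X d) (comb X d')]
    simp only [sub_dotProduct, dotProduct_sub, dotProduct_comm v (comb X d)]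
    linear_combination hv + hnd' - hnd - 2 * ed
  have hwR : w ∈ R := by
    refine ih (supp w).card ?_ w hw1 rfl
    rw [← hm]
    refine Finset.card_lt_card (Finset.ssubset_iff_subset_ne.2 ⟨fun j hj => ?_, fun e => ?_⟩)
    · rw [mem_supp] at hj ⊢
      intro h0
      by_cases hjp : j = p
      · subst hjp; exact mem_supp.1 hp' h0
      by_cases hjq : j = q
      · subst hjq; exact mem_supp.1 hq' h0
      by_cases hjr : j = r
      · subst hjr; exact mem_supp.1 hr' h0
      exact hj (by simp [hw, h0, hout _ j hjp hjq hjr])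
    · have : r ∈ supp w := e ▸ hr'
      rw [mem_supp, hw] at this
      refine this ?_
      rw [Pi.add_apply, Pi.sub_apply, (hin d).2.2, (hin d').2.2, hd, hd']
      simp
  have := hall p q r hpq hpr hqr w hwR d' d hperp' (by rw [hnd', hnd]) (by rw [hnd']; exact hN)
  rwa [hw, add_sub_cancel_right, sub_add_cancel] at this

/-- From a three-space through two axes and a root to a coordinate triple. -/
theorem all_of_plane (hp11 : 11 ≤ Fintype.card F) (hp : (Fintype.card F).Prime) (h2 : (2 : F) ≠ 0)
    (hodd : Odd (Fintype.card F)) (hn : 5 ≤ Fintype.card ι) {v : ι → F} (hv : v ∈ R) {a b j : ι}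
    (hab : a ≠ b) (haj : a ≠ j) (hbj : b ≠ j) (hj : v j ≠ 0)
    (hφ : 1 - v a * v a - v b * v b ≠ 0) (h : Inv R ![ax a, v, ax b]) : AllUnits R := by
  classical
  haveI : Fact (Fintype.card F).Prime := ⟨hp⟩
  haveI : CharP F (Fintype.card F) := charP_of_card_eq_prime rfl
  obtain ⟨φ, hφe⟩ : ∃ φ, φ = 1 - v a * v a - v b * v b := ⟨_, rfl⟩
  rw [← hφe] at hφ
  have hv1 := hR.unit v hv
  set X : Fin 3 → ι → F := ![ax a, v, ax b] with hX
  have hXdot : ∀ e : Fin 3 → F, comb X e ⬝ᵥ comb X e =
      (e 0 + e 1 * v a) * (e 0 + e 1 * v a) + (e 2 + e 1 * v b) * (e 2 + e 1 * v b) + e 1 * e 1 * φ := by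
    intro e
    rw [hX, comb_three]
    simp only [add_dotProduct, dotProduct_add, smul_dotProduct, dotProduct_smul, smul_eq_mul, hv1, dot_ax,
      ax_dot, Pi.add_apply, Pi.smul_apply, ax_apply_same, ax_apply_ne hab, ax_apply_ne hab.symm, hφe]
    ring
  have hunit : ∀ α β δ : F, α * α + β * β + δ * δ = 1 →
      δ * δ * (φ - v j * v j) ≠ φ → α • ax a + β • ax b + δ • ax j ∈ R := by
    intro α β δ hsum hbad
    set u : ι → F := α • ax a + β • ax b + δ • ax j with hu
    have hua : u a = α := by simp [hu, ax, hab, haj]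
    have hub : u b = β := by simp [hu, ax, hab.symm, hbj]
    have huj : u j = δ := by simp [hu, ax, haj.symm, hbj.symm]
    have huv : u ⬝ᵥ v = α * v a + β * v b + δ * v j := by
      simp [hu, add_dotProduct, smul_dotProduct, ax_dot]
    obtain ⟨γ, hγ⟩ : ∃ γ, γ = δ * v j / φ := ⟨_, rfl⟩
    have hγφ : γ * φ = δ * v j := by rw [hγ, div_mul_cancel₀ _ hφ]
    obtain ⟨d, hd⟩ : ∃ d : Fin 3 → F, d = ![α - γ * v a, γ, β - γ * v b] := ⟨_, rfl⟩
    obtain ⟨κ, hκ⟩ : ∃ κ, κ = -δ / (2 * v j) := ⟨_, rfl⟩
    have hκj : 2 * (κ * v j) = -δ := by rw [hκ]; field_simp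
    obtain ⟨N, hN⟩ : ∃ N, N = α * α + β * β + γ * γ * φ := ⟨_, rfl⟩
    obtain ⟨P, S, hPS⟩ := exists_binary h2 (neg_ne_zero.2 (one_ne_zero (α := F))) (N - (γ + κ) * (γ + κ) * φ)
    obtain ⟨d', hd'⟩ : ∃ d' : Fin 3 → F, d' = ![P - (γ + κ) * v a, γ + κ, S - (γ + κ) * v b] := ⟨_, rfl⟩
    have hnd : comb X d ⬝ᵥ comb X d = N := by rw [hXdot, hd]; simp [hN]
    have hnd' : comb X d' ⬝ᵥ comb X d' = N := by
      rw [hXdot, hd']; simp; linear_combination hPS
    have hN0 : N ≠ 0 := fun h0 => hbad (by
      have : (1 - δ * δ) * φ + δ * δ * (v j * v j) = 0 := by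
        linear_combination φ * (hN.symm.trans h0) - φ * hsum - (γ * φ + δ * v j) * hγφ
      linear_combination -this)
    have hperp : ∀ i, X i ⬝ᵥ (u - comb X d) = 0 := fun i => by
      rw [hX, comb_three]
      fin_cases i
      · simp [ax_dot, hua, hd, ax_apply_ne hab, ax_apply_ne hab.symm]
      · simp only [Fin.reduceFinMk, Matrix.cons_val_one, Matrix.cons_val_zero, dotProduct_sub, dotProduct_add, dotProduct_smul, smul_eq_mul, hv1, dot_ax, dotProduct_comm v u, huv, hd, Matrix.cons_val]
        linear_combination -hγφ + γ * hφe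
      · simp [ax_dot, hub, hd, ax_apply_ne hab, ax_apply_ne hab.symm]
    -- the partner with the `j`-coordinate of opposite sign
    set u' := u - comb X d + comb X d' with hu'
    have hu'1 : u' ⬝ᵥ u' = 1 := by
      have e : ∀ e', comb X e' ⬝ᵥ (u - comb X d) = 0 := fun e' => by rw [comb_dot]; simp [hperp]
      have ed := e d
      rw [dotProduct_sub] at ed
      have hu1 : u ⬝ᵥ u = 1 := by
        rw [← hsum]; nth_rewrite 1 [hu]; simp [add_dotProduct, smul_dotProduct, ax_dot, hua, hub, huj]
      rw [hu']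
      simp only [add_dotProduct, dotProduct_add, e, dotProduct_comm (u - comb X d) (comb X d')]
      simp only [sub_dotProduct, dotProduct_sub, dotProduct_comm u (comb X d)]
      linear_combination hu1 + hnd' - hnd - 2 * ed
    obtain ⟨e, he⟩ : ∃ e : Fin 3 → F, e = ![P - κ * v a, κ, S - κ * v b] := ⟨_, rfl⟩
    have hflip : Function.update (comb X e) j (-(comb X e j)) = u' := by
      funext l
      by_cases hl : l = j
      · subst hl
        simp [hu', hX, comb_three, he, hd, hd', huj, ax, haj.symm, hbj.symm]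
        linear_combination -hκj
      · rw [Function.update_of_ne hl, hu', hu, hX]
        simp [comb_three, he, hd, hd', ax, hl]
        by_cases hla : l = a
        · subst hla; simp [hab] <;> ring
        · by_cases hlb : l = b
          · subst hlb; simp [hla] <;> ring
          · simp [hla, hlb] <;> ring
    have heR : comb X e ∈ R := by
      have hne : comb X e ⬝ᵥ comb X e = 1 := by
        rw [← hflip] at hu'1
        rw [← hu'1, ← rf_ax]
        exact (rf_dot (by simp [ax]) _ _).symm
      have := h (ax a) (hR.axis a) ![1, 0, 0] e (fun i => by simp [comb_three, hX])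
        (by rw [hne]; simp [comb_three, hX, ax]) (by simp [comb_three, hX, ax])
      simpa [comb_three, hX] using this
    have hu'R : u' ∈ R := hflip ▸ hR.flip heR j
    have := h u' hu'R d' d (fun i => by rw [hu', add_sub_cancel_right]; exact hperp i)
      (by rw [hnd', hnd]) (by rw [hnd']; exact hN0)
    rwa [hu', add_sub_cancel_right, sub_add_cancel] at this
  -- a good triple of coordinates
  obtain ⟨α, hα0, hα1, hαS⟩ : ∃ α : F, α ≠ 0 ∧ α * α ≠ 1 ∧ ¬ SVal ((2 * α) ^ 2) := by
    by_cases h11 : Fintype.card F = 11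
    · have h11F : (11 : F) = 0 := by
        rw [show (11 : F) = ((11 : ℕ) : F) by norm_num, ← h11]; exact CharP.cast_eq_zero F _
      have hne : ∀ k : ℕ, 0 < k → k < 11 → (k : F) ≠ 0 := fun k hk hk' h0 => by
        have := Nat.le_of_dvd hk ((CharP.cast_eq_zero_iff F _ k).1 h0)
        omega
      refine ⟨3, by simpa using hne 3 (by norm_num) (by norm_num), fun e => ?_, ?_⟩
      · exact hne 8 (by norm_num) (by norm_num) (by push_cast; linear_combination e)
      · rintro (e | e | e)
        · exact hne 2 (by norm_num) (by norm_num) (by push_cast; linear_combination e - 3 * h11F)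
        · exact hne 1 (by norm_num) (by norm_num) (by push_cast; linear_combination e - 3 * h11F)
        · exact hne 1 (by norm_num) (by norm_num) (by push_cast; linear_combination e - 108 * h11F)
    · have h13 : 12 ≤ Fintype.card F := by omega
      let g : Polynomial F := Polynomial.X * (Polynomial.X ^ 2 - 1) * (4 * Polynomial.X ^ 2 - 1) *
        (4 * Polynomial.X ^ 2 - 2) * (16 * Polynomial.X ^ 4 - 12 * Polynomial.X ^ 2 + 1)
      have hg0 : g.eval 0 = 0 := by simp [g]
      have hg : g ≠ 0 := by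
        intro h0
        have hd := congrArg (fun q => (Polynomial.derivative q).eval 0) h0
        simp [g] at hd
        exact h2 (by linear_combination hd)
      have hdeg : g.natDegree ≤ 11 := by simp only [g]; compute_degree
      obtain ⟨α, hα⟩ : ∃ α : F, g.eval α ≠ 0 := by
        by_contra hh
        push Not at hh
        exact hg (Polynomial.eq_zero_of_natDegree_lt_card_of_eval_eq_zero g (f := id) Function.injective_id hh
          (by omega))
      simp only [g, Polynomial.eval_mul, Polynomial.eval_sub, Polynomial.eval_add, Polynomial.eval_pow,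
        Polynomial.eval_X, Polynomial.eval_one, Polynomial.eval_ofNat, mul_ne_zero_iff] at hα
      obtain ⟨⟨⟨⟨a0, a1⟩, a2⟩, a3⟩, a4⟩ := hα
      exact ⟨α, a0, fun e => a1 (by linear_combination e), fun e => by
        rcases e with e | e | e
        · exact a2 (by linear_combination e)
        · exact a3 (by linear_combination e)
        · exact a4 (by linear_combination e)⟩
  obtain ⟨β, δ, hβ, hδ, hsum, hbad⟩ : ∃ β δ : F, β ≠ 0 ∧ δ ≠ 0 ∧ α * α + β * β + δ * δ = 1 ∧
      δ * δ * (φ - v j * v j) ≠ φ := by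
    obtain ⟨β₀, δ₀, h0⟩ := exists_binary h2 (neg_ne_zero.2 (one_ne_zero (α := F))) (1 - α * α)
    have h0' : β₀ * β₀ + δ₀ * δ₀ = 1 - α * α := by linear_combination h0
    have hk : (1 : F) - α * α ≠ 0 := sub_ne_zero.2 hα1.symm
    obtain ⟨k', hk'⟩ : ∃ k', k' = φ - v j * v j := ⟨_, rfl⟩
    -- numerators of the parametrised circle
    let D0 : Polynomial F := 1 + Polynomial.X ^ 2
    let PB : Polynomial F := Polynomial.C β₀ * (1 - Polynomial.X ^ 2) - Polynomial.C (2 * δ₀) * Polynomial.X
    let PD : Polynomial F := Polynomial.C (2 * β₀) * Polynomial.X + Polynomial.C δ₀ * (1 - Polynomial.X ^ 2)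
    let P4 : Polynomial F := PD ^ 2 * Polynomial.C k' - D0 ^ 2 * Polynomial.C φ
    have e0 : D0 ≠ 0 := fun h0 => by simpa [D0] using congrArg (Polynomial.eval 0) h0
    have eB : PB ≠ 0 := fun h0 => by
      have a1 := congrArg (Polynomial.eval 0) h0
      have a2 := congrArg (fun q => (Polynomial.derivative q).eval 0) h0
      simp [PB] at a1 a2
      exact hk (by rw [← h0', a1, (a2.resolve_left h2)]; ring)
    have eD : PD ≠ 0 := fun h0 => by
      have a1 := congrArg (Polynomial.eval 0) h0
      have a2 := congrArg (fun q => (Polynomial.derivative q).eval 0) h0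
      simp [PD] at a1 a2
      exact hk (by rw [← h0', a1, (a2.resolve_left h2)]; ring)
    have e4 : P4 ≠ 0 := fun h0 => by
      have a0 := congrArg (Polynomial.eval 0) h0
      have a1 := congrArg (Polynomial.eval 1) h0
      have a2 := congrArg (Polynomial.eval (-1)) h0
      simp [P4, PD, D0] at a0 a1 a2
      -- the values at `0`, `1` and `-1` and the derivative
      have b0 := congrArg (fun q => (Polynomial.derivative q).eval 0) h0
      simp [P4, PD, D0, Polynomial.derivative_pow, Polynomial.derivative_mul] at b0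
      by_cases hδ0 : δ₀ = 0
      · rw [hδ0] at a0
        exact hφ (by linear_combination -a0)
      · have hk'0 : k' ≠ 0 := fun hk0 => hφ (by rw [hk0] at a0; linear_combination -a0)
        have hβ0 : β₀ = 0 := by simpa [h2, hδ0, hk'0] using b0
        rw [hβ0] at a1
        exact mul_ne_zero (mul_ne_zero h2 h2) hφ (by linear_combination -a1)
    have hprod : D0 * PB * PD * P4 ≠ 0 := mul_ne_zero (mul_ne_zero (mul_ne_zero e0 eB) eD) e4
    have hdeg : (D0 * PB * PD * P4).natDegree ≤ 10 := by
      have q0 : D0.natDegree ≤ 2 := by simp only [D0]; compute_degree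
      have qB : PB.natDegree ≤ 2 := by simp only [PB]; compute_degree
      have qD : PD.natDegree ≤ 2 := by simp only [PD]; compute_degree
      have q4 : P4.natDegree ≤ 4 := by
        refine (Polynomial.natDegree_sub_le _ _).trans (max_le ?_ ?_) <;>
          refine Polynomial.natDegree_mul_C_le _ _ |>.trans (Polynomial.natDegree_pow_le.trans ?_) <;> omega
      have a1 := Polynomial.natDegree_mul_le (p := D0 * PB * PD) (q := P4)
      have a2 := Polynomial.natDegree_mul_le (p := D0 * PB) (q := PD)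
      have a3 := Polynomial.natDegree_mul_le (p := D0) (q := PB)
      omega
    obtain ⟨t, ht⟩ : ∃ t : F, (D0 * PB * PD * P4).eval t ≠ 0 := by
      by_contra hh
      push Not at hh
      exact hprod (Polynomial.eq_zero_of_natDegree_lt_card_of_eval_eq_zero _ (f := id) Function.injective_id hh
        (by omega))
    simp only [Polynomial.eval_mul, mul_ne_zero_iff] at ht
    obtain ⟨⟨⟨t0, tB⟩, tD⟩, t4⟩ := ht
    simp [D0] at t0
    simp [PB] at tB
    simp [PD] at tD
    simp [P4, PD, D0] at t4
    refine ⟨(β₀ * (1 - t ^ 2) - 2 * δ₀ * t) / (1 + t ^ 2), (2 * β₀ * t + δ₀ * (1 - t ^ 2)) / (1 + t ^ 2),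
      div_ne_zero tB t0, div_ne_zero tD t0, ?_, fun e => t4 ?_⟩
    · field_simp
      linear_combination ((1 : F) + t ^ 2) ^ 2 * h0'
    · rw [← hk'] at e
      field_simp at e
      linear_combination e
  have hu := hunit α β δ hsum hbad
  set u : ι → F := α • ax a + β • ax b + δ • ax j with hudef
  have hua : u a = α := by simp [hudef, ax, hab, haj]
  have hub : u b = β := by simp [hudef, ax, hab.symm, hbj]
  rcases test hR hp hodd (hR.axis a) hu (hR.axis b) (by rwa [ax_dot, hua])
    (by rwa [dot_ax, hub]) (by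
      simp only [ax_dot, dot_ax, hua, hub, ax_apply_ne hab, ax_apply_ne hab.symm]
      intro e
      exact mul_ne_zero hδ hδ (by linear_combination e + hsum)) with hi | hs
  · refine hR.all_of_triple (by omega) hp h2 hn hab haj hbj (inv_change hi ?_ ?_)
    · intro i
      fin_cases i
      · exact ⟨![1, 0, 0], by simp [comb_three]⟩
      · exact ⟨![α, β, δ], by simp [comb_three, hudef]⟩
      · exact ⟨![0, 1, 0], by simp [comb_three]⟩
    · intro d
      refine ⟨![d 0 - d 2 / δ * α, d 2 / δ, d 1 - d 2 / δ * β], ?_⟩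
      simp only [comb_three, hudef, Matrix.cons_val_zero, Matrix.cons_val_one, Matrix.cons_val]
      match_scalars <;> field_simp <;> ring
  · rw [ax_dot, hua] at hs
    exact absurd hs hαS

end RootSys

end Cfsg.Agent.Lib.OrthFrame
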