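import Cfsg.Agent.Lib.OrthFrame.Full

/-!
Prime fields with at least 11 elements: a root with three non-zero coordinates gives all unit vectors.
-/

set_option autoImplicit false
set_option linter.unusedSectionVars false

namespace Cfsg.Agent.Lib.OrthFrame

open Matrix Finset

variable {ι : Type*} [Fintype ι] [DecidableEq ι] {F : Type*} [Field F] [Fintype F] {R : Set (ι → F)}

/-- The ambient hypotheses on the field. -/
structure Large (F : Type*) [Field F] [Fintype F] : Prop where
  prime : (Fintype.card F).Prime
  big : 11 ≤ Fintype.card F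

namespace Large

variable (hF : Large F)
include hF

theorem odd : Odd (Fintype.card F) := hF.prime.odd_of_ne_two (by have := hF.big; omega)

theorem natCast_ne_zero {k : ℕ} (h0 : 0 < k) (hk : k < 11) : (k : F) ≠ 0 := by
  haveI : Fact (Fintype.card F).Prime := ⟨hF.prime⟩
  haveI : CharP F (Fintype.card F) := charP_of_card_eq_prime rfl
  intro h
  have := Nat.le_of_dvd h0 ((CharP.cast_eq_zero_iff F _ k).1 h)
  have := hF.big
  omega

theorem two_ne : (2 : F) ≠ 0 := by exact_mod_cast hF.natCast_ne_zero (k := 2) (by norm_num) (by norm_num)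

theorem three_ne : (3 : F) ≠ 0 := by exact_mod_cast hF.natCast_ne_zero (k := 3) (by norm_num) (by norm_num)

theorem five_ne : (5 : F) ≠ 0 := by exact_mod_cast hF.natCast_ne_zero (k := 5) (by norm_num) (by norm_num)

theorem seven_ne : (7 : F) ≠ 0 := by exact_mod_cast hF.natCast_ne_zero (k := 7) (by norm_num) (by norm_num)

theorem sval_four : ¬ SVal ((2 : F) * 2) := by
  rintro (e | e | e)
  · exact hF.three_ne (by linear_combination e)
  · exact hF.two_ne (by linear_combination e)
  · exact hF.five_ne (by linear_combination e)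

theorem sval_quarter {s : F} (h : 4 * s = 1) : ¬ SVal s := by
  rintro (e | e | e)
  · exact hF.three_ne (by linear_combination h - 4 * e)
  · exact hF.seven_ne (by linear_combination h - 4 * e)
  · exact hF.five_ne (by linear_combination 16 * e - (4 * s - 11) * h)

/-- Two equal squares `s` in a root with a third coordinate force `s = 1`, except in characteristic 11. -/
theorem repeated {s : F} (hs : SVal s) (h : (2 - 2 * s) ^ 2 = 0 ∨ SVal ((2 - 2 * s) ^ 2)) :
    s = 1 ∨ ((11 : F) = 0 ∧ s = 5) := by
  rcases hs with hs | hs | hs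
  · exact Or.inl hs
  · exfalso
    subst hs
    rcases h with h | h
    · exact mul_ne_zero hF.two_ne hF.two_ne (by linear_combination h)
    · exact hF.sval_four (by convert h using 1; ring)
  · right
    have hs0 : s ≠ 0 := by rintro rfl; simp at hs
    have h4 : (2 - 2 * s) ^ 2 = 4 * s := by linear_combination 4 * hs
    rw [h4] at h
    rcases h with h | h | h | h
    · exact absurd ((mul_eq_zero.1 h).resolve_left (by
        rw [show (4 : F) = 2 * 2 by norm_num]; exact mul_ne_zero hF.two_ne hF.two_ne)) hs0
    · exact absurd (show (5 : F) = 0 by linear_combination 16 * hs - (4 * s - 11) * h) hF.five_ne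
    · exact absurd (show (2 : F) * 1 * (-1) * 2 = 0 by linear_combination 16 * hs - (4 * s - 10) * h) (by
        simp [hF.two_ne])
    · have h12 : 12 * s = 5 := by
        have : (3 : F) * (12 * s - 5) = 0 := by linear_combination h - 16 * hs
        exact sub_eq_zero.1 ((mul_eq_zero.1 this).resolve_left hF.three_ne)
      have h11 : (11 : F) = 0 := by linear_combination -144 * hs + (12 * s - 31) * h12
      exact ⟨h11, by linear_combination h12 - s * h11⟩

theorem sval_eleven (h11 : (11 : F) = 0) {x : F} (hx : x ≠ 0) (h : SVal ((2 * x) ^ 2)) :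
    (2 * x) ^ 2 = 1 ∨ (2 * x) ^ 2 = 5 ∨ (2 * x) ^ 2 = 9 := by
  haveI : Fact (Fintype.card F).Prime := ⟨hF.prime⟩
  haveI : CharP F (Fintype.card F) := charP_of_card_eq_prime rfl
  rcases h with h | h | h
  · exact Or.inl h
  · exfalso
    have h2 : IsSquare (2 : F) := ⟨2 * x, by linear_combination -h⟩
    have hcard : Fintype.card F = 11 :=
      (Nat.prime_dvd_prime_iff_eq hF.prime (by norm_num)).1
        ((CharP.cast_eq_zero_iff F _ 11).1 (by simpa using h11))
    have := FiniteField.isSquare_two_iff.1 h2
    omega
  · right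
    have : ((2 * x) ^ 2 - 5) * ((2 * x) ^ 2 - 9) = 0 := by
      linear_combination h - (11 * 1) * 0 + (4 - (2 * x) ^ 2) * h11
    rcases mul_eq_zero.1 this with e | e
    · exact Or.inl (sub_eq_zero.1 e)
    · exact Or.inr (sub_eq_zero.1 e)

end Large

namespace RootSys

variable (hR : RootSys R) (hF : Large F) (hn : Fintype.card ι = 5 ∨ Fintype.card ι = 7 ∨ 9 ≤ Fintype.card ι)
include hR hF hn

/-- A root with a coordinate `± 1` and further coordinates gives all units. -/
theorem no_one {x : ι → F} (hx : x ∈ R) {a : ι} (hxa : x a * x a = 1) (hne : x ≠ ax a)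
    (hne' : x ≠ -ax a) : AllUnits R := by
  classical
  have hx1 := hR.unit x hx
  have hsum : x a * x a + ∑ i ∈ Finset.univ.erase a, x i * x i = 1 := by
    rw [Finset.add_sum_erase _ (fun i => x i * x i) (Finset.mem_univ a)]; exact hx1
  obtain ⟨b, hba, hb⟩ : ∃ b, b ≠ a ∧ x b ≠ 0 := by
    by_contra hh
    push Not at hh
    rcases axis_of_supp hx1 (a := a) (fun i hi => Finset.mem_singleton.2 (by
      by_contra h; exact mem_supp.1 hi (hh i h))) with e | e
    · exact hne e
    · exact hne' e
  obtain ⟨j, hja, hjb, hj⟩ : ∃ j, j ≠ a ∧ j ≠ b ∧ x j ≠ 0 := by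
    by_contra hh
    push Not at hh
    rw [Finset.sum_eq_single b (fun i hi hib => by rw [hh i (Finset.ne_of_mem_erase hi) hib, zero_mul])
      (fun h => absurd (Finset.mem_erase.2 ⟨hba, Finset.mem_univ _⟩) h), hxa] at hsum
    exact hb (mul_self_eq_zero.1 (by linear_combination hsum))
  have hxb : x b * x b ≠ 0 := mul_self_ne_zero.2 hb
  have ha0 : x a ≠ 0 := fun h => by simp [h] at hxa
  rcases test hR hF.prime hF.odd (hR.axis a) hx (hR.axis b) (by rwa [ax_dot]) (by rwa [dot_ax]) (by
      simp only [ax_dot, dot_ax, ax_apply_ne hba.symm, ax_apply_ne hba]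
      intro e
      exact hxb (by linear_combination -e - hxa)) with hi | hs
  · refine hR.all_of_plane hF.big hF.prime hF.two_ne hF.odd (by omega) hx hba.symm hja.symm hjb.symm hj ?_ hi
    intro e
    exact hxb (by linear_combination -e - hxa)
  · exfalso
    rw [ax_dot] at hs
    exact hF.sval_four (by convert hs using 1; linear_combination (-4 : F) * hxa)

/-- Squares of coordinates of roots with large support. -/
theorem sval_of_three {v : ι → F} (hv : v ∈ R) (h3 : 3 ≤ (supp v).card) (hnot : ¬ AllUnits R) {a : ι}
    (ha : a ∈ supp v) : SVal ((2 * v a) ^ 2) := by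
  classical
  obtain ⟨b, hb, hba⟩ := Finset.exists_mem_ne (s := supp v) (by omega) a
  obtain ⟨j, hj, hja, hjb⟩ : ∃ j ∈ supp v, j ≠ a ∧ j ≠ b := by
    have : ((supp v) \ {a, b}).Nonempty := by
      rw [← Finset.card_pos]
      have := Finset.le_card_sdiff {a, b} (supp v)
      rw [Finset.card_pair hba.symm] at this
      omega
    obtain ⟨j, hj⟩ := this
    simp at hj
    exact ⟨j, hj.1, hj.2.1, hj.2.2⟩
  by_cases hφ : 1 - v a * v a - v b * v b = 0
  · exfalso
    -- two flipped coordinates give inner product `-1`
    have hw := hR.flipSet hv {a, b}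
    set w : ι → F := fun i => if i ∈ ({a, b} : Finset ι) then -v i else v i with hwdef
    have hdot : v ⬝ᵥ w = -1 := by
      have e : ∀ i, v i * w i = v i * v i - 2 * (if i ∈ ({a, b} : Finset ι) then v i * v i else 0) := by
        intro i; simp only [hwdef]; split_ifs <;> ring
      rw [dotProduct, Finset.sum_congr rfl fun i _ => e i, Finset.sum_sub_distrib, ← Finset.mul_sum,
        Finset.sum_ite_mem, Finset.univ_inter, Finset.sum_pair hba.symm]
      have := hR.unit v hv
      rw [dotProduct] at this
      linear_combination this + 2 * hφ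
    obtain ⟨x, hx, hxa, hax, hax'⟩ := hR.coord hv hw a
    refine hnot (hR.no_one hF hn hx (a := a) (by rw [hxa, hdot]; ring) (fun e => ?_) (fun e => ?_))
    · have := congrFun (hax e) a
      simp [hwdef] at this
      exact mem_supp.1 ha ((mul_eq_zero.1 (show (2 : F) * v a = 0 by linear_combination -this)).resolve_left hF.two_ne)
    · have := congrFun (hax' e) j
      simp [hwdef, hja, hjb] at this
      exact mem_supp.1 hj ((mul_eq_zero.1 (show (2 : F) * v j = 0 by linear_combination this)).resolve_left hF.two_ne)
  rcases test hR hF.prime hF.odd (hR.axis a) hv (hR.axis b) (by rw [ax_dot]; exact mem_supp.1 ha)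
    (by rw [dot_ax]; exact mem_supp.1 hb) (by
      simp only [ax_dot, dot_ax, ax_apply_ne hba, ax_apply_ne hba.symm]
      intro e; exact hφ (by linear_combination e)) with hi | hs
  · exact absurd (hR.all_of_plane hF.big hF.prime hF.two_ne hF.odd (by omega) hv hba.symm hja.symm hjb.symm
      (mem_supp.1 hj) hφ hi) hnot
  · rwa [ax_dot] at hs

/-- Inner products of roots. -/
theorem sval_pair {v w : ι → F} (hv : v ∈ R) (hw : w ∈ R) (hne : w ≠ v) (hne' : w ≠ -v)
    (hc : v ⬝ᵥ w ≠ 0) (hnot : ¬ AllUnits R) : SVal ((2 * (v ⬝ᵥ w)) ^ 2) := by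
  classical
  haveI : Nonempty ι := Fintype.card_pos_iff.1 (by omega)
  obtain ⟨a⟩ := ‹Nonempty ι›
  obtain ⟨x, hx, hxa, hax, hax'⟩ := hR.coord hv hw a
  rw [← hxa] at hc ⊢
  have hx1 := hR.unit x hx
  have ha : a ∈ supp x := mem_supp.2 hc
  by_cases h3 : 3 ≤ (supp x).card
  · exact hR.sval_of_three hF hn hx h3 hnot ha
  obtain ⟨b, hba, hb⟩ : ∃ b, b ≠ a ∧ x b ≠ 0 := by
    by_contra hh
    push Not at hh
    rcases axis_of_supp hx1 (a := a) (fun i hi => Finset.mem_singleton.2 (by
      by_contra h; exact mem_supp.1 hi (hh i h))) with e | e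
    · exact hne (hax e)
    · exact hne' (hax' e)
  have hs2 : supp x = {a, b} := (Finset.eq_of_subset_of_card_le
    (Finset.insert_subset ha (Finset.singleton_subset_iff.2 (mem_supp.2 hb)))
    (by rw [Finset.card_pair hba.symm]; omega)).symm
  have hz : ∀ i, i ≠ a → i ≠ b → x i = 0 := fun i h1 h2 => by
    by_contra h
    simpa [hs2, h1, h2] using mem_supp.2 h
  obtain ⟨b', hb'⟩ : ∃ b', b' ∈ ({a, b} : Finset ι)ᶜ := by
    apply Finset.Nonempty.exists_mem
    rw [← Finset.card_pos, Finset.card_compl, Finset.card_pair hba.symm]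
    omega
  simp at hb'
  obtain ⟨w', hw'R, hw1, hw2⟩ := hR.permute hx {a, b} (fun i => if i = a then a else b')
    (by
      intro p hp q hq e
      simp only [Finset.coe_insert, Finset.coe_singleton, Set.mem_insert_iff, Set.mem_singleton_iff] at hp hq
      rcases hp with rfl | rfl <;> rcases hq with rfl | rfl <;> simp [hba, hb'.1, Ne.symm hb'.1] at e ⊢)
    (by rw [Finset.card_pair hba.symm]; omega) (fun i hi => by
      by_contra h; simp at h; exact hi (hz i h.1 h.2))
  have hwa : w' a = x a := by simpa using hw1 a (by simp)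
  have hwb : w' b' = x b := by simpa [hba] using hw1 b (by simp)
  have hwz : ∀ i, i ≠ a → i ≠ b' → w' i = 0 := fun i h1 h2 => hw2 i fun z hz' => by
    simp at hz'
    rcases hz' with rfl | rfl <;> simp [hba, Ne.symm h1, Ne.symm h2]
  have hx' : x = x a • ax a + x b • ax b := by
    funext i
    by_cases h1 : i = a
    · subst h1; simp [ax, hba.symm]
    by_cases h2 : i = b
    · subst h2; simp [ax, hba]
    simp [ax, h1, h2, hz i h1 h2]
  have hw' : w' = x a • ax a + x b • ax b' := by
    funext i
    by_cases h1 : i = a
    · subst h1; simp [ax, Ne.symm hb'.1, hwa]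
    by_cases h2 : i = b'
    · subst h2; simp [ax, hb'.1, hwb]
    simp [ax, h1, h2, hwz i h1 h2]
  have hxw : x ⬝ᵥ w' = x a * x a := by
    rw [hw']; simp [dotProduct_add, dotProduct_smul, dot_ax, hz b' hb'.1 hb'.2]
  have hsum : x a * x a + x b * x b = 1 := by
    nth_rewrite 1 [hx'] at hx1
    simpa [add_dotProduct, smul_dotProduct, ax_dot] using hx1
  rcases test hR hF.prime hF.odd (hR.axis a) hx hw'R (by rwa [ax_dot]) (by rw [hxw]; exact mul_ne_zero hc hc) (by
      rw [ax_dot, ax_dot, hwa, hxw]
      intro e
      have : x b * x b * (x b * x b) = 0 := by linear_combination e + (x b * x b + 1 - x a * x a) * hsum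
      exact hb (mul_self_eq_zero.1 (mul_self_eq_zero.1 this))) with hi | hs
  · refine absurd (hR.all_of_triple (by have := hF.big; omega) hF.prime hF.two_ne (by omega) hba.symm
      (Ne.symm hb'.1) (Ne.symm hb'.2) (inv_change hi ?_ ?_)) hnot
    · intro i
      fin_cases i
      · exact ⟨![1, 0, 0], by simp [comb_three]⟩
      · exact ⟨![x a, x b, 0], by simp [comb_three]; exact hx'⟩
      · exact ⟨![x a, 0, x b], by simp [comb_three]; exact hw'⟩
    · intro d
      refine ⟨![d 0 - d 1 / x b * x a - d 2 / x b * x a, d 1 / x b, d 2 / x b], ?_⟩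
      conv_rhs => rw [comb_three]
      simp only [Matrix.cons_val_zero, Matrix.cons_val_one, Matrix.cons_val]
      rw [comb_three]
      generalize x a = p, x b = q at hx' hw' hb ⊢
      rw [hw', hx']
      match_scalars <;> field_simp <;> ring
  · rwa [ax_dot] at hs

/-- Proper partial sums of squares. -/
theorem sval_sum {v : ι → F} (hv : v ∈ R) (hnot : ¬ AllUnits R) {T : Finset ι} (hT : T ⊆ supp v)
    (hT0 : T.Nonempty) (hT1 : T ≠ supp v) :
    (2 - ∑ i ∈ T, (2 * v i) ^ 2) ^ 2 = 0 ∨ SVal ((2 - ∑ i ∈ T, (2 * v i) ^ 2) ^ 2) := by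
  classical
  have hw := hR.flipSet hv T
  set w : ι → F := fun i => if i ∈ T then -v i else v i with hwdef
  have hdot : 2 * (v ⬝ᵥ w) = 2 - ∑ i ∈ T, (2 * v i) ^ 2 := by
    have e : ∀ i, v i * w i = v i * v i - 2 * (if i ∈ T then v i * v i else 0) := by
      intro i; simp only [hwdef]; split_ifs <;> ring
    rw [dotProduct, Finset.sum_congr rfl fun i _ => e i, Finset.sum_sub_distrib, ← Finset.mul_sum,
      Finset.sum_ite_mem, Finset.univ_inter]
    have := hR.unit v hv
    rw [dotProduct] at this
    rw [this, mul_sub, Finset.mul_sum, Finset.mul_sum, mul_one]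
    congr 1
    exact Finset.sum_congr rfl fun i _ => by ring
  rw [← hdot]
  by_cases hc : v ⬝ᵥ w = 0
  · left; rw [hc]; ring
  right
  refine hR.sval_pair hF hn hv hw (fun e => ?_) (fun e => ?_) hc hnot
  · obtain ⟨a, ha⟩ := hT0
    have := congrFun e a
    simp [hwdef, ha] at this
    exact mem_supp.1 (hT ha) ((mul_eq_zero.1 (show (2 : F) * v a = 0 by linear_combination -this)).resolve_left hF.two_ne)
  · obtain ⟨b, hb, hbT⟩ := Finset.exists_of_ssubset (Finset.ssubset_iff_subset_ne.2 ⟨hT, hT1⟩)
    have := congrFun e b
    simp [hwdef, hbT] at this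
    exact mem_supp.1 hb ((mul_eq_zero.1 (show (2 : F) * v b = 0 by linear_combination this)).resolve_left hF.two_ne)

/-- Root with three non-zero coordinates: all units are roots. -/
theorem all_of_large (h : ∃ v ∈ R, 3 ≤ (supp v).card) : AllUnits R := by
  classical
  by_contra hnot
  obtain ⟨v, hv, h3⟩ := h
  obtain ⟨σ, hσ⟩ : ∃ σ : ι → F, ∀ i, σ i = (2 * v i) ^ 2 := ⟨_, fun _ => rfl⟩
  have hS : ∀ a ∈ supp v, SVal (σ a) := fun a ha => hσ a ▸ hR.sval_of_three hF hn hv h3 hnot ha
  have hsum : ∀ T ⊆ supp v, T.Nonempty → T ≠ supp v →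
      (2 - ∑ i ∈ T, σ i) ^ 2 = 0 ∨ SVal ((2 - ∑ i ∈ T, σ i) ^ 2) := fun T h1 h2 h3 => by
    simpa [hσ] using hR.sval_sum hF hn hv hnot h1 h2 h3
  have htot : ∑ i ∈ supp v, σ i = 4 := by
    have h1 := hR.unit v hv
    rw [dotProduct, ← Finset.sum_subset (Finset.subset_univ (supp v)) fun i _ hi => by
      rw [mem_supp, ne_eq, not_not] at hi; rw [hi, zero_mul]] at h1
    rw [← mul_one (4 : F), ← h1, Finset.mul_sum]
    exact Finset.sum_congr rfl fun i _ => by rw [hσ]; ring
  -- equal squares
  have hrep : ∀ a ∈ supp v, ∀ b ∈ supp v, a ≠ b → σ a = σ b → σ a = 1 ∨ ((11 : F) = 0 ∧ σ a = 5) := by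
    intro a ha b hb hab he
    refine hF.repeated (hS a ha) ?_
    have := hsum {a, b} (Finset.insert_subset ha (Finset.singleton_subset_iff.2 hb)) (by simp) (fun e => by
      have := congrArg Finset.card e
      rw [Finset.card_pair hab] at this
      omega)
    rwa [Finset.sum_pair hab, ← he, ← two_mul] at this
  -- the ones
  obtain ⟨O, hO⟩ : ∃ O, O = (supp v).filter fun i => σ i = 1 := ⟨_, rfl⟩
  have hOsum : ∀ T ⊆ O, ∑ i ∈ T, σ i = T.card := fun T hT => by
    rw [Finset.sum_congr rfl fun i hi => ?_, Finset.sum_const, nsmul_one]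
    have := hT hi
    rw [hO, Finset.mem_filter] at this
    exact this.2
  have hO4 : 4 ≤ O.card → O = supp v ∧ O.card = 4 := by
    intro h4
    obtain ⟨T, hT, hTc⟩ := Finset.exists_subset_card_eq h4
    have hTs : T ⊆ supp v := fun i hi => by
      have := hT hi; rw [hO, Finset.mem_filter] at this; exact this.1
    by_cases hTe : T = supp v
    · have : O = supp v := le_antisymm (hO ▸ Finset.filter_subset _ _) (hTe ▸ hT)
      exact ⟨this, by rw [this, ← hTe, hTc]⟩
    · exfalso
      have := hsum T hTs (Finset.card_pos.1 (by omega)) hTe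
      rw [hOsum T hT, hTc] at this
      rcases this with h | h
      · exact mul_ne_zero hF.two_ne hF.two_ne (by push_cast at h; linear_combination h)
      · exact hF.sval_four (by convert h using 1; push_cast; ring)
  -- the others
  obtain ⟨N, hN⟩ : ∃ N, N = (supp v).filter fun i => σ i ≠ 1 := ⟨_, rfl⟩
  have hmN : ∀ i ∈ N, i ∈ supp v ∧ σ i ≠ 1 := fun i hi => by rwa [hN, Finset.mem_filter] at hi
  have hcard : O.card + N.card = (supp v).card := by
    rw [hO, hN]; exact Finset.card_filter_add_card_filter_not _
  have h11N : (11 : F) = 0 → N.card ≤ 4 ∧ ∀ i ∈ N, σ i = 5 ∨ σ i = 9 := by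
    intro h11
    have hval : ∀ i ∈ N, σ i = 5 ∨ σ i = 9 := fun i hi => by
      obtain ⟨hi1, hi2⟩ := hmN i hi
      rw [hσ] at hi2 ⊢
      exact (hF.sval_eleven h11 (mem_supp.1 hi1) (hσ i ▸ hS i hi1)).resolve_left hi2
    refine ⟨?_, hval⟩
    obtain ⟨A, hA⟩ : ∃ A, A = N.filter fun i => σ i = 5 := ⟨_, rfl⟩
    obtain ⟨B, hB⟩ : ∃ B, B = N.filter fun i => σ i ≠ 5 := ⟨_, rfl⟩
    have hB1 : B.card ≤ 1 := Finset.card_le_one.2 fun a ha b hb => by
      rw [hB, Finset.mem_filter] at ha hb
      by_contra hab
      have ea := (hval a ha.1).resolve_left ha.2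
      have eb := (hval b hb.1).resolve_left hb.2
      rcases hrep a (hmN a ha.1).1 b (hmN b hb.1).1 hab (ea.trans eb.symm) with h | h
      · exact (hmN a ha.1).2 h
      · exact ha.2 h.2
    have hA3 : A.card ≤ 3 := by
      by_contra hc
      obtain ⟨T, hT, hTc⟩ := Finset.exists_subset_card_eq (s := A) (n := 3) (by omega)
      have hTs : T ⊆ supp v := fun i hi => by
        have := hT hi; rw [hA, Finset.mem_filter] at this; exact (hmN i this.1).1
      have := hsum T hTs (Finset.card_pos.1 (by omega)) (fun e => by
        have h1 : A.card ≤ (supp v).card := Finset.card_le_card (fun i hi => by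
          rw [hA, Finset.mem_filter] at hi; exact (hmN i hi.1).1)
        rw [← e, hTc] at h1
        omega)
      rw [Finset.sum_congr rfl fun i hi => (show σ i = 5 by
        have := hT hi; rw [hA, Finset.mem_filter] at this; exact this.2), Finset.sum_const, hTc] at this
      rcases this with h | h
      · exact hF.two_ne (by simp at h; linear_combination -h - h11)
      · exact hF.sval_four (by convert h using 1; simp; linear_combination (-15 : F) * h11)
    have : A.card + B.card = N.card := by rw [hA, hB]; exact Finset.card_filter_add_card_filter_not _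
    omega
  have hN3 : (11 : F) ≠ 0 → N.card ≤ 3 ∧ Set.InjOn σ ↑N := by
    intro h11
    have hinj : Set.InjOn σ ↑N := fun a ha b hb e => by
      by_contra hab
      rcases hrep a (hmN a ha).1 b (hmN b hb).1 hab e with h | h
      · exact (hmN a ha).2 h
      · exact h11 h.1
    refine ⟨?_, hinj⟩
    let g : Polynomial F := (Polynomial.X - 2) * (Polynomial.X ^ 2 - 3 * Polynomial.X + 1)
    have hg : g ≠ 0 := fun h0 => by
      have := congrArg (Polynomial.eval 0) h0
      simp [g] at this
      exact hF.two_ne this
    have hdeg : g.natDegree ≤ 3 := by simp only [g]; compute_degree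
    have h1 : (N.image σ).val ⊆ g.roots := fun s hs => by
      obtain ⟨i, hi, rfl⟩ := Finset.mem_image.1 hs
      obtain ⟨hi1, hi2⟩ := hmN i hi
      rw [Polynomial.mem_roots hg]
      rcases hS i hi1 with h | h | h
      · exact absurd h hi2
      · simp [g, h]
      · simp [g, h]
    have h2 := Multiset.card_le_card ((Multiset.le_iff_subset (N.image σ).nodup).2 h1)
    have h4 := (Finset.card_image_of_injOn hinj : (N.image σ).card = N.card)
    have h5 := Polynomial.card_roots' g
    simp only [Finset.card_val] at h2
    omega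
  have hm7 : (supp v).card ≤ 7 := by
    by_cases h4 : 4 ≤ O.card
    · obtain ⟨h1, h2⟩ := hO4 h4; rw [← h1]; omega
    · by_cases h11 : (11 : F) = 0
      · have := (h11N h11).1; omega
      · have := (hN3 h11).1; omega
  -- no ones
  have hno : O = ∅ := by
    by_contra hne
    obtain ⟨a, ha⟩ := Finset.nonempty_of_ne_empty hne
    rw [hO, Finset.mem_filter] at ha
    obtain ⟨ha, ha1⟩ := ha
    have hNle : N.card ≤ 3 := by
      by_cases h11 : (11 : F) = 0
      · by_contra hN4
        obtain ⟨A, hA⟩ : ∃ A, A = N.filter fun i => σ i = 5 := ⟨_, rfl⟩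
        have hB1 : (N.filter fun i => ¬ σ i = 5).card ≤ 1 := Finset.card_le_one.2 fun x hx y hy => by
          rw [Finset.mem_filter] at hx hy
          by_contra hxy
          have ex := ((h11N h11).2 x hx.1).resolve_left hx.2
          have ey := ((h11N h11).2 y hy.1).resolve_left hy.2
          rcases hrep x (hmN x hx.1).1 y (hmN y hy.1).1 hxy (ex.trans ey.symm) with h | h
          · exact (hmN x hx.1).2 h
          · exact hx.2 h.2
        have hAB : A.card + (N.filter fun i => ¬ σ i = 5).card = N.card := by
          rw [hA]; exact Finset.card_filter_add_card_filter_not _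
        obtain ⟨T, hT, hTc⟩ := Finset.exists_subset_card_eq (s := A) (n := 3) (by omega)
        have hTN : ∀ i ∈ T, i ∈ N ∧ σ i = 5 := fun i hi => by
          have := hT hi; rwa [hA, Finset.mem_filter] at this
        have := hsum T (fun i hi => (hmN i (hTN i hi).1).1) (Finset.card_pos.1 (by omega))
          (fun e => (hmN a (hTN a (e ▸ ha)).1).2 ha1)
        rw [Finset.sum_congr rfl fun i hi => (hTN i hi).2, Finset.sum_const, hTc] at this
        rcases this with h | h
        · exact hF.two_ne (by simp at h; linear_combination -h - h11)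
        · exact hF.sval_four (by convert h using 1; simp; linear_combination (-15 : F) * h11)
      · exact (hN3 h11).1
    have hs5 : (supp v).card ≤ 5 := by
      by_cases h4 : 4 ≤ O.card
      · obtain ⟨h1, h2⟩ := hO4 h4; rw [← h1]; omega
      by_contra h5
      obtain ⟨hO3, hN3'⟩ : O.card = 3 ∧ N.card = 3 := by omega
      have hdisj : ∑ i ∈ O, σ i + ∑ i ∈ N, σ i = 4 := by
        rw [← htot, hO, hN]; exact Finset.sum_filter_add_sum_filter_not _ _ _
      rw [hOsum O (Finset.Subset.refl _), hO3] at hdisj
      obtain ⟨x, y, z, hxy, hxz, hyz, hNe⟩ := Finset.card_eq_three.1 hN3'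
      rw [hNe, Finset.sum_insert (by simp [hxy, hxz]), Finset.sum_pair hyz] at hdisj
      push_cast at hdisj
      have hx : x ∈ N := by simp [hNe]
      have hy : y ∈ N := by simp [hNe]
      have hz : z ∈ N := by simp [hNe]
      have hdist : ∀ i ∈ N, ∀ l ∈ N, i ≠ l → σ i = σ l → (11 : F) = 0 ∧ σ i = 5 := fun i hi l hl hil e =>
        (hrep i (hmN i hi).1 l (hmN l hl).1 hil e).resolve_left (hmN i hi).2
      by_cases h11 : (11 : F) = 0
      · have h59 : (9 : F) ≠ 5 := fun e => hF.natCast_ne_zero (k := 4) (by norm_num) (by norm_num)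
          (by push_cast; linear_combination e)
        rcases (h11N h11).2 x hx with e1 | e1 <;> rcases (h11N h11).2 y hy with e2 | e2 <;>
          rcases (h11N h11).2 z hz with e3 | e3
        · exact hF.natCast_ne_zero (k := 3) (by norm_num) (by norm_num)
            (by push_cast; linear_combination hdisj - e1 - e2 - e3 - h11)
        · exact hF.natCast_ne_zero (k := 4) (by norm_num) (by norm_num)
            (by push_cast; linear_combination -hdisj + e1 + e2 + e3 + 2 * h11)
        · exact hF.natCast_ne_zero (k := 4) (by norm_num) (by norm_num)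
            (by push_cast; linear_combination -hdisj + e1 + e2 + e3 + 2 * h11)
        · exact h59 (e2.symm.trans ((hdist y hy z hz hyz (e2.trans e3.symm)).2))
        · exact hF.natCast_ne_zero (k := 4) (by norm_num) (by norm_num)
            (by push_cast; linear_combination -hdisj + e1 + e2 + e3 + 2 * h11)
        · exact h59 (e1.symm.trans ((hdist x hx z hz hxz (e1.trans e3.symm)).2))
        · exact h59 (e1.symm.trans ((hdist x hx y hy hxy (e1.trans e2.symm)).2))
        · exact h59 (e1.symm.trans ((hdist x hx y hy hxy (e1.trans e2.symm)).2))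
      · have hsol : ∀ i ∈ N, ∀ l ∈ N, i ≠ l → σ i ^ 2 - 3 * σ i + 1 = 0 → σ l ^ 2 - 3 * σ l + 1 = 0 →
            σ i + σ l = 3 := by
          intro i hi l hl hil hs ht
          have hne : σ i ≠ σ l := fun e => h11 (hdist i hi l hl hil e).1
          have : (σ i - σ l) * (σ i + σ l - 3) = 0 := by linear_combination hs - ht
          exact sub_eq_zero.1 ((mul_eq_zero.1 this).resolve_left (sub_ne_zero.2 hne))
        have hv' : ∀ i ∈ N, σ i = 2 ∨ σ i ^ 2 - 3 * σ i + 1 = 0 := fun i hi =>
          (hS i (hmN i hi).1).resolve_left (hmN i hi).2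
        have hd : ∀ i ∈ N, ∀ l ∈ N, i ≠ l → σ i ≠ σ l := fun i hi l hl hil e => h11 (hdist i hi l hl hil e).1
        have four : (4 : F) ≠ 0 := by
          intro e; exact mul_ne_zero hF.two_ne hF.two_ne (by linear_combination e)
        rcases hv' x hx with e1 | e1 <;> rcases hv' y hy with e2 | e2 <;> rcases hv' z hz with e3 | e3
        · exact hd x hx y hy hxy (e1.trans e2.symm)
        · exact hd x hx y hy hxy (e1.trans e2.symm)
        · exact hd x hx z hz hxz (e1.trans e3.symm)
        · exact four (by linear_combination hdisj - e1 - hsol y hy z hz hyz e2 e3)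
        · exact hd y hy z hz hyz (e2.trans e3.symm)
        · exact four (by linear_combination hdisj - e2 - hsol x hx z hz hxz e1 e3)
        · exact four (by linear_combination hdisj - e3 - hsol x hx y hy hxy e1 e2)
        · exact hd y hy z hz hyz (by linear_combination hsol x hx y hy hxy e1 e2 - hsol x hx z hz hxz e1 e3)
    have hs4 : (supp v).card ≠ 5 := by
      intro h5
      have hO3 : O.card ≤ 3 := by
        by_contra h4
        obtain ⟨h1, h2⟩ := hO4 (by omega)
        rw [← h1] at h5; omega
      have hO1 : 1 ≤ O.card := Finset.card_pos.2 ⟨a, by rw [hO, Finset.mem_filter]; exact ⟨ha, ha1⟩⟩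
      have hdisj : ∑ i ∈ O, σ i + ∑ i ∈ N, σ i = 4 := by
        rw [← htot, hO, hN]; exact Finset.sum_filter_add_sum_filter_not _ _ _
      rw [hOsum O (Finset.Subset.refl _)] at hdisj
      by_cases h11 : (11 : F) = 0
      · obtain ⟨hN4, hval⟩ := h11N h11
        rcases (show (O.card = 2 ∧ N.card = 3) ∨ (O.card = 3 ∧ N.card = 2) by omega)
          with ⟨hOc, hNc⟩ | ⟨hOc, hNc⟩ <;> rw [hOc] at hdisj <;> push_cast at hdisj
        · obtain ⟨x, y, z, hxy, hxz, hyz, hNe⟩ := Finset.card_eq_three.1 hNc
          rw [hNe, Finset.sum_insert (by simp [hxy, hxz]), Finset.sum_pair hyz] at hdisj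
          rcases hval x (by simp [hNe]) with e1 | e1 <;> rcases hval y (by simp [hNe]) with e2 | e2 <;>
            rcases hval z (by simp [hNe]) with e3 | e3 <;> rw [e1, e2, e3] at hdisj
          · exact hF.natCast_ne_zero (k := 2) (by norm_num) (by norm_num) (by push_cast; linear_combination hdisj - h11)
          · exact hF.natCast_ne_zero (k := 6) (by norm_num) (by norm_num) (by push_cast; linear_combination hdisj - h11)
          · exact hF.natCast_ne_zero (k := 6) (by norm_num) (by norm_num) (by push_cast; linear_combination hdisj - h11)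
          · exact hF.natCast_ne_zero (k := 10) (by norm_num) (by norm_num) (by push_cast; linear_combination hdisj - h11)
          · exact hF.natCast_ne_zero (k := 6) (by norm_num) (by norm_num) (by push_cast; linear_combination hdisj - h11)
          · exact hF.natCast_ne_zero (k := 10) (by norm_num) (by norm_num) (by push_cast; linear_combination hdisj - h11)
          · exact hF.natCast_ne_zero (k := 10) (by norm_num) (by norm_num) (by push_cast; linear_combination hdisj - h11)
          · exact hF.natCast_ne_zero (k := 3) (by norm_num) (by norm_num) (by push_cast; linear_combination hdisj - 2 * h11)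
        · obtain ⟨x, y, hxy, hNe⟩ := Finset.card_eq_two.1 hNc
          rw [hNe, Finset.sum_pair hxy] at hdisj
          rcases hval x (by simp [hNe]) with e1 | e1 <;> rcases hval y (by simp [hNe]) with e2 | e2 <;>
            rw [e1, e2] at hdisj
          · exact hF.natCast_ne_zero (k := 9) (by norm_num) (by norm_num) (by push_cast; linear_combination hdisj)
          · exact hF.natCast_ne_zero (k := 2) (by norm_num) (by norm_num) (by push_cast; linear_combination hdisj - h11)
          · exact hF.natCast_ne_zero (k := 2) (by norm_num) (by norm_num) (by push_cast; linear_combination hdisj - h11)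
          · exact hF.natCast_ne_zero (k := 6) (by norm_num) (by norm_num) (by push_cast; linear_combination hdisj - h11)
      · obtain ⟨hle, hinj⟩ := hN3 h11
        have hval : ∀ i ∈ N, σ i = 2 ∨ σ i ^ 2 - 3 * σ i + 1 = 0 := fun i hi =>
          (hS i (hmN i hi).1).resolve_left (hmN i hi).2
        have hsol : ∀ i ∈ N, ∀ l ∈ N, i ≠ l → σ i ^ 2 - 3 * σ i + 1 = 0 → σ l ^ 2 - 3 * σ l + 1 = 0 →
            σ i + σ l = 3 := by
          intro i hi l hl hil hs ht
          have hne : σ i ≠ σ l := fun e => hil (hinj hi hl e)
          have : (σ i - σ l) * (σ i + σ l - 3) = 0 := by linear_combination hs - ht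
          exact sub_eq_zero.1 ((mul_eq_zero.1 this).resolve_left (sub_ne_zero.2 hne))
        rcases (show (O.card = 2 ∧ N.card = 3) ∨ (O.card = 3 ∧ N.card = 2) by omega)
          with ⟨hOc, hNc⟩ | ⟨hOc, hNc⟩ <;> rw [hOc] at hdisj <;> push_cast at hdisj
        · obtain ⟨x, y, z, hxy, hxz, hyz, hNe⟩ := Finset.card_eq_three.1 hNc
          rw [hNe, Finset.sum_insert (by simp [hxy, hxz]), Finset.sum_pair hyz] at hdisj
          have hx : x ∈ N := by simp [hNe]
          have hy : y ∈ N := by simp [hNe]
          have hz : z ∈ N := by simp [hNe]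
          have hd : ∀ i ∈ N, ∀ l ∈ N, i ≠ l → σ i ≠ σ l := fun i hi l hl hil e => hil (hinj hi hl e)
          rcases hval x hx with e1 | e1 <;> rcases hval y hy with e2 | e2 <;> rcases hval z hz with e3 | e3
          · exact hd x hx y hy hxy (e1.trans e2.symm)
          · exact hd x hx y hy hxy (e1.trans e2.symm)
          · exact hd x hx z hz hxz (e1.trans e3.symm)
          · exact hF.three_ne (by linear_combination hdisj - e1 - hsol y hy z hz hyz e2 e3)
          · exact hd y hy z hz hyz (e2.trans e3.symm)
          · exact hF.three_ne (by linear_combination hdisj - e2 - hsol x hx z hz hxz e1 e3)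
          · exact hF.three_ne (by linear_combination hdisj - e3 - hsol x hx y hy hxy e1 e2)
          · exact hd y hy z hz hyz (by linear_combination hsol x hx y hy hxy e1 e2 - hsol x hx z hz hxz e1 e3)
        · obtain ⟨x, y, hxy, hNe⟩ := Finset.card_eq_two.1 hNc
          rw [hNe, Finset.sum_pair hxy] at hdisj
          have hx : x ∈ N := by simp [hNe]
          have hy : y ∈ N := by simp [hNe]
          rcases hval x hx with e1 | e1 <;> rcases hval y hy with e2 | e2
          · exact hxy (hinj hx hy (e1.trans e2.symm))
          · exact hF.five_ne (by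
              have e : σ y = -1 := by linear_combination hdisj - e1
              rw [e] at e2; linear_combination e2)
          · exact hF.five_ne (by
              have e : σ x = -1 := by linear_combination hdisj - e2
              rw [e] at e1; linear_combination e1)
          · exact hF.two_ne (by linear_combination hdisj - hsol x hx y hy hxy e1 e2)
    by_cases h45 : (supp v).card = 4 ∧ Fintype.card ι = 5
    · obtain ⟨h4, h5⟩ := h45
      -- four coordinates out of five: all squares are one
      have hall : ∀ i ∈ supp v, σ i = 1 := by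
        by_contra hh
        push Not at hh
        obtain ⟨i₁, hi₁, hi₁'⟩ := hh
        have hN1 : 1 ≤ N.card := Finset.card_pos.2 ⟨i₁, by rw [hN, Finset.mem_filter]; exact ⟨hi₁, hi₁'⟩⟩
        have hO1 : 1 ≤ O.card := Finset.card_pos.2 ⟨a, by rw [hO, Finset.mem_filter]; exact ⟨ha, ha1⟩⟩
        have hdisj : ∑ i ∈ O, σ i + ∑ i ∈ N, σ i = 4 := by
          rw [← htot, hO, hN]; exact Finset.sum_filter_add_sum_filter_not _ _ _
        rw [hOsum O (Finset.Subset.refl _)] at hdisj
        rcases (show (O.card = 3 ∧ N.card = 1) ∨ (O.card = 2 ∧ N.card = 2) ∨ (O.card = 1 ∧ N.card = 3) by omega)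
          with ⟨hOc, hNc⟩ | ⟨hOc, hNc⟩ | ⟨hOc, hNc⟩ <;> rw [hOc] at hdisj <;> push_cast at hdisj
        · obtain ⟨x, hNe⟩ := Finset.card_eq_one.1 hNc
          rw [hNe, Finset.sum_singleton] at hdisj
          exact (hmN x (by simp [hNe])).2 (by linear_combination hdisj)
        · obtain ⟨x, y, hxy, hNe⟩ := Finset.card_eq_two.1 hNc
          rw [hNe, Finset.sum_pair hxy] at hdisj
          have hx : x ∈ N := by simp [hNe]
          have hy : y ∈ N := by simp [hNe]
          by_cases h11 : (11 : F) = 0
          · rcases (h11N h11).2 x hx with e1 | e1 <;> rcases (h11N h11).2 y hy with e2 | e2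
            · exact hF.natCast_ne_zero (k := 8) (by norm_num) (by norm_num) (by push_cast; linear_combination hdisj - e1 - e2)
            · exact hF.natCast_ne_zero (k := 1) (by norm_num) (by norm_num) (by push_cast; linear_combination hdisj - e1 - e2 - h11)
            · exact hF.natCast_ne_zero (k := 1) (by norm_num) (by norm_num) (by push_cast; linear_combination hdisj - e1 - e2 - h11)
            · exact hF.natCast_ne_zero (k := 5) (by norm_num) (by norm_num) (by push_cast; linear_combination hdisj - e1 - e2 - h11)
          · have hne : σ x ≠ σ y := fun e => hxy ((hN3 h11).2 hx hy e)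
            have hval : ∀ i ∈ N, σ i = 2 ∨ σ i ^ 2 - 3 * σ i + 1 = 0 := fun i hi =>
              (hS i (hmN i hi).1).resolve_left (hmN i hi).2
            have hv0 : ∀ i ∈ N, σ i ≠ 0 := fun i hi => by
              rw [hσ]
              exact pow_ne_zero _ (mul_ne_zero hF.two_ne (mem_supp.1 (hmN i hi).1))
            rcases hval x hx with e1 | e1
            · exact hv0 y hy (by linear_combination hdisj - e1)
            rcases hval y hy with e2 | e2
            · exact hv0 x hx (by linear_combination hdisj - e2)
            · have h3' : (σ x - σ y) * (σ x + σ y - 3) = 0 := by linear_combination e1 - e2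
              have := (mul_eq_zero.1 h3').resolve_left (sub_ne_zero.2 hne)
              exact one_ne_zero (show (1 : F) = 0 by linear_combination hdisj - this)
        · obtain ⟨x, y, z, hxy, hxz, hyz, hNe⟩ := Finset.card_eq_three.1 hNc
          rw [hNe, Finset.sum_insert (by simp [hxy, hxz]), Finset.sum_pair hyz] at hdisj
          have hx : x ∈ N := by simp [hNe]
          have hy : y ∈ N := by simp [hNe]
          have hz : z ∈ N := by simp [hNe]
          by_cases h11 : (11 : F) = 0
          · rcases (h11N h11).2 x hx with e1 | e1 <;> rcases (h11N h11).2 y hy with e2 | e2 <;>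
              rcases (h11N h11).2 z hz with e3 | e3
            · exact hF.natCast_ne_zero (k := 1) (by norm_num) (by norm_num) (by push_cast; linear_combination hdisj - e1 - e2 - e3 - h11)
            · exact hF.natCast_ne_zero (k := 5) (by norm_num) (by norm_num) (by push_cast; linear_combination hdisj - e1 - e2 - e3 - h11)
            · exact hF.natCast_ne_zero (k := 5) (by norm_num) (by norm_num) (by push_cast; linear_combination hdisj - e1 - e2 - e3 - h11)
            · exact hF.natCast_ne_zero (k := 9) (by norm_num) (by norm_num) (by push_cast; linear_combination hdisj - e1 - e2 - e3 - h11)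
            · exact hF.natCast_ne_zero (k := 5) (by norm_num) (by norm_num) (by push_cast; linear_combination hdisj - e1 - e2 - e3 - h11)
            · exact hF.natCast_ne_zero (k := 9) (by norm_num) (by norm_num) (by push_cast; linear_combination hdisj - e1 - e2 - e3 - h11)
            · exact hF.natCast_ne_zero (k := 9) (by norm_num) (by norm_num) (by push_cast; linear_combination hdisj - e1 - e2 - e3 - h11)
            · exact hF.natCast_ne_zero (k := 2) (by norm_num) (by norm_num) (by push_cast; linear_combination hdisj - e1 - e2 - e3 - 2 * h11)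
          · have hinj := (hN3 h11).2
            have hd : ∀ i ∈ N, ∀ l ∈ N, i ≠ l → σ i ≠ σ l := fun i hi l hl hil e => hil (hinj hi hl e)
            have hval : ∀ i ∈ N, σ i = 2 ∨ σ i ^ 2 - 3 * σ i + 1 = 0 := fun i hi =>
              (hS i (hmN i hi).1).resolve_left (hmN i hi).2
            have hsol : ∀ i ∈ N, ∀ l ∈ N, i ≠ l → σ i ^ 2 - 3 * σ i + 1 = 0 → σ l ^ 2 - 3 * σ l + 1 = 0 →
                σ i + σ l = 3 := by
              intro i hi l hl hil hs ht
              have : (σ i - σ l) * (σ i + σ l - 3) = 0 := by linear_combination hs - ht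
              exact sub_eq_zero.1 ((mul_eq_zero.1 this).resolve_left (sub_ne_zero.2 (hd i hi l hl hil)))
            rcases hval x hx with e1 | e1 <;> rcases hval y hy with e2 | e2 <;> rcases hval z hz with e3 | e3
            · exact hd x hx y hy hxy (e1.trans e2.symm)
            · exact hd x hx y hy hxy (e1.trans e2.symm)
            · exact hd x hx z hz hxz (e1.trans e3.symm)
            · exact hF.two_ne (by linear_combination hdisj - e1 - hsol y hy z hz hyz e2 e3)
            · exact hd y hy z hz hyz (e2.trans e3.symm)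
            · exact hF.two_ne (by linear_combination hdisj - e2 - hsol x hx z hz hxz e1 e3)
            · exact hF.two_ne (by linear_combination hdisj - e3 - hsol x hx y hy hxy e1 e2)
            · exact hd y hy z hz hyz (by linear_combination hsol x hx y hy hxy e1 e2 - hsol x hx z hz hxz e1 e3)
      obtain ⟨l, hl⟩ : ∃ l, l ∈ (supp v)ᶜ := by
        apply Finset.Nonempty.exists_mem
        rw [← Finset.card_pos, Finset.card_compl]; omega
      rw [Finset.mem_compl] at hl
      have hl0 : v l = 0 := by by_contra h; exact hl (mem_supp.2 h)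
      obtain ⟨p, q, c, d, hpq, hpc, hpd, hqc, hqd, hcd, he⟩ := Finset.card_eq_four.1 h4
      have hpos : ∀ i ∈ supp v, 4 * (v i * v i) = 1 := fun i hi => by rw [← hall i hi, hσ]; ring
      have hlc : l ≠ c := fun e => hl (by simp [he, e])
      have hld : l ≠ d := fun e => hl (by simp [he, e])
      have hlp : l ≠ p := fun e => hl (by simp [he, e])
      have hlq : l ≠ q := fun e => hl (by simp [he, e])
      obtain ⟨τ, hτ, hτs⟩ : ∃ τ : Equiv.Perm ι, τ = Equiv.swap c d * Equiv.swap d l ∧ Equiv.Perm.sign τ = 1 :=
        ⟨_, rfl, by simp [Equiv.Perm.sign_swap hcd, Equiv.Perm.sign_swap hld.symm]⟩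
      have hu := hR.perm τ hτs v hv
      obtain ⟨u, hudef⟩ : ∃ u, u = v ∘ ⇑τ := ⟨_, rfl⟩
      rw [← hudef] at hu
      have hτp : τ p = p := by simp [hτ, Equiv.swap_apply_of_ne_of_ne, hpc, hpd, hlp.symm]
      have hτq : τ q = q := by simp [hτ, Equiv.swap_apply_of_ne_of_ne, hqc, hqd, hlq.symm]
      have hτc : τ c = d := by simp [hτ, Equiv.swap_apply_of_ne_of_ne, hcd, hlc.symm]
      have hτd : τ d = l := by simp [hτ, Equiv.swap_apply_of_ne_of_ne, hlc, hld]
      have hvc : v c ≠ 0 := mem_supp.1 (by simp [he])
      have hvd : v d ≠ 0 := mem_supp.1 (by simp [he])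
      obtain ⟨w, hw, hwp, hwq, hwc, hwd⟩ : ∃ w ∈ R, w p = v p ∧ w q = v q ∧ v c * w c = -(1 / 4) ∧ w d = 0 := by
        have h4' : (4 : F) ≠ 0 := fun e => mul_ne_zero hF.two_ne hF.two_ne (by linear_combination e)
        have hsq : (v c * v d) * (v c * v d) = (1 / 4) * (1 / 4) := by
          have e1 := hpos c (by simp [he])
          have e2 := hpos d (by simp [he])
          field_simp
          linear_combination (4 * (v d * v d)) * e1 + e2
        rcases mul_self_eq_mul_self_iff.1 hsq with e | e
        · refine ⟨_, hR.flip hu c, ?_, ?_, ?_, ?_⟩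
          · simp [hudef, hpc, hτp]
          · simp [hudef, hqc, hτq]
          · simp [hudef, hτc, e]
          · simp [hudef, hcd.symm, hτd, hl0]
        · exact ⟨u, hu, by simp [hudef, hτp], by simp [hudef, hτq], by simp [hudef, hτc, e],
            by simp [hudef, hτd, hl0]⟩
      have hdot : v ⬝ᵥ w = v p * v p + v q * v q - 1 / 4 := by
        rw [dotProduct, ← Finset.sum_subset (Finset.subset_univ (supp v)) fun i _ hi => by
          rw [mem_supp, ne_eq, not_not] at hi; rw [hi, zero_mul], he, Finset.sum_insert (by simp [hpq, hpc, hpd]),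
          Finset.sum_insert (by simp [hqc, hqd]), Finset.sum_pair hcd, hwp, hwq, hwc, hwd]
        ring
      have h4v : 4 * (v ⬝ᵥ w) = 1 := by
        have h4' : (4 : F) ≠ 0 := fun e => mul_ne_zero hF.two_ne hF.two_ne (by linear_combination e)
        rw [hdot]
        field_simp
        linear_combination hpos p (by simp [he]) + hpos q (by simp [he])
      have := hR.sval_pair hF hn hv hw (fun e => hvd (by
          have := congrFun e d; rw [hwd] at this; exact this.symm))
        (fun e => hvd (by have := congrFun e d; rw [hwd] at this; simpa using this.symm))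
        (fun e => by rw [e] at h4v; simp at h4v) hnot
      refine hF.sval_quarter ?_ this
      linear_combination (4 * (v ⬝ᵥ w) + 1) * h4v
    obtain ⟨T, hT, hTc⟩ := Finset.exists_subset_card_eq (s := (supp v)ᶜ) (n := ((supp v).erase a).card) (by
      rw [Finset.card_erase_of_mem ha, Finset.card_compl]; omega)
    let e := Finset.equivOfCardEq hTc.symm
    let f : ι → ι := fun i => if h : i ∈ (supp v).erase a then (e ⟨i, h⟩ : ι) else i
    have hfa : f a = a := by simp [f]
    have hfo : ∀ i ∈ supp v, i ≠ a → f i ∉ supp v := fun i hi hia => by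
      have hm : i ∈ (supp v).erase a := Finset.mem_erase.2 ⟨hia, hi⟩
      simp only [f, dif_pos hm]
      exact Finset.mem_compl.1 (hT (e ⟨i, hm⟩).2)
    have hinj : Set.InjOn f ↑(supp v) := fun p hp q hq he => by
      by_cases hpa : p = a <;> by_cases hqa : q = a
      · rw [hpa, hqa]
      · subst hpa; rw [hfa] at he; exact absurd (he ▸ ha) (hfo q hq hqa)
      · subst hqa; rw [hfa] at he; exact absurd (he.symm ▸ ha) (hfo p hp hpa)
      · have h1 : p ∈ (supp v).erase a := Finset.mem_erase.2 ⟨hpa, hp⟩
        have h2 : q ∈ (supp v).erase a := Finset.mem_erase.2 ⟨hqa, hq⟩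
        simp only [f, dif_pos h1, dif_pos h2] at he
        simpa using e.injective (Subtype.ext he)
    obtain ⟨w, hw, hw1, hw2⟩ := hR.permute hv (supp v) f hinj (by omega) (fun i hi => mem_supp.2 hi)
    have hwz : ∀ j ∈ supp v, j ≠ a → w j = 0 := fun j hj hja => hw2 j fun i hi e => by
      by_cases hia : i = a
      · subst hia; rw [hfa] at e; exact hja e.symm
      · exact hfo i hi hia (e ▸ hj)
    have hdot : v ⬝ᵥ w = v a * v a := by
      have e1 : w a = v a := by conv_lhs => rw [← hfa]; rw [hw1 a ha]
      rw [dotProduct, Finset.sum_eq_single a (fun j _ hja => ?_) (by simp), e1]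
      by_cases hj : j ∈ supp v
      · rw [hwz j hj hja, mul_zero]
      · rw [mem_supp, ne_eq, not_not] at hj; rw [hj, zero_mul]
    have hva : v a ≠ 0 := mem_supp.1 ha
    have h4 : 4 * (v a * v a) = 1 := by rw [← ha1, hσ]; ring
    obtain ⟨b, hb, hba⟩ := Finset.exists_mem_ne (s := supp v) (by omega) a
    have := hR.sval_pair hF hn hv hw (fun e => mem_supp.1 hb (by
        have := congrFun e b; rw [hwz b hb hba] at this; exact this.symm))
      (fun e => mem_supp.1 hb (by
        have := congrFun e b; rw [hwz b hb hba] at this; simpa using this.symm))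
      (by rw [hdot]; exact mul_ne_zero hva hva) hnot
    refine hF.sval_quarter ?_ this
    rw [hdot]
    linear_combination (4 * (v a * v a) + 1) * h4
  have hNs : N = supp v := le_antisymm (hN ▸ Finset.filter_subset _ _) fun i hi => by
    rw [hN, Finset.mem_filter]
    refine ⟨hi, fun e => ?_⟩
    have : i ∈ O := by rw [hO, Finset.mem_filter]; exact ⟨hi, e⟩
    simp [hno] at this
  by_cases h11 : (11 : F) = 0
  · obtain ⟨hN4, hval⟩ := h11N h11
    rw [hNs] at hN4 hval
    -- three fives
    have hfive : ∀ i ∈ supp v, σ i = 5 := by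
      by_contra hh
      push Not at hh
      obtain ⟨j, hj, hj5⟩ := hh
      have hothers : ∀ i ∈ (supp v).erase j, σ i = 5 := fun i hi => by
        by_contra h5
        obtain ⟨hij, hi⟩ := Finset.mem_erase.1 hi
        have ei := (hval i hi).resolve_left h5
        have ej := (hval j hj).resolve_left hj5
        rcases hrep i hi j hj hij (ei.trans ej.symm) with h | h
        · exact (hmN i (hNs ▸ hi)).2 h
        · exact h5 h.2
      have htot' := htot
      rw [← Finset.add_sum_erase _ σ hj, Finset.sum_congr rfl hothers, Finset.sum_const,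
        Finset.card_erase_of_mem hj, (hval j hj).resolve_left hj5] at htot'
      rcases (show (supp v).card = 3 ∨ (supp v).card = 4 by omega) with hc | hc <;> rw [hc] at htot' <;>
        simp at htot'
      · exact hF.natCast_ne_zero (k := 4) (by norm_num) (by norm_num)
          (by push_cast; linear_combination htot' - h11)
      · exact hF.natCast_ne_zero (k := 2) (by norm_num) (by norm_num)
          (by push_cast; linear_combination -htot' + 2 * h11)
    have hc3 : (supp v).card = 3 := by
      rcases (show (supp v).card = 3 ∨ (supp v).card = 4 by omega) with hc | hc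
      · exact hc
      exfalso
      rw [Finset.sum_congr rfl hfive, Finset.sum_const, hc] at htot
      simp at htot
      exact hF.natCast_ne_zero (k := 5) (by norm_num) (by norm_num) (by push_cast; linear_combination htot - h11)
    obtain ⟨a, b, c, hab, hac, hbc, habc⟩ := Finset.card_eq_three.1 hc3
    obtain ⟨l, hl⟩ : ∃ l, l ∈ (supp v)ᶜ := by
      apply Finset.Nonempty.exists_mem
      rw [← Finset.card_pos, Finset.card_compl]; omega
    rw [Finset.mem_compl] at hl
    have hla : l ≠ a := fun e => hl (by simp [habc, e])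
    have hlb : l ≠ b := fun e => hl (by simp [habc, e])
    have hlc : l ≠ c := fun e => hl (by simp [habc, e])
    obtain ⟨w, hw, hw1, hw2⟩ := hR.permute hv {a, b, c} (fun i => if i = c then l else i)
      (by
        intro p hp q hq e
        simp only [Finset.coe_insert, Finset.coe_singleton, Set.mem_insert_iff, Set.mem_singleton_iff] at hp hq
        rcases hp with rfl | rfl | rfl <;> rcases hq with rfl | rfl | rfl <;>
          simp [hab, hac, hbc, Ne.symm hab, hla, hlb, Ne.symm hla, Ne.symm hlb] at e ⊢)
      (by rw [← habc]; omega) (fun i hi => habc ▸ mem_supp.2 hi)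
    have hwa : w a = v a := by simpa [hac] using hw1 a (by simp)
    have hwb : w b = v b := by simpa [hbc] using hw1 b (by simp)
    have hwc : w c = 0 := hw2 c fun i hi => by
      simp at hi
      rcases hi with rfl | rfl | rfl <;> simp [hac, hbc, hlc]
    have hdot : v ⬝ᵥ w = v a * v a + v b * v b := by
      rw [dotProduct, ← Finset.sum_subset (Finset.subset_univ (supp v)) fun i _ hi => by
        rw [mem_supp, ne_eq, not_not] at hi; rw [hi, zero_mul], habc, Finset.sum_insert (by simp [hab, hac]),
        Finset.sum_pair hbc, hwa, hwb, hwc]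
      ring
    have h25 : (2 * (v ⬝ᵥ w)) ^ 2 = 3 := by
      have ea : (2 * v a) ^ 2 = 5 := hσ a ▸ hfive a (by simp [habc])
      have eb : (2 * v b) ^ 2 = 5 := hσ b ▸ hfive b (by simp [habc])
      have h22 : (2 : F) * (2 * (v ⬝ᵥ w)) = 10 := by rw [hdot]; linear_combination ea + eb
      refine mul_left_cancel₀ (mul_ne_zero hF.two_ne hF.two_ne) ?_
      linear_combination (2 * (2 * (v ⬝ᵥ w)) + 10) * h22 + 8 * h11
    have hc0 : v c ≠ 0 := mem_supp.1 (by simp [habc])
    have := hR.sval_pair hF hn hv hw (fun e => hc0 (by
        have := congrFun e c; rw [hwc] at this; exact this.symm))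
      (fun e => hc0 (by have := congrFun e c; rw [hwc] at this; simpa using this.symm))
      (fun e => by rw [e] at h25; exact hF.three_ne (by linear_combination -h25)) hnot
    rw [h25] at this
    rcases this with h | h | h
    · exact hF.two_ne (by linear_combination h)
    · exact one_ne_zero (by linear_combination h : (1 : F) = 0)
    · exact one_ne_zero (by linear_combination h : (1 : F) = 0)
  · obtain ⟨hle, hinj⟩ := hN3 h11
    rw [hNs] at hle hinj
    obtain ⟨a, b, c, hab, hac, hbc, habc⟩ := Finset.card_eq_three.1 (show (supp v).card = 3 by omega)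
    have ha : a ∈ supp v := by simp [habc]
    have hb : b ∈ supp v := by simp [habc]
    have hc : c ∈ supp v := by simp [habc]
    rw [habc, Finset.sum_insert (by simp [hab, hac]), Finset.sum_pair hbc] at htot
    have dab : σ a ≠ σ b := fun e => hab (hinj ha hb e)
    have dac : σ a ≠ σ c := fun e => hac (hinj ha hc e)
    have dbc : σ b ≠ σ c := fun e => hbc (hinj hb hc e)
    have hsol : ∀ s t : F, s ^ 2 - 3 * s + 1 = 0 → t ^ 2 - 3 * t + 1 = 0 → s ≠ t → s + t = 3 := by
      intro s t hs ht hst
      have : (s - t) * (s + t - 3) = 0 := by linear_combination hs - ht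
      exact sub_eq_zero.1 ((mul_eq_zero.1 this).resolve_left (sub_ne_zero.2 hst))
    have hval : ∀ i ∈ supp v, σ i = 2 ∨ σ i ^ 2 - 3 * σ i + 1 = 0 := fun i hi => by
      refine (hS i hi).resolve_left fun e => ?_
      exact (hmN i (hNs ▸ hi)).2 e
    rcases hval a ha with e1 | e1 <;> rcases hval b hb with e2 | e2 <;> rcases hval c hc with e3 | e3
    · exact dab (e1.trans e2.symm)
    · exact dab (e1.trans e2.symm)
    · exact dac (e1.trans e3.symm)
    · exact one_ne_zero (show (1 : F) = 0 by linear_combination htot - e1 - hsol _ _ e2 e3 dbc)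
    · exact dbc (e2.trans e3.symm)
    · exact one_ne_zero (show (1 : F) = 0 by linear_combination htot - e2 - hsol _ _ e1 e3 dac)
    · exact one_ne_zero (show (1 : F) = 0 by linear_combination htot - e3 - hsol _ _ e1 e2 dab)
    · exact dbc (by linear_combination hsol _ _ e1 e2 dab - hsol _ _ e1 e3 dac)

end RootSys

end Cfsg.Agent.Lib.OrthFrame
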