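import Cfsg.Agent.Lib.OrthFrame.Full

/-!
The fields with 3, 5 and 7 elements: a root with three non-zero coordinates gives all unit vectors,
by explicit reflections of small patterns.
-/

set_option autoImplicit false
set_option linter.unusedSectionVars false
set_option synthInstance.maxSize 4096
set_option synthInstance.maxHeartbeats 200000

namespace Cfsg.Agent.Lib.OrthFrame

open Matrix Finset

variable {ι : Type*} [Fintype ι] [DecidableEq ι] {F : Type*} [Field F] [DecidableEq F]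

/-- Some arrangement of the pattern `c` is a root. -/
def Has (R : Set (ι → F)) {k : ℕ} (c : Fin k → F) : Prop :=
  ∃ b : Fin k → ι, Function.Injective b ∧ vec b c ∈ R

/-- The number of entries of the pattern with square `q`. -/
def cnt {k : ℕ} (c : Fin k → F) (q : F) : ℕ := (Finset.univ.filter fun i => c i * c i = q).card

/-- The number of coordinates of `v` with square `q`. -/
noncomputable def num (v : ι → F) (q : F) : ℕ := ((supp v).filter fun i => v i * v i = q).card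

theorem exists_emb {k : ℕ} {v : ι → F} (c : Fin k → F) (h : ∀ q, cnt c q ≤ num v q) :
    ∃ b : Fin k → ι, Function.Injective b ∧ ∀ i, b i ∈ supp v ∧ v (b i) * v (b i) = c i * c i := by
  have he : ∀ q, Nonempty ({i // c i * c i = q} ↪ {x // x ∈ supp v ∧ v x * v x = q}) := fun q => by
    refine Function.Embedding.nonempty_of_card_le ?_
    rw [Fintype.card_subtype, Fintype.card_subtype]
    have : (Finset.univ.filter fun x => x ∈ supp v ∧ v x * v x = q) = (supp v).filter fun x => v x * v x = q := by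
      ext x; simp
    rw [this]
    exact h q
  let e := fun q => (he q).some
  refine ⟨fun i => (e (c i * c i) ⟨i, rfl⟩).1, fun i j hij => ?_, fun i => (e _ ⟨i, rfl⟩).2⟩
  have hi := (e (c i * c i) ⟨i, rfl⟩).2.2
  have hj := (e (c j * c j) ⟨j, rfl⟩).2.2
  simp only at hij
  have hq : c j * c j = c i * c i := by rw [← hi, ← hj, hij]
  have : e (c i * c i) ⟨i, rfl⟩ = e (c i * c i) ⟨j, hq⟩ := by
    apply Subtype.ext
    rw [hij]
    have : ∀ q (hq' : c j * c j = q), (e (c j * c j) ⟨j, rfl⟩).1 = (e q ⟨j, hq'⟩).1 := by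
      rintro q rfl; rfl
    exact this _ hq
  exact congrArg Subtype.val ((e _).injective this)

namespace RootSys

variable {R : Set (ι → F)} (hR : RootSys R)
include hR

theorem has_signs {k : ℕ} {b : Fin k → ι} (hb : Function.Injective b) {c c' : Fin k → F}
    (h : vec b c ∈ R) (hc : ∀ i, c' i * c' i = c i * c i) : vec b c' ∈ R := by
  classical
  have := hR.flipSet h ((Finset.univ.filter fun i => c' i ≠ c i).image b)
  convert this using 1
  funext j
  by_cases hj : ∃ i, b i = j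
  · obtain ⟨i, rfl⟩ := hj
    rw [vec_apply hb, vec_apply hb]
    by_cases e : c' i = c i
    · rw [if_neg (by simp [hb.eq_iff, e]), e]
    · rw [if_pos (by simp [hb.eq_iff, e])]
      exact (mul_self_eq_mul_self_iff.1 (hc i)).resolve_left e
  · push Not at hj
    simp [vec_apply_out _ hj]

theorem has_all {k : ℕ} (hk : k + 2 ≤ Fintype.card ι) {c c' : Fin k → F} (h : Has R c)
    (π : Equiv.Perm (Fin k)) (hc : ∀ i, c' i * c' i = c (π i) * c (π i)) {b : Fin k → ι}
    (hb : Function.Injective b) : vec b c' ∈ R := by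
  obtain ⟨a, ha, haR⟩ := h
  have h1 := hR.move hk ha (hb.comp π.symm.injective) haR
  have e : vec (b ∘ ⇑π.symm) c = vec b (fun i => c (π i)) := by
    rw [vec, vec, ← Equiv.sum_comp π]
    simp
  rw [e] at h1
  exact hR.has_signs hb h1 hc

theorem has_perm {k : ℕ} (hk : k + 2 ≤ Fintype.card ι) {c c' : Fin k → F} (h : Has R c)
    (π : Equiv.Perm (Fin k)) (hc : ∀ i, c' i * c' i = c (π i) * c (π i)) : Has R c' := by
  obtain ⟨a, ha, -⟩ := id h
  exact ⟨a, ha, hR.has_all hk h π hc ha⟩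

/-- Reflecting a pattern in an arrangement of itself. -/
theorem hop {k : ℕ} (hk : k + 2 ≤ Fintype.card ι) {c : Fin k → F} (h : Has R c) (w o : Fin k → F)
    (π : Equiv.Perm (Fin k)) (hw : ∀ i, w i * w i = c (π i) * c (π i))
    (ho : ∀ i, o i = c i - 2 * (∑ l, w l * c l) * w i) : Has R o := by
  obtain ⟨a, ha, haR⟩ := id h
  refine ⟨a, ha, ?_⟩
  have := hR.refl _ (hR.has_all hk h π hw ha) _ haR
  rw [rf_vec ha] at this
  rwa [funext ho]

/-- An arrangement of a pattern with a repeated square needs no spare coordinates. -/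
theorem has_all_rep {k : ℕ} {c c' : Fin k → F} (h : Has R c) (π : Equiv.Perm (Fin k))
    (hc : ∀ i, c' i * c' i = c (π i) * c (π i)) {b : Fin k → ι} (hb : Function.Injective b)
    {i₀ j₀ : Fin k} (hij : i₀ ≠ j₀) (he : c i₀ * c i₀ = c j₀ * c j₀) : vec b c' ∈ R := by
  classical
  obtain ⟨a, ha, haR⟩ := h
  let b' : Fin k → ι := b ∘ ⇑π.symm
  have hb' : Function.Injective b' := hb.comp π.symm.injective
  let e : {x // x ∈ Set.range a} ≃ {x // x ∈ Set.range b'} :=
    (Equiv.ofInjective a ha).symm.trans (Equiv.ofInjective b' hb')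
  have hext : ∀ i, e.extendSubtype (a i) = b' i := fun i => by
    rw [Equiv.extendSubtype_apply_of_mem e (a i) ⟨i, rfl⟩]
    have h : (Equiv.ofInjective a ha).symm ⟨a i, i, rfl⟩ = i :=
      (Equiv.symm_apply_eq _).2 (Subtype.ext rfl)
    exact congrArg b' h
  -- the positions reached by an even permutation
  have main : ∀ σ : Equiv.Perm ι, Equiv.Perm.sign σ = 1 → ∀ ρ : Equiv.Perm (Fin k),
      (∀ i, σ (a i) = b' (ρ i)) → (∀ i, c (ρ i) * c (ρ i) = c i * c i) → vec b c' ∈ R := by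
    intro σ hσ ρ hρ hsq
    have h1 := hR.perm σ⁻¹ (by simp [hσ]) _ haR
    have e1 : vec a c ∘ ⇑σ⁻¹ = vec b (fun l => c (ρ.symm (π l))) := by
      funext j
      rw [Function.comp_apply]
      by_cases hj : ∃ l, b l = j
      · obtain ⟨l, rfl⟩ := hj
        have : σ⁻¹ (b l) = a (ρ.symm (π l)) := by
          rw [Equiv.Perm.inv_def, Equiv.symm_apply_eq, hρ]
          simp [b']
        rw [this, vec_apply ha, vec_apply hb]
      · push Not at hj
        rw [vec_apply_out _ hj, vec_apply_out]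
        intro i hi
        refine hj (π.symm (ρ i)) ?_
        show b' (ρ i) = j
        rw [← hρ, hi]
        simp
    rw [e1] at h1
    refine hR.has_signs hb h1 fun l => ?_
    rw [hc, ← hsq (ρ.symm (π l)), Equiv.apply_symm_apply]
  rcases Int.units_eq_one_or (Equiv.Perm.sign e.extendSubtype) with h | h
  · exact main _ h 1 hext (fun i => rfl)
  · refine main (Equiv.swap (b' i₀) (b' j₀) * e.extendSubtype)
      (by simp [Equiv.Perm.sign_swap (fun h => hij (hb' h)), h]) (Equiv.swap i₀ j₀) (fun i => ?_) (fun i => ?_)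
    · rw [Equiv.Perm.mul_apply, hext]
      exact (hb'.map_swap i₀ j₀ i).symm
    · rcases eq_or_ne i i₀ with rfl | h1
      · rw [Equiv.swap_apply_left, he]
      rcases eq_or_ne i j₀ with rfl | h2
      · rw [Equiv.swap_apply_right, he]
      · rw [Equiv.swap_apply_of_ne_of_ne h1 h2]

/-- Reflecting a pattern with a repeated square in an arrangement of itself. -/
theorem hop_rep {k : ℕ} {c : Fin k → F} (h : Has R c) (w o : Fin k → F)
    (π : Equiv.Perm (Fin k)) (hw : ∀ i, w i * w i = c (π i) * c (π i))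
    (ho : ∀ i, o i = c i - 2 * (∑ l, w l * c l) * w i) {i₀ j₀ : Fin k} (hij : i₀ ≠ j₀)
    (he : c i₀ * c i₀ = c j₀ * c j₀) : Has R o := by
  obtain ⟨a, ha, haR⟩ := id h
  refine ⟨a, ha, ?_⟩
  have := hR.refl _ (hR.has_all_rep h π hw ha hij he) _ haR
  rw [rf_vec ha] at this
  rwa [funext ho]

/-- Permuting a pattern with a repeated square. -/
theorem has_perm_rep {k : ℕ} {c c' : Fin k → F} (h : Has R c) (π : Equiv.Perm (Fin k))
    (hc : ∀ i, c' i * c' i = c (π i) * c (π i)) {i₀ j₀ : Fin k} (hij : i₀ ≠ j₀)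
    (he : c i₀ * c i₀ = c j₀ * c j₀) : Has R c' := by
  obtain ⟨a, ha, -⟩ := id h
  exact ⟨a, ha, hR.has_all_rep h π hc ha hij he⟩

/-- Forgetting zero entries. -/
theorem has_sub {k l : ℕ} {c : Fin l → F} (h : Has R c) (e : Fin k → Fin l) (he : Function.Injective e)
    (hout : ∀ j, c j ≠ 0 → ∃ i, e i = j) (c' : Fin k → F) (hc : ∀ i, c' i * c' i = c (e i) * c (e i)) :
    Has R c' := by
  obtain ⟨a, ha, haR⟩ := h
  refine ⟨a ∘ e, ha.comp he, hR.has_signs (ha.comp he) (c := fun i => c (e i)) ?_ hc⟩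
  rw [eq_vec (ha.comp he) (v := vec a c) (fun j hj => by
    by_contra h0
    by_cases hj' : ∃ i, a i = j
    · obtain ⟨i, rfl⟩ := hj'
      rw [vec_apply ha] at h0
      obtain ⟨l', rfl⟩ := hout i h0
      exact hj l' rfl
    · push Not at hj'
      exact h0 (vec_apply_out _ hj'))] at haR
  simpa [vec_apply ha] using haR

/-- A root has the pattern given by its counts. -/
theorem has_of_counts {v : ι → F} (hv : v ∈ R) {k : ℕ} (c : Fin k → F) (h : ∀ q, cnt c q ≤ num v q)
    (hk : (supp v).card = k) : Has R c := by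
  obtain ⟨b, hb, hb2⟩ := exists_emb c h
  refine ⟨b, hb, hR.has_signs hb (c := fun i => v (b i)) ?_ fun i => (hb2 i).2.symm⟩
  rwa [← eq_vec hb]
  intro j hj
  by_contra h0
  have hsub : Finset.univ.image b = supp v := Finset.eq_of_subset_of_card_le
    (fun x hx => by obtain ⟨i, -, rfl⟩ := Finset.mem_image.1 hx; exact (hb2 i).1)
    (by rw [Finset.card_image_of_injective _ hb, Finset.card_univ, Fintype.card_fin]; omega)
  have : j ∈ Finset.univ.image b := hsub ▸ mem_supp.2 h0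
  obtain ⟨i, -, e⟩ := Finset.mem_image.1 this
  exact hj i e

/-- A part of a root with weight `1` gives a smaller root. -/
theorem has_down {v : ι → F} (hv : v ∈ R) {k : ℕ} (c c' : Fin k → F) (h : ∀ q, cnt c q ≤ num v q)
    (hsum : 4 * ∑ i, c i * c i = 1) (hc : ∀ i, c' i * c' i = 4 * (c i * c i)) : Has R c' := by
  classical
  obtain ⟨b, hb, hb2⟩ := exists_emb c h
  refine ⟨b, hb, hR.has_signs hb (c := fun i => 2 * v (b i)) ?_ fun i => by rw [hc, ← (hb2 i).2]; ring⟩
  obtain ⟨T, hT⟩ : ∃ T, T = Finset.univ.image b := ⟨_, rfl⟩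
  have hTsum : 4 * ∑ i ∈ T, v i * v i = 1 := by
    rw [hT, Finset.sum_image fun x _ y _ e => hb e, ← hsum]
    congr 1
    exact Finset.sum_congr rfl fun i _ => (hb2 i).2
  have hw := hR.flipSet hv T
  set w : ι → F := fun i => if i ∈ T then -v i else v i with hwdef
  have hdot : 2 * (v ⬝ᵥ w) = 1 := by
    have e : ∀ i, v i * w i = v i * v i - 2 * (if i ∈ T then v i * v i else 0) := by
      intro i; simp only [hwdef]; split_ifs <;> ring
    rw [dotProduct, Finset.sum_congr rfl fun i _ => e i, Finset.sum_sub_distrib, ← Finset.mul_sum,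
      Finset.sum_ite_mem, Finset.univ_inter]
    have := hR.unit v hv
    rw [dotProduct] at this
    linear_combination 2 * this - hTsum
  have := hR.refl w hw v hv
  rw [rf, dotProduct_comm, hdot, one_smul] at this
  rw [eq_vec hb (v := v - w) (fun j hj => by
    simp [hwdef, hT, hj])] at this
  convert this using 2
  funext i
  simp [hwdef, hT]
  ring

/-- Reduction of the support by one pattern. -/
theorem all_of_kill {L : ℕ} {t : Fin L → F}
    (hL : L + 2 ≤ Fintype.card ι ∨ ∃ i j : Fin L, i ≠ j ∧ t i * t i = t j * t j) (ht : Has R t)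
    (hbase : ∀ v : ι → F, v ⬝ᵥ v = 1 → (supp v).card < L → v ∈ R)
    (hkill : ∀ v : ι → F, v ⬝ᵥ v = 1 → L ≤ (supp v).card → ∃ b : Fin L → ι, Function.Injective b ∧
      (∀ i, b i ∈ supp v) ∧ ∃ (c : Fin L → F) (π : Equiv.Perm (Fin L)) (k : Fin L),
        (∀ i, c i * c i = t (π i) * t (π i)) ∧ v (b k) = 2 * (∑ i, c i * v (b i)) * c k)
    (v : ι → F) (hv : v ⬝ᵥ v = 1) : v ∈ R := by
  suffices H : ∀ m, ∀ v : ι → F, v ⬝ᵥ v = 1 → (supp v).card = m → v ∈ R from H _ v hv rfl
  intro m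
  induction m using Nat.strong_induction_on with
  | _ m ih =>
  intro v hv hm
  by_cases hlt : m < L
  · exact hbase v hv (hm ▸ hlt)
  obtain ⟨b, hb, hbs, c, π, k, hc, hk⟩ := hkill v hv (by omega)
  have hx : vec b c ∈ R := by
    rcases hL with hL | ⟨i₀, j₀, hij, he⟩
    · exact hR.has_all hL ht π hc hb
    · exact hR.has_all_rep ht π hc hb hij he
  have hx1 := hR.unit _ hx
  rw [← rf_rf hx1 v]
  refine hR.refl _ hx _ (ih _ ?_ _ (by rw [rf_dot hx1, hv]) rfl)
  rw [← hm]
  refine Finset.card_lt_card (Finset.ssubset_iff_subset_ne.2 ⟨fun j hj => ?_, fun e => ?_⟩)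
  · rw [mem_supp] at hj ⊢
    intro h0
    by_cases hj' : ∃ i, b i = j
    · obtain ⟨i, rfl⟩ := hj'; exact mem_supp.1 (hbs i) h0
    · push Not at hj'
      exact hj (by simp [rf, h0, vec_apply_out _ hj'])
  · have h1 : b k ∈ supp (rf (vec b c) v) := e ▸ hbs k
    rw [mem_supp] at h1
    exact h1 (by simp [rf, vec_dot, vec_apply hb, hk])

end RootSys

instance factPrimeFive : Fact (Nat.Prime 5) := ⟨Nat.prime_five⟩

instance factPrimeSeven : Fact (Nat.Prime 7) := ⟨by norm_num⟩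

theorem three_cases (a : ZMod 3) : a * a = 0 ∨ a * a = 1 := by revert a; decide

theorem five_cases (a : ZMod 5) (h : a ≠ 0) : a * a = 1 ∨ a * a = 4 := by revert a; decide

theorem seven_cases (a : ZMod 7) (h : a ≠ 0) : a * a = 1 ∨ a * a = 4 ∨ a * a = 2 := by revert a; decide

theorem kill_three : ∀ a b c d : ZMod 3, a ≠ 0 → b ≠ 0 → c ≠ 0 → d ≠ 0 → ∃ e1 e2 e3 e4 : Bool,
    a = 2 * (((if e1 then 1 else -1) * a + (if e2 then 1 else -1) * b + (if e3 then 1 else -1) * c +
      (if e4 then 1 else -1) * d)) * (if e1 then 1 else -1) := by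
  decide +kernel

/-- The sign attached to a Boolean. -/
def sgn (F : Type*) [Field F] (e : Bool) : F := if e then 1 else -1

theorem kill_five : ∀ a b c : ZMod 5, a ≠ 0 → b ≠ 0 → c ≠ 0 → ∃ (r k : Fin 3) (e1 e2 e3 : Bool),
    ![a, b, c] k = 2 * (sgn (ZMod 5) e1 * ![1, 1, 2] r * a + sgn (ZMod 5) e2 * ![1, 1, 2] (r + 1) * b +
      sgn (ZMod 5) e3 * ![1, 1, 2] (r + 2) * c) *
      ![sgn (ZMod 5) e1 * ![1, 1, 2] r, sgn (ZMod 5) e2 * ![1, 1, 2] (r + 1), sgn (ZMod 5) e3 * ![1, 1, 2] (r + 2)] k := by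
  decide +kernel

theorem kill_seven : ∀ a b c : ZMod 7, a ≠ 0 → b ≠ 0 → c ≠ 0 → a * a + b * b + c * c ≠ 0 →
    ∃ (r k : Fin 3) (e1 e2 e3 : Bool),
    ![a, b, c] k = 2 * (sgn (ZMod 7) e1 * ![2, 3, 3] r * a + sgn (ZMod 7) e2 * ![2, 3, 3] (r + 1) * b +
      sgn (ZMod 7) e3 * ![2, 3, 3] (r + 2) * c) *
      ![sgn (ZMod 7) e1 * ![2, 3, 3] r, sgn (ZMod 7) e2 * ![2, 3, 3] (r + 1), sgn (ZMod 7) e3 * ![2, 3, 3] (r + 2)] k := by
  decide +kernel

theorem residual_seven_aux : ∀ (a : Fin 9) (b : Fin 4) (c : Fin 8),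
    ((a.1 + 4 * b.1 + 2 * c.1) % 7 = 1 ∧ 3 ≤ a.1 + b.1 + c.1) →
    (¬ (1 ≤ a.1 ∧ 2 ≤ b.1) ∧ ¬ (1 ≤ a.1 ∧ 1 ≤ b.1 ∧ 2 ≤ c.1) ∧ ¬ (1 ≤ a.1 ∧ 4 ≤ c.1)) →
    (¬ (3 ≤ b.1 ∧ 2 ≤ c.1) ∧ ¬ (2 ≤ b.1 ∧ 4 ≤ c.1) ∧ ¬ (1 ≤ b.1 ∧ 6 ≤ c.1)) →
    (a.1, b.1, c.1) ∈ [(0, 0, 4), (0, 1, 2), (2, 0, 3), (2, 1, 1), (4, 0, 2), (4, 1, 0), (6, 0, 1), (8, 0, 0)] := by
  decide +kernel

theorem residual_seven : ∀ a < 9, ∀ b < 4, ∀ c < 8, (a + 4 * b + 2 * c) % 7 = 1 → 3 ≤ a + b + c →
    ¬ (1 ≤ a ∧ 2 ≤ b) → ¬ (1 ≤ a ∧ 1 ≤ b ∧ 2 ≤ c) → ¬ (1 ≤ a ∧ 4 ≤ c) →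
    ¬ (3 ≤ b ∧ 2 ≤ c) → ¬ (2 ≤ b ∧ 4 ≤ c) → ¬ (1 ≤ b ∧ 6 ≤ c) →
    (a = 0 ∧ b = 0 ∧ c = 4) ∨ (a = 0 ∧ b = 1 ∧ c = 2) ∨ (a = 2 ∧ b = 0 ∧ c = 3) ∨ (a = 2 ∧ b = 1 ∧ c = 1) ∨
    (a = 4 ∧ b = 0 ∧ c = 2) ∨ (a = 4 ∧ b = 1 ∧ c = 0) ∨ (a = 6 ∧ b = 0 ∧ c = 1) ∨ (a = 8 ∧ b = 0 ∧ c = 0) := by
  intro a ha b hb c hc h1 h2 h3 h4 h5 h6 h7 h8
  have := residual_seven_aux ⟨a, ha⟩ ⟨b, hb⟩ ⟨c, hc⟩ ⟨h1, h2⟩ ⟨h3, h4, h5⟩ ⟨h6, h7, h8⟩
  simpa using this

variable {S : Type*} [Fintype S] [DecidableEq S]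

namespace RootSys

theorem all_three {R : Set (ι → ZMod 3)} (hR : RootSys R) (hn : Fintype.card ι = 5 ∨ Fintype.card ι = 7 ∨ 9 ≤ Fintype.card ι)
    {v : ι → ZMod 3} (hv : v ∈ R) (h3 : 3 ≤ (supp v).card) : AllUnits R := by
  classical
  have hsq : ∀ (u : ι → ZMod 3) i, i ∈ supp u → u i * u i = 1 := fun u i hi =>
    (three_cases (u i)).resolve_left fun h => mem_supp.1 hi (mul_self_eq_zero.1 h)
  have hm : ∀ u : ι → ZMod 3, u ⬝ᵥ u = 1 → (supp u).card % 3 = 1 := fun u hu => by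
    have e : ((supp u).card : ZMod 3) = ((1 : ℕ) : ZMod 3) := by
      rw [Nat.cast_one, ← hu, dotProduct, ← Finset.sum_subset (Finset.subset_univ (supp u)) fun i _ hi => by
        rw [mem_supp, ne_eq, not_not] at hi; rw [hi, zero_mul], Finset.sum_congr rfl (hsq u)]
      simp
    exact (ZMod.natCast_eq_natCast_iff' _ 1 _).1 e
  have hnum : num v (1 : ZMod 3) = (supp v).card := by
    rw [num, Finset.filter_true_of_mem (hsq v)]
  have h4 : 4 ≤ (supp v).card := by have := hm v (hR.unit v hv); omega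
  have hT : Has R ![(1 : ZMod 3), 1, 1, 1] := by
    refine hR.has_down hv ![1, 1, 1, 1] _ (fun q => ?_) (by decide) (by decide)
    rcases eq_or_ne q 1 with rfl | hq
    · have : cnt ![(1 : ZMod 3), 1, 1, 1] 1 = 4 := by decide
      omega
    · have : ∀ q : ZMod 3, q ≠ 1 → cnt ![(1 : ZMod 3), 1, 1, 1] q = 0 := by decide
      rw [this q hq]; exact Nat.zero_le _
  refine hR.all_of_kill (Or.inr ⟨0, 1, by decide, rfl⟩) hT (fun u hu hlt => ?_) (fun u hu hge => ?_)
  · have := hm u hu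
    obtain ⟨a, ha⟩ := Finset.card_eq_one.1 (show (supp u).card = 1 by omega)
    rcases axis_of_supp hu (ha.le) with rfl | rfl
    · exact hR.axis a
    · exact hR.neg (hR.axis a)
  · obtain ⟨T, hT, hTc⟩ := Finset.exists_subset_card_eq hge
    obtain ⟨p, q, r, w, h1, h2, h3, h4, h5, h6, rfl⟩ := Finset.card_eq_four.1 hTc
    have hne : ∀ x ∈ ({p, q, r, w} : Finset ι), u x ≠ 0 := fun x hx => mem_supp.1 (hT hx)
    obtain ⟨e1, e2, e3, e4, he⟩ := kill_three (u p) (u q) (u r) (u w) (hne p (by simp)) (hne q (by simp))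
      (hne r (by simp)) (hne w (by simp))
    refine ⟨![p, q, r, w], ?_, fun i => hT (by fin_cases i <;> simp),
      ![if e1 then 1 else -1, if e2 then 1 else -1, if e3 then 1 else -1, if e4 then 1 else -1], 1, 0,
      fun i => ?_, ?_⟩
    · intro i j hij
      fin_cases i <;> fin_cases j <;>
        first | rfl | simp [h1, h2, h3, h4, h5, h6, Ne.symm h1, Ne.symm h2, Ne.symm h3, Ne.symm h4, Ne.symm h5, Ne.symm h6] at hij
    · fin_cases i <;> simp <;> split_ifs <;> simp
    · simpa [Fin.sum_univ_four] using he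

theorem kill_triple {p : ℕ} [Fact p.Prime] {R : Set (ι → ZMod p)} (hR : RootSys R) (hn : Fintype.card ι = 5 ∨ Fintype.card ι = 7 ∨ 9 ≤ Fintype.card ι)
    {t : Fin 3 → ZMod p} (ht : Has R t)
    (hbase : ∀ v : ι → ZMod p, v ⬝ᵥ v = 1 → (supp v).card < 3 → v ∈ R) (h3 : (3 : ZMod p) ≠ 0)
    (hkill : ∀ a b c : ZMod p, a ≠ 0 → b ≠ 0 → c ≠ 0 → a * a + b * b + c * c ≠ 0 →
      ∃ (r k : Fin 3) (e1 e2 e3 : Bool),
      ![a, b, c] k = 2 * (sgn (ZMod p) e1 * t r * a + sgn (ZMod p) e2 * t (r + 1) * b +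
        sgn (ZMod p) e3 * t (r + 2) * c) *
        ![sgn (ZMod p) e1 * t r, sgn (ZMod p) e2 * t (r + 1), sgn (ZMod p) e3 * t (r + 2)] k) :
    AllUnits R := by
  classical
  refine hR.all_of_kill (Or.inl (by omega)) ht hbase (fun u hu hge => ?_)
  obtain ⟨p', q', r', hp', hq', hr', hpq, hpr, hqr, hN⟩ : ∃ p q r, p ∈ supp u ∧ q ∈ supp u ∧ r ∈ supp u ∧
      p ≠ q ∧ p ≠ r ∧ q ≠ r ∧ u p * u p + u q * u q + u r * u r ≠ 0 := by
    by_cases h4 : 4 ≤ (supp u).card
    · by_contra hh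
      push Not at hh
      obtain ⟨T, hT, hTc⟩ := Finset.exists_subset_card_eq h4
      obtain ⟨a, b, c, w, h1, h2', h3', h4', h5, h6, rfl⟩ := Finset.card_eq_four.1 hTc
      have ha : a ∈ supp u := hT (by simp)
      have hb : b ∈ supp u := hT (by simp)
      have hc : c ∈ supp u := hT (by simp)
      have hw : w ∈ supp u := hT (by simp)
      have : (3 : ZMod p) * (u a * u a) = 0 := by
        linear_combination hh a b c ha hb hc h1 h2' h4' + hh a b w ha hb hw h1 h3' h5 +
          hh a c w ha hc hw h2' h3' h6 - 2 * hh b c w hb hc hw h4' h5 h6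
      exact mem_supp.1 ha (mul_self_eq_zero.1 ((mul_eq_zero.1 this).resolve_left h3))
    · obtain ⟨a, b, c, hab, hac, hbc, he⟩ := Finset.card_eq_three.1 (show (supp u).card = 3 by omega)
      refine ⟨a, b, c, by simp [he], by simp [he], by simp [he], hab, hac, hbc, ?_⟩
      rw [dotProduct, ← Finset.sum_subset (Finset.subset_univ (supp u)) fun i _ hi => by
        rw [mem_supp, ne_eq, not_not] at hi; rw [hi, zero_mul], he, Finset.sum_insert (by simp [hab, hac]),
        Finset.sum_pair hbc, ← add_assoc] at hu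
      rw [hu]; exact one_ne_zero
  obtain ⟨r, k, e1, e2, e3, he⟩ := hkill (u p') (u q') (u r') (mem_supp.1 hp') (mem_supp.1 hq') (mem_supp.1 hr') hN
  refine ⟨![p', q', r'], ?_, fun i => by fin_cases i <;> simp [hp', hq', hr'],
    ![sgn (ZMod p) e1 * t r, sgn (ZMod p) e2 * t (r + 1), sgn (ZMod p) e3 * t (r + 2)], Equiv.addLeft r, k,
    fun i => ?_, ?_⟩
  · intro i j hij
    fin_cases i <;> fin_cases j <;>
      first | rfl | simp [hpq, hpr, hqr, Ne.symm hpq, Ne.symm hpr, Ne.symm hqr] at hij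
  · fin_cases i <;> simp [sgn] <;> split_ifs <;> simp
  · have hk : u (![p', q', r'] k) = ![u p', u q', u r'] k := by fin_cases k <;> simp
    rw [hk, he]
    simp [Fin.sum_univ_three]

theorem all_five {R : Set (ι → ZMod 5)} (hR : RootSys R) (hn : Fintype.card ι = 5 ∨ Fintype.card ι = 7 ∨ 9 ≤ Fintype.card ι)
    {v : ι → ZMod 5} (hv : v ∈ R) (h3 : 3 ≤ (supp v).card) : AllUnits R := by
  classical
  obtain ⟨i, hi⟩ : ∃ i, i = num v (1 : ZMod 5) := ⟨_, rfl⟩
  obtain ⟨j, hj⟩ : ∃ j, j = num v (4 : ZMod 5) := ⟨_, rfl⟩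
  obtain ⟨hsum, hmod⟩ : i + j = (supp v).card ∧ (i + 4 * j) % 5 = 1 := by
    have hf : (supp v).filter (fun x => ¬ v x * v x = 1) = (supp v).filter (fun x => v x * v x = 4) :=
      Finset.filter_congr fun x hx => by
        rcases five_cases (v x) (mem_supp.1 hx) with h | h <;> simp [h] <;> decide
    have h1 : i + j = (supp v).card := by
      rw [hi, hj, num, num, ← hf]; exact Finset.card_filter_add_card_filter_not _
    refine ⟨h1, ?_⟩
    have e : ((i + 4 * j : ℕ) : ZMod 5) = ((1 : ℕ) : ZMod 5) := by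
      rw [Nat.cast_one, ← hR.unit v hv, dotProduct, ← Finset.sum_subset (Finset.subset_univ (supp v))
        fun x _ hx => by rw [mem_supp, ne_eq, not_not] at hx; rw [hx, zero_mul],
        ← Finset.sum_filter_add_sum_filter_not (supp v) (fun x => v x * v x = 1), hf,
        Finset.sum_congr rfl (fun x hx => (Finset.mem_filter.1 hx).2),
        Finset.sum_congr rfl (fun x hx => (Finset.mem_filter.1 hx).2), hi, hj, num, num]
      simp [mul_comm]
    exact (ZMod.natCast_eq_natCast_iff' _ 1 _).1 e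
  have hle : ∀ {k : ℕ} (c : Fin k → ZMod 5), (∀ q : ZMod 5, q ≠ 1 → q ≠ 4 → cnt c q = 0) →
      cnt c 1 ≤ i → cnt c 4 ≤ j → ∀ q, cnt c q ≤ num v q := by
    intro k c h0 h1 h4 q
    by_cases e1 : q = 1
    · subst e1; omega
    by_cases e4 : q = 4
    · subst e4; omega
    rw [h0 q e1 e4]; exact Nat.zero_le _
  have hT : Has R ![(1 : ZMod 5), 1, 2] := by
    have s2 : Has R ![(1 : ZMod 5), 1, 1, 2, 2] → Has R ![(1 : ZMod 5), 1, 2] := fun h => by
      have h1 := hR.hop_rep h ![4, 1, 3, 3, 4] ![0, 2, 4, 0, 1]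
        (Equiv.ofBijective ![0, 2, 4, 3, 1] (by decide)) (by decide) (by decide) (i₀ := 0) (j₀ := 1) (by decide) (by decide)
      exact hR.has_sub h1 ![4, 2, 1] (by decide) (by decide) _ (by decide)
    by_cases r1 : 1 ≤ i ∧ 2 ≤ j
    · refine hR.has_perm (by omega) (hR.has_down hv ![(1 : ZMod 5), 2, 2] ![2, 4, 4]
        (hle _ (by decide) (le_trans (le_of_eq (by decide)) r1.1) (le_trans (le_of_eq (by decide)) r1.2))
        (by decide) (by decide)) (Equiv.swap 0 2) (by decide)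
    by_cases r2 : 4 ≤ i
    · have h1 := hR.has_down hv ![(1 : ZMod 5), 1, 1, 1] ![2, 2, 2, 2]
        (hle _ (by decide) (le_trans (le_of_eq (by decide)) r2) (le_trans (le_of_eq (by decide)) (Nat.zero_le j)))
        (by decide) (by decide)
      have h2 := hR.has_sub (c := ![(2 : ZMod 5), 2, 2, 2]) h1 id Function.injective_id (fun x _ => ⟨x, rfl⟩)
        ![2, 2, 2, 2] (by decide)
      obtain ⟨b, hb, hbR⟩ := h2
      obtain ⟨l, hl⟩ : ∃ l, l ∈ (Finset.univ.image b)ᶜ := by
        apply Finset.Nonempty.exists_mem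
        rw [← Finset.card_pos, Finset.card_compl, Finset.card_image_of_injective _ hb, Finset.card_univ,
          Fintype.card_fin]
        omega
      have h5 : Has R ![(2 : ZMod 5), 2, 2, 2, 0] := by
        refine ⟨Fin.snoc b l, ?_, ?_⟩
        · rw [Fin.snoc_injective_iff]
          exact ⟨hb, fun ⟨x, hx⟩ => by simp at hl; exact hl x hx⟩
        · convert hbR using 1
          rw [vec, vec, Fin.sum_univ_five, Fin.sum_univ_four]
          simp [Fin.snoc]
          rfl
      have h6 := hR.hop_rep h5 ![0, 2, 2, 2, 3] ![2, 4, 4, 4, 3]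
        (Equiv.ofBijective ![4, 3, 1, 0, 2] (by decide)) (by decide) (by decide) (i₀ := 0) (j₀ := 1) (by decide) (by decide)
      exact s2 (hR.has_perm_rep h6 (Equiv.ofBijective ![1, 2, 3, 0, 4] (by decide)) (by decide) (i₀ := 1) (j₀ := 2)
        (by decide) (by decide))
    by_cases r3 : 6 ≤ j
    · rcases hn with hn | hn | hn
      · exfalso
        have := Finset.card_le_univ (supp v)
        omega
      · exfalso
        have := Finset.card_le_univ (supp v)
        omega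
      have h1 := hR.has_down hv ![(2 : ZMod 5), 2, 2, 2, 2, 2] ![4, 4, 4, 4, 4, 4]
        (hle _ (by decide) (le_trans (le_of_eq (by decide)) (Nat.zero_le i)) (le_trans (le_of_eq (by decide)) r3))
        (by decide) (by decide)
      obtain ⟨b, hb, hbR⟩ := hR.has_perm (c' := ![(1 : ZMod 5), 1, 1, 1, 1, 1]) (by omega) h1 1 (by decide)
      obtain ⟨l, hl⟩ : ∃ l, l ∈ (Finset.univ.image b)ᶜ := by
        apply Finset.Nonempty.exists_mem
        rw [← Finset.card_pos, Finset.card_compl, Finset.card_image_of_injective _ hb, Finset.card_univ,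
          Fintype.card_fin]
        omega
      have h5 : Has R ![(1 : ZMod 5), 1, 1, 1, 1, 1, 0] := by
        refine ⟨Fin.snoc b l, ?_, ?_⟩
        · rw [Fin.snoc_injective_iff]
          exact ⟨hb, fun ⟨x, hx⟩ => by simp at hl; exact hl x hx⟩
        · convert hbR using 1
          rw [vec, vec, Fin.sum_univ_seven, Fin.sum_univ_six]
          simp [Fin.snoc]
          rfl
      have h6 := hR.hop (by omega) h5 ![1, 0, 4, 4, 4, 4, 4] ![2, 1, 0, 0, 0, 0, 4]
        (Equiv.ofBijective ![4, 6, 0, 3, 5, 1, 2] (by decide)) (by decide) (by decide)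
      exact hR.has_sub h6 ![1, 6, 0] (by decide) (by decide) _ (by decide)
    rcases (show (i = 2 ∧ j = 1) ∨ (i = 0 ∧ j = 4) by omega) with ⟨ei, ej⟩ | ⟨ei, ej⟩
    · exact hR.has_of_counts hv _ (hle _ (by decide) (le_trans (le_of_eq (by decide)) (le_of_eq ei.symm))
        (le_trans (le_of_eq (by decide)) (le_of_eq ej.symm))) (by omega)
    · have h1 := hR.has_of_counts hv ![(2 : ZMod 5), 2, 2, 2] (hle _ (by decide)
        (le_trans (le_of_eq (by decide)) (le_of_eq ei.symm)) (le_trans (le_of_eq (by decide)) (le_of_eq ej.symm)))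
        (by omega)
      obtain ⟨b, hb, hbR⟩ := h1
      obtain ⟨l, hl⟩ : ∃ l, l ∈ (Finset.univ.image b)ᶜ := by
        apply Finset.Nonempty.exists_mem
        rw [← Finset.card_pos, Finset.card_compl, Finset.card_image_of_injective _ hb, Finset.card_univ,
          Fintype.card_fin]
        omega
      have h5 : Has R ![(2 : ZMod 5), 2, 2, 2, 0] := by
        refine ⟨Fin.snoc b l, ?_, ?_⟩
        · rw [Fin.snoc_injective_iff]
          exact ⟨hb, fun ⟨x, hx⟩ => by simp at hl; exact hl x hx⟩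
        · convert hbR using 1
          rw [vec, vec, Fin.sum_univ_five, Fin.sum_univ_four]
          simp [Fin.snoc]
          rfl
      have h6 := hR.hop_rep h5 ![0, 2, 2, 2, 3] ![2, 4, 4, 4, 3]
        (Equiv.ofBijective ![4, 3, 1, 0, 2] (by decide)) (by decide) (by decide) (i₀ := 0) (j₀ := 1) (by decide) (by decide)
      exact s2 (hR.has_perm_rep h6 (Equiv.ofBijective ![1, 2, 3, 0, 4] (by decide)) (by decide) (i₀ := 1) (j₀ := 2)
        (by decide) (by decide))
  refine hR.kill_triple hn hT (fun u hu hlt => ?_) (by decide) (fun a b c ha hb hc _ => kill_five a b c ha hb hc)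
  have hcard : (supp u).card ≤ 1 := by
    by_contra h
    obtain ⟨a, b, hab, he⟩ := Finset.card_eq_two.1 (show (supp u).card = 2 by omega)
    rw [dotProduct, ← Finset.sum_subset (Finset.subset_univ (supp u)) fun x _ hx => by
      rw [mem_supp, ne_eq, not_not] at hx; rw [hx, zero_mul], he, Finset.sum_pair hab] at hu
    have key : ∀ x y : ZMod 5, x ≠ 0 → y ≠ 0 → x * x + y * y ≠ 1 := by decide
    exact key _ _ (mem_supp.1 (by simp [he])) (mem_supp.1 (by simp [he])) hu
  haveI : Nonempty ι := Fintype.card_pos_iff.1 (by omega)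
  obtain ⟨a, ha⟩ := Finset.card_le_one_iff_subset_singleton.1 hcard
  rcases axis_of_supp hu ha with rfl | rfl
  · exact hR.axis a
  · exact hR.neg (hR.axis a)

theorem has_extend {R : Set (ι → F)} {k : ℕ} {c : Fin k → F} (h : Has R c) (hk : k < Fintype.card ι) :
    Has R (Fin.snoc c 0) := by
  classical
  obtain ⟨b, hb, hbR⟩ := h
  obtain ⟨l, hl⟩ : ∃ l, l ∈ (Finset.univ.image b)ᶜ := by
    apply Finset.Nonempty.exists_mem
    rw [← Finset.card_pos, Finset.card_compl, Finset.card_image_of_injective _ hb, Finset.card_univ,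
      Fintype.card_fin]
    omega
  refine ⟨Fin.snoc b l, ?_, ?_⟩
  · rw [Fin.snoc_injective_iff]
    exact ⟨hb, fun ⟨x, hx⟩ => by simp at hl; exact hl x hx⟩
  · convert hbR using 1
    rw [vec, vec, Fin.sum_univ_castSucc]
    simp

theorem all_seven {R : Set (ι → ZMod 7)} (hR : RootSys R) (hn : Fintype.card ι = 5 ∨ Fintype.card ι = 7 ∨ 9 ≤ Fintype.card ι)
    {v : ι → ZMod 7} (hv : v ∈ R) (h3 : 3 ≤ (supp v).card) : AllUnits R := by
  classical
  obtain ⟨a, ha⟩ : ∃ a, a = num v (1 : ZMod 7) := ⟨_, rfl⟩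
  obtain ⟨b, hb⟩ : ∃ b, b = num v (4 : ZMod 7) := ⟨_, rfl⟩
  obtain ⟨c, hc⟩ : ∃ c, c = num v (2 : ZMod 7) := ⟨_, rfl⟩
  obtain ⟨hsum, hmod⟩ : a + b + c = (supp v).card ∧ (a + 4 * b + 2 * c) % 7 = 1 := by
    have h1 : ∀ (M : Type) [AddCommMonoid M] (f : ι → M),
        ∑ q ∈ ({1, 4, 2} : Finset (ZMod 7)), ∑ x ∈ (supp v).filter (fun x => v x * v x = q), f x =
          ∑ x ∈ supp v, f x := fun M _ f => Finset.sum_fiberwise_of_maps_to
      (fun x hx => by simpa using seven_cases (v x) (mem_supp.1 hx)) f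
    have hm : (supp v).card = a + b + c := by
      have := h1 ℕ (fun _ => 1)
      rw [Finset.card_eq_sum_ones, ← this, Finset.sum_insert (by decide), Finset.sum_pair (by decide)]
      simp only [← Finset.card_eq_sum_ones, ha, hb, hc, num]
      omega
    refine ⟨hm.symm, ?_⟩
    have e : ((a + 4 * b + 2 * c : ℕ) : ZMod 7) = ((1 : ℕ) : ZMod 7) := by
      rw [Nat.cast_one, ← hR.unit v hv, dotProduct, ← Finset.sum_subset (Finset.subset_univ (supp v))
        fun x _ hx => by rw [mem_supp, ne_eq, not_not] at hx; rw [hx, zero_mul], ← h1 (ZMod 7) fun x => v x * v x,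
        Finset.sum_insert (by decide), Finset.sum_pair (by decide),
        Finset.sum_congr rfl (fun x hx => (Finset.mem_filter.1 hx).2),
        Finset.sum_congr rfl (fun x hx => (Finset.mem_filter.1 hx).2),
        Finset.sum_congr rfl (fun x hx => (Finset.mem_filter.1 hx).2), ha, hb, hc, num, num, num]
      simp [mul_comm]
      ring
    exact (ZMod.natCast_eq_natCast_iff' _ 1 _).1 e
  have hle : ∀ {k : ℕ} (d : Fin k → ZMod 7), (∀ q : ZMod 7, q ≠ 1 → q ≠ 4 → q ≠ 2 → cnt d q = 0) →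
      cnt d 1 ≤ a ∧ cnt d 4 ≤ b ∧ cnt d 2 ≤ c → ∀ q, cnt d q ≤ num v q := by
    intro k d h0 hh q
    obtain ⟨h1, h4, h2⟩ := hh
    by_cases e1 : q = 1
    · subst e1; omega
    by_cases e4 : q = 4
    · subst e4; omega
    by_cases e2 : q = 2
    · subst e2; omega
    rw [h0 q e1 e4 e2]; exact Nat.zero_le _
  -- from the small patterns to the basic one
  have s211 : Has R ![(1 : ZMod 7), 1, 2, 3] → Has R ![(2 : ZMod 7), 3, 3] := fun h => by
    have h1 := hR.hop_rep h ![3, 6, 2, 6] ![4, 0, 4, 2]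
      (Equiv.ofBijective ![3, 0, 2, 1] (by decide)) (by decide) (by decide) (i₀ := 0) (j₀ := 1) (by decide) (by decide)
    exact hR.has_sub h1 ![3, 0, 2] (by decide) (by decide) _ (by decide)
  have s410 : Has R ![(1 : ZMod 7), 1, 1, 1, 2] → Has R ![(2 : ZMod 7), 3, 3] := fun h => by
    have h1 := hR.hop_rep h ![6, 2, 6, 1, 1] ![0, 3, 0, 2, 3]
      (Equiv.ofBijective ![1, 4, 2, 3, 0] (by decide)) (by decide) (by decide) (i₀ := 0) (j₀ := 1) (by decide) (by decide)
    exact hR.has_sub h1 ![3, 1, 4] (by decide) (by decide) _ (by decide)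
  have s203 : Has R ![(1 : ZMod 7), 1, 3, 3, 3] → Has R ![(2 : ZMod 7), 3, 3] := fun h => by
    have h1 := hR.hop_rep h ![4, 4, 1, 4, 1] ![3, 3, 0, 5, 0]
      (Equiv.ofBijective ![4, 3, 0, 2, 1] (by decide)) (by decide) (by decide) (i₀ := 0) (j₀ := 1) (by decide) (by decide)
    exact hR.has_sub h1 ![3, 0, 1] (by decide) (by decide) _ (by decide)
  have s800 : Has R ![(1 : ZMod 7), 1, 1, 1, 1, 1, 1, 1] → Has R ![(2 : ZMod 7), 3, 3] := fun h => by
    obtain ⟨p, hp, hpR⟩ := h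
    have hw := hR.has_signs hp hpR (c' := ![(1 : ZMod 7), 1, 1, 1, 1, 6, 6, 6]) (by decide)
    have ho := hR.refl _ hw _ hpR
    rw [rf_vec hp, show (fun i => ![(1 : ZMod 7), 1, 1, 1, 1, 1, 1, 1] i -
      2 * (∑ l, ![(1 : ZMod 7), 1, 1, 1, 1, 6, 6, 6] l * ![(1 : ZMod 7), 1, 1, 1, 1, 1, 1, 1] l) *
        ![(1 : ZMod 7), 1, 1, 1, 1, 6, 6, 6] i) = ![(4 : ZMod 7), 4, 4, 4, 4, 5, 5, 5] by decide] at ho
    refine s203 (hR.has_down ho ![(3 : ZMod 7), 3, 2, 2, 2] _ (fun q => ?_) (by decide) (by decide))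
    have e : num (vec p ![(4 : ZMod 7), 4, 4, 4, 4, 5, 5, 5]) q
        = ((Finset.univ.filter fun i : Fin 8 => ![(4 : ZMod 7), 4, 4, 4, 4, 5, 5, 5] i *
            ![(4 : ZMod 7), 4, 4, 4, 4, 5, 5, 5] i = q).image p).card := by
      rw [num]
      congr 1
      ext x
      simp only [Finset.mem_filter, mem_supp, Finset.mem_image, Finset.mem_univ, true_and]
      constructor
      · rintro ⟨hx, hq⟩
        by_cases hx' : ∃ i, p i = x
        · obtain ⟨i, rfl⟩ := hx'
          rw [vec_apply hp] at hq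
          exact ⟨i, hq, rfl⟩
        · push Not at hx'
          exact absurd (vec_apply_out _ hx') hx
      · rintro ⟨i, hq, rfl⟩
        rw [vec_apply hp]
        exact ⟨(by decide : ∀ i : Fin 8, ![(4 : ZMod 7), 4, 4, 4, 4, 5, 5, 5] i ≠ 0) i, hq⟩
    rw [e, Finset.card_image_of_injective _ hp]
    exact (by decide : ∀ q : ZMod 7, cnt ![(3 : ZMod 7), 3, 2, 2, 2] q ≤ (Finset.univ.filter fun i : Fin 8 =>
      ![(4 : ZMod 7), 4, 4, 4, 4, 5, 5, 5] i * ![(4 : ZMod 7), 4, 4, 4, 4, 5, 5, 5] i = q).card) q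
  have s402 : Has R ![(1 : ZMod 7), 1, 1, 1, 3, 3] → Has R ![(2 : ZMod 7), 3, 3] := fun h => by
    have h1 := hR.hop_rep h ![1, 4, 6, 1, 6, 3] ![0, 4, 2, 0, 4, 0]
      (Equiv.ofBijective ![2, 5, 0, 3, 1, 4] (by decide)) (by decide) (by decide) (i₀ := 0) (j₀ := 1)
      (by decide) (by decide)
    exact hR.has_sub h1 ![2, 1, 4] (by decide) (by decide) _ (by decide)
  have s601 : Has R ![(1 : ZMod 7), 1, 1, 1, 1, 1, 3] → Has R ![(2 : ZMod 7), 3, 3] := fun h => by
    have h1 := hR.hop_rep h ![6, 3, 6, 6, 6, 1, 1] ![0, 4, 0, 0, 0, 2, 4]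
      (Equiv.ofBijective ![2, 6, 5, 4, 3, 0, 1] (by decide)) (by decide) (by decide) (i₀ := 0) (j₀ := 1)
      (by decide) (by decide)
    exact hR.has_sub h1 ![5, 1, 6] (by decide) (by decide) _ (by decide)
  have s004 : Has R ![(3 : ZMod 7), 3, 3, 3] → Has R ![(2 : ZMod 7), 3, 3] := fun h => by
    have h0 := has_extend h (by omega)
    obtain ⟨p, hp, hpR⟩ := hR.hop_rep h0 ![3, 0, 3, 3, 3] ![2, 3, 2, 2, 6]
      (Equiv.ofBijective ![2, 4, 0, 3, 1] (by decide)) (by decide) (by decide) (i₀ := 0) (j₀ := 1) (by decide) (by decide)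
    have h2 : ∀ q, cnt ![(1 : ZMod 7), 2, 2] q ≤ num (vec p ![(2 : ZMod 7), 3, 2, 2, 6]) q := by
      intro q
      have e : num (vec p ![(2 : ZMod 7), 3, 2, 2, 6]) q
          = ((Finset.univ.filter fun i : Fin 5 => ![(2 : ZMod 7), 3, 2, 2, 6] i * ![(2 : ZMod 7), 3, 2, 2, 6] i = q).image p).card := by
        rw [num]
        congr 1
        ext x
        simp only [Finset.mem_filter, mem_supp, Finset.mem_image, Finset.mem_univ, true_and]
        constructor
        · rintro ⟨hx, hq⟩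
          by_cases hx' : ∃ i, p i = x
          · obtain ⟨i, rfl⟩ := hx'
            rw [vec_apply hp] at hq
            exact ⟨i, hq, rfl⟩
          · push Not at hx'
            exact absurd (vec_apply_out _ hx') hx
        · rintro ⟨i, hq, rfl⟩
          rw [vec_apply hp]
          exact ⟨(by decide : ∀ i : Fin 5, ![(2 : ZMod 7), 3, 2, 2, 6] i ≠ 0) i, hq⟩
      rw [e, Finset.card_image_of_injective _ hp]
      exact (by decide : ∀ q : ZMod 7, cnt ![(1 : ZMod 7), 2, 2] q ≤ (Finset.univ.filter fun i : Fin 5 =>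
        ![(2 : ZMod 7), 3, 2, 2, 6] i * ![(2 : ZMod 7), 3, 2, 2, 6] i = q).card) q
    exact hR.has_down hpR ![(1 : ZMod 7), 2, 2] _ h2 (by decide) (by decide)
  have hT : Has R ![(2 : ZMod 7), 3, 3] := by
    have dn : ∀ {k : ℕ} (d d' : Fin k → ZMod 7), (∀ q : ZMod 7, q ≠ 1 → q ≠ 4 → q ≠ 2 → cnt d q = 0) →
        cnt d 1 ≤ a ∧ cnt d 4 ≤ b ∧ cnt d 2 ≤ c → 4 * ∑ i, d i * d i = 1 →
        (∀ i, d' i * d' i = 4 * (d i * d i)) → Has R d' :=
      fun d d' h0 hh hs hd => hR.has_down hv d d' (hle d h0 hh) hs hd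
    by_cases r1 : 1 ≤ a ∧ 2 ≤ b
    · exact dn ![(1 : ZMod 7), 2, 2] _ (by decide) ⟨le_trans (le_of_eq (by decide)) r1.1,
        le_trans (le_of_eq (by decide)) r1.2, le_trans (le_of_eq (by decide)) (Nat.zero_le c)⟩ (by decide) (by decide)
    by_cases r2 : 4 ≤ b
    · exact s004 (dn ![(2 : ZMod 7), 2, 2, 2] _ (by decide) ⟨le_trans (le_of_eq (by decide)) (Nat.zero_le a),
        le_trans (le_of_eq (by decide)) r2, le_trans (le_of_eq (by decide)) (Nat.zero_le c)⟩ (by decide) (by decide))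
    by_cases r3 : 1 ≤ a ∧ 1 ≤ b ∧ 2 ≤ c
    · exact s211 (dn ![(3 : ZMod 7), 3, 1, 2] _ (by decide) ⟨le_trans (le_of_eq (by decide)) r3.1,
        le_trans (le_of_eq (by decide)) r3.2.1, le_trans (le_of_eq (by decide)) r3.2.2⟩ (by decide) (by decide))
    by_cases r4 : 1 ≤ a ∧ 4 ≤ c
    · exact s410 (dn ![(3 : ZMod 7), 3, 3, 3, 1] _ (by decide) ⟨le_trans (le_of_eq (by decide)) r4.1,
        le_trans (le_of_eq (by decide)) (Nat.zero_le b), le_trans (le_of_eq (by decide)) r4.2⟩ (by decide) (by decide))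
    by_cases r5 : 8 ≤ c
    · exact s800 (dn ![(3 : ZMod 7), 3, 3, 3, 3, 3, 3, 3] _ (by decide) ⟨le_trans (le_of_eq (by decide)) (Nat.zero_le a),
        le_trans (le_of_eq (by decide)) (Nat.zero_le b), le_trans (le_of_eq (by decide)) r5⟩ (by decide) (by decide))
    by_cases r6 : 3 ≤ b ∧ 2 ≤ c
    · exact s203 (dn ![(3 : ZMod 7), 3, 2, 2, 2] _ (by decide) ⟨le_trans (le_of_eq (by decide)) (Nat.zero_le a),
        le_trans (le_of_eq (by decide)) r6.1, le_trans (le_of_eq (by decide)) r6.2⟩ (by decide) (by decide))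
    by_cases r7 : 2 ≤ b ∧ 4 ≤ c
    · exact s402 (dn ![(3 : ZMod 7), 3, 3, 3, 2, 2] _ (by decide) ⟨le_trans (le_of_eq (by decide)) (Nat.zero_le a),
        le_trans (le_of_eq (by decide)) r7.1, le_trans (le_of_eq (by decide)) r7.2⟩ (by decide) (by decide))
    by_cases r8 : 1 ≤ b ∧ 6 ≤ c
    · exact s601 (dn ![(3 : ZMod 7), 3, 3, 3, 3, 3, 2] _ (by decide) ⟨le_trans (le_of_eq (by decide)) (Nat.zero_le a),
        le_trans (le_of_eq (by decide)) r8.1, le_trans (le_of_eq (by decide)) r8.2⟩ (by decide) (by decide))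
    by_cases r9 : 9 ≤ a
    · obtain ⟨p, hp, hpR⟩ := dn ![(1 : ZMod 7), 1, 1, 1, 1, 1, 1, 1, 1] (fun _ => 2) (by decide)
        ⟨le_trans (le_of_eq (by decide)) r9, le_trans (le_of_eq (by decide)) (Nat.zero_le b),
          le_trans (le_of_eq (by decide)) (Nat.zero_le c)⟩ (by decide) (by decide)
      refine s004 (hR.has_down hpR ![(2 : ZMod 7), 2, 2, 2] _ (fun q => ?_) (by decide) (by decide))
      have e1 : ∀ q : ZMod 7, q ≠ 4 → cnt ![(2 : ZMod 7), 2, 2, 2] q = 0 := by decide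
      by_cases hq : q = 4
      · subst hq
        refine le_trans (le_of_eq (show cnt ![(2 : ZMod 7), 2, 2, 2] 4 = 4 by decide)) ?_
        have hsub : Finset.univ.image p ⊆ (supp (vec p fun _ => (2 : ZMod 7))).filter
            fun x => vec p (fun _ => (2 : ZMod 7)) x * vec p (fun _ => (2 : ZMod 7)) x = 4 := by
          intro x hx
          obtain ⟨i, -, rfl⟩ := Finset.mem_image.1 hx
          simp only [Finset.mem_filter, mem_supp, vec_apply hp]
          decide
        have := Finset.card_le_card hsub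
        rw [Finset.card_image_of_injective _ hp, Finset.card_univ, Fintype.card_fin] at this
        unfold num
        omega
      · rw [e1 q hq]; exact Nat.zero_le _
    have fin : ∀ {k : ℕ} (d : Fin k → ZMod 7), (∀ q : ZMod 7, q ≠ 1 → q ≠ 4 → q ≠ 2 → cnt d q = 0) →
        cnt d 1 = a ∧ cnt d 4 = b ∧ cnt d 2 = c → k = a + b + c → Has R d :=
      fun d h0 hh hk => hR.has_of_counts hv d (hle d h0 ⟨hh.1.le, hh.2.1.le, hh.2.2.le⟩) (by omega)
    rcases residual_seven a (by omega) b (by omega) c (by omega) hmod (by omega) r1 r3 r4 r6 r7 r8 with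
      h | h | h | h | h | h | h | h <;> obtain ⟨rfl, rfl, rfl⟩ := h
    · exact s004 (fin _ (by decide) (by decide) (by decide))
    · exact fin _ (by decide) (by decide) (by decide)
    · exact s203 (fin _ (by decide) (by decide) (by decide))
    · exact s211 (fin _ (by decide) (by decide) (by decide))
    · exact s402 (fin _ (by decide) (by decide) (by decide))
    · exact s410 (fin _ (by decide) (by decide) (by decide))
    · exact s601 (fin _ (by decide) (by decide) (by decide))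
    · exact s800 (fin _ (by decide) (by decide) (by decide))
  have hdiag : Has R ![(2 : ZMod 7), 2] := by
    have h1 := hR.hop (by omega) hT ![4, 5, 3] ![5, 5, 0]
      (Equiv.ofBijective ![1, 0, 2] (by decide)) (by decide) (by decide)
    exact hR.has_sub h1 ![0, 1] (by decide) (by decide) _ (by decide)
  haveI : Nonempty ι := Fintype.card_pos_iff.1 (by omega)
  refine hR.kill_triple hn hT (fun u hu hlt => ?_) (by decide) kill_seven
  by_cases hcard : (supp u).card ≤ 1
  · obtain ⟨x, hx⟩ := Finset.card_le_one_iff_subset_singleton.1 hcard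
    rcases axis_of_supp hu hx with rfl | rfl
    · exact hR.axis x
    · exact hR.neg (hR.axis x)
  obtain ⟨x, y, hxy, he⟩ := Finset.card_eq_two.1 (show (supp u).card = 2 by omega)
  rw [dotProduct, ← Finset.sum_subset (Finset.subset_univ (supp u)) fun z _ hz => by
    rw [mem_supp, ne_eq, not_not] at hz; rw [hz, zero_mul], he, Finset.sum_pair hxy] at hu
  have key : ∀ x y : ZMod 7, x ≠ 0 → y ≠ 0 → x * x + y * y = 1 → x * x = 4 ∧ y * y = 4 := by decide
  obtain ⟨hx, hy⟩ := key _ _ (mem_supp.1 (by simp [he])) (mem_supp.1 (by simp [he])) hu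
  have hinj : Function.Injective ![x, y] := by
    intro i j hij; fin_cases i <;> fin_cases j <;> first | rfl | simp [hxy, Ne.symm hxy] at hij
  have := hR.has_all (c' := ![u x, u y]) (by omega) hdiag 1 (fun i => by fin_cases i <;> simp [hx, hy] <;> decide) hinj
  convert this using 1
  refine (eq_vec hinj (v := u) fun z hz => by
    by_contra h0
    have := mem_supp.2 h0
    rw [he] at this
    simp at this
    rcases this with rfl | rfl
    · exact hz 0 rfl
    · exact hz 1 rfl).trans ?_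
  congr 1
  funext i; fin_cases i <;> rfl

end RootSys

end Cfsg.Agent.Lib.OrthFrame
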