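import Cfsg.Agent.Lib.OrthFrame.Large
import Cfsg.Agent.Lib.OrthFrame.Small

/-!
Prime field, at least 9 coordinates: roots are the axes or all unit vectors.
-/

set_option autoImplicit false
set_option linter.unusedSectionVars false

namespace Cfsg.Agent.Lib.OrthFrame

open Matrix Finset

variable {ι : Type*} [Fintype ι] [DecidableEq ι] {F : Type*} [Field F] {K : Type*} [Field K]

theorem map_dot (e : F ≃+* K) (x y : ι → F) : (e ∘ x) ⬝ᵥ (e ∘ y) = e (x ⬝ᵥ y) := by
  simp [dotProduct, map_sum]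

theorem map_ax (e : F ≃+* K) (a : ι) : e ∘ (ax a : ι → F) = ax a := by
  funext i
  by_cases h : i = a
  · subst h; simp [ax]
  · simp [ax, h]

theorem map_rf (e : F ≃+* K) (v w : ι → F) : e ∘ rf v w = rf (e ∘ v) (e ∘ w) := by
  funext i
  simp [rf, map_dot, map_mul, map_ofNat]

/-- Conjugation of a linear map by a field isomorphism. -/
noncomputable def conjLin (e : F ≃+* K) (φ : (ι → F) ≃ₗ[F] (ι → F)) : (ι → K) ≃ₗ[K] (ι → K) where
  toFun x := e ∘ φ (e.symm ∘ x)
  map_add' x y := by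
    have : e.symm ∘ (x + y) = e.symm ∘ x + e.symm ∘ y := by funext i; simp
    rw [this, map_add]; funext i; simp
  map_smul' c x := by
    have : e.symm ∘ (c • x) = e.symm c • (e.symm ∘ x) := by funext i; simp
    rw [this, map_smul]; funext i; simp
  invFun x := e ∘ φ.symm (e.symm ∘ x)
  left_inv x := by
    have : e.symm ∘ (e ∘ φ (e.symm ∘ x)) = φ (e.symm ∘ x) := by funext i; simp
    simp only [this, LinearEquiv.symm_apply_apply]; funext i; simp
  right_inv x := by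
    have : e.symm ∘ (e ∘ φ.symm (e.symm ∘ x)) = φ.symm (e.symm ∘ x) := by funext i; simp
    simp only [this, LinearEquiv.apply_symm_apply]; funext i; simp

namespace RootSys

variable {R : Set (ι → F)}

theorem map (hR : RootSys R) (e : F ≃+* K) : RootSys ((fun v : ι → F => e ∘ v) '' R) where
  unit := by rintro _ ⟨v, hv, rfl⟩; rw [map_dot, hR.unit v hv, map_one]
  axis a := ⟨_, hR.axis a, map_ax e a⟩
  refl := by
    rintro _ ⟨v, hv, rfl⟩ _ ⟨w, hw, rfl⟩
    exact ⟨_, hR.refl v hv w hw, map_rf e v w⟩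
  perm := by rintro σ hσ _ ⟨v, hv, rfl⟩; exact ⟨_, hR.perm σ hσ v hv, rfl⟩
  trans := by
    rintro _ ⟨v, hv, rfl⟩ a
    obtain ⟨φ, h1, h2, h3, h4⟩ := hR.trans v hv a
    have hs : ∀ x : ι → F, e.symm ∘ (e ∘ x) = x := fun x => by funext i; simp
    refine ⟨conjLin e φ, ?_, fun x y => ?_, ?_, ?_⟩
    · show e ∘ φ (e.symm ∘ ax a) = e ∘ v
      rw [map_ax, h1]
    · show (e ∘ φ _) ⬝ᵥ (e ∘ φ _) = _
      rw [map_dot, h2, map_dot, e.apply_symm_apply]
    · rintro _ ⟨u, hu, rfl⟩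
      exact ⟨_, h3 u hu, by show e ∘ φ u = e ∘ φ (e.symm ∘ (e ∘ u)); rw [hs]⟩
    · rintro _ ⟨u, hu, rfl⟩
      exact ⟨_, h4 u hu, by show e ∘ φ.symm u = e ∘ φ.symm (e.symm ∘ (e ∘ u)); rw [hs]⟩

theorem allUnits_of_map (e : F ≃+* K) (h : AllUnits ((fun v : ι → F => e ∘ v) '' R)) : AllUnits R := by
  intro v hv
  obtain ⟨w, hw, he⟩ := h (e ∘ v) (by rw [map_dot, hv, map_one])
  have : w = v := funext fun i => e.injective (congrFun he i)
  exact this ▸ hw

/-- The dichotomy. -/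
theorem axes_or_all [Fintype F] (hR : RootSys R) (hp : (Fintype.card F).Prime) (h2 : (2 : F) ≠ 0)
    (hn : Fintype.card ι = 5 ∨ Fintype.card ι = 7 ∨ 9 ≤ Fintype.card ι) :
    (∀ v ∈ R, ∃ a, v = ax a ∨ v = -ax a) ∨ AllUnits R := by
  rcases hR.axes_or_three h2 (by omega) with h | ⟨v, hv, h3⟩
  · exact Or.inl h
  right
  by_cases h11 : 11 ≤ Fintype.card F
  · exact hR.all_of_large ⟨hp, h11⟩ hn ⟨v, hv, h3⟩
  haveI : Fact (Fintype.card F).Prime := ⟨hp⟩
  haveI : CharP F (Fintype.card F) := charP_of_card_eq_prime rfl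
  have hne : Fintype.card F ≠ 2 := fun h => h2 (by
    have := Nat.cast_ofNat (R := F) (n := 2)
    rw [← this]
    exact (CharP.cast_eq_zero_iff F (Fintype.card F) 2).2 (h ▸ dvd_rfl))
  obtain ⟨q, hq⟩ : ∃ q, Fintype.card F = q := ⟨_, rfl⟩
  have hqp : q.Prime := hq ▸ hp
  haveI : Fact q.Prime := ⟨hqp⟩
  let e : F ≃+* ZMod q := (ZMod.ringEquivOfPrime F hqp hq).symm
  have hs : supp ((fun v : ι → F => e ∘ v) v) = supp v := by
    ext i; simp [mem_supp]
  refine allUnits_of_map e ?_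
  have hv' : (fun v : ι → F => e ∘ v) v ∈ (fun v : ι → F => e ∘ v) '' R := ⟨v, hv, rfl⟩
  have h3' : 3 ≤ (supp ((fun v : ι → F => e ∘ v) v)).card := hs ▸ h3
  have hlist : q = 3 ∨ q = 5 ∨ q = 7 := by
    have h2le := hqp.two_le
    rw [hq] at hne h11
    interval_cases q <;> first | omega | (exfalso; revert hqp; norm_num)
  have hR' := hR.map e
  clear_value e
  rcases hlist with rfl | rfl | rfl
  · exact hR'.all_three hn hv' h3'
  · exact hR'.all_five hn hv' h3'
  · exact hR'.all_seven hn hv' h3'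

end RootSys

end Cfsg.Agent.Lib.OrthFrame
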