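import Cfsg.Agent.Lib.OrthFrame.Fusion

/-!
Six variables, axis stabilisers monomial: no element maps two axes onto vectors with four coordinates of square
one quarter.
-/

set_option autoImplicit false
set_option linter.unusedSectionVars false

namespace Cfsg.Agent.Lib.OrthFrame.Six

open Matrix Cfsg.Agent.Lib.Orth Cfsg.Agent.Lib.OrthFrame

variable {ι : Type} [Fintype ι] [DecidableEq ι] {F : Type*} [Field F]

theorem app_coord (g : O ι F) (v : ι → F) (b : ι) : app g v b = ∑ a, v a * app g (ax a) b := by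
  simp [app, Matrix.mulVec, dotProduct, ax, Pi.single_apply, mul_comm]

theorem isAx_two {v : ι → F} (h : IsAx v) {i j : ι} (hij : i ≠ j) : v i = 0 ∨ v j = 0 := by
  obtain ⟨b, hb⟩ := h
  by_cases hib : i = b
  · right; subst hib; rcases hb with e | e <;> simp [e, hij.symm]
  · left; rcases hb with e | e <;> simp [e, hib]

theorem isAx_of_supp_le {v : ι → F} (hv : v ⬝ᵥ v = 1) {a : ι} (h : ∀ i, i ≠ a → v i = 0) : IsAx v :=
  ⟨a, axis_of_supp hv fun i hi => Finset.mem_singleton.2 (by_contra fun hne => mem_supp.1 hi (h i hne))⟩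

theorem mono_ax_smul {y : O ι F} (hy : Mono y) (i : ι) :
    ∃ j, ∃ e : F, e * e = 1 ∧ app y (ax i) = e • ax j := by
  obtain ⟨j, h | h⟩ := hy i
  · exact ⟨j, 1, one_mul 1, by rw [h, one_smul]⟩
  · exact ⟨j, -1, by ring, by rw [h, neg_one_smul]⟩

variable (h2 : (2 : F) ≠ 0)
include h2

theorem inv_coord (g : O ι F) (v : ι → F) (b : ι) : app g⁻¹ v b = app g (ax b) ⬝ᵥ v := by
  rw [app_dot_left h2, ax_dot]

theorem inv_apply (g : O ι F) (p s : ι) : app g⁻¹ (ax p) s = app g (ax s) p := by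
  rw [inv_coord h2, dot_ax]

theorem eig_rel {y : O ι F} {i j : ι} {e : F} (he : app y (ax i) = e • ax j) {w : ι → F} {s : F}
    (hw : app y w = s • w) : s * e * w j = w i := by
  have h := app_dot h2 y w (ax i)
  rw [he, hw, smul_dotProduct, dotProduct_smul, dot_ax, dot_ax, smul_eq_mul, smul_eq_mul] at h
  linear_combination h

section main

variable [Finite F] {K : Subgroup (O ι F)} (hn : Fintype.card ι = 6)
  (hdd : ∀ S : Finset ι, Even S.card → dd S ∈ K)
  (hperm : ∀ σ : Equiv.Perm ι, Equiv.Perm.sign σ = 1 → pG σ ∈ K)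
  (hfix : ∀ k ∈ K, ∀ c, app k (ax c) = ax c → Mono k)
include hn hdd hperm hfix

theorem mono_of_ax {k : O ι F} (hk : k ∈ K) {c : ι} (h : IsAx (app k (ax c))) : Mono k := by
  obtain ⟨d, hd⟩ := h
  obtain ⟨σ, hσ, hσd⟩ := exists_even_perm {d} (fun _ => c) (by simp) (by simp; omega)
  obtain ⟨x, hx⟩ : ∃ x, x ≠ d := Fintype.exists_ne_of_one_lt_card (by omega) d
  have hd2 : (dd {d, x} : O ι F) ∈ K := hdd _ (by rw [Finset.card_pair (Ne.symm hx)]; exact even_two)
  have e : app (pG σ) (ax d) = (ax c : ι → F) := by rw [app_pG_ax, hσd d (Finset.mem_singleton_self d)]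
  rcases hd with hd | hd
  · have := hfix _ (mul_mem (hperm σ hσ) hk) c (by rw [app_mul, hd, e])
    have h' := ((mono_pG σ).inv h2).mul this
    rwa [inv_mul_cancel_left] at h'
  · have := hfix _ (mul_mem (hperm σ hσ) (mul_mem hd2 hk)) c (by
      rw [app_mul, app_mul, hd, app_neg, app_dd_ax, if_pos (by simp), neg_neg, e])
    have h' := ((mono_dd {d, x}).inv h2).mul (((mono_pG σ).inv h2).mul this)
    rwa [inv_mul_cancel_left, inv_mul_cancel_left] at h'

/-- The standard four by four signs. -/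
def sgn : Fin 4 → Fin 4 → F := ![![1, 1, 1, 1], ![1, 1, -1, -1], ![1, -1, 1, -1], ![1, -1, -1, 1]]

theorem no_std (E : Fin 6 ≃ ι) {h : O ι F} (hh : h ∈ K)
    (hW : ∀ i j : Fin 4, app h (ax (E (Fin.castLE (by norm_num) i))) (E (Fin.castLE (by norm_num) j)) =
      (sgn i j : F) / 2)
    (hZ : ∀ i : Fin 4, app h (ax (E (Fin.castLE (by norm_num) i))) (E 4) = 0 ∧
      app h (ax (E (Fin.castLE (by norm_num) i))) (E 5) = 0) : False := by
  classical
  obtain ⟨M, hM⟩ : ∃ M : Fin 6 → Fin 6 → F, ∀ i j, app h (ax (E i)) (E j) = M i j := ⟨_, fun _ _ => rfl⟩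
  have hsum : ∀ f : ι → F, ∑ a, f a = f (E 0) + f (E 1) + f (E 2) + f (E 3) + f (E 4) + f (E 5) := fun f => by
    rw [← E.sum_comp f, Fin.sum_univ_six]
  have w00 := hW 0 0; have w01 := hW 0 1; have w02 := hW 0 2; have w03 := hW 0 3
  have w10 := hW 1 0; have w11 := hW 1 1; have w12 := hW 1 2; have w13 := hW 1 3
  have w20 := hW 2 0; have w21 := hW 2 1; have w22 := hW 2 2; have w23 := hW 2 3
  have w30 := hW 3 0; have w31 := hW 3 1; have w32 := hW 3 2; have w33 := hW 3 3
  have z0 := hZ 0; have z1 := hZ 1; have z2 := hZ 2; have z3 := hZ 3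
  simp [sgn, Fin.castLE, hM] at w00 w01 w02 w03 w10 w11 w12 w13 w20 w21 w22 w23 w30 w31 w32 w33 z0 z1 z2 z3
  have horth : ∀ i j : Fin 6, M i 0 * M j 0 + M i 1 * M j 1 + M i 2 * M j 2 + M i 3 * M j 3 +
      M i 4 * M j 4 + M i 5 * M j 5 = if i = j then 1 else 0 := fun i j => by
    have := app_ax_dot h2 h (E i) (E j)
    rw [dotProduct, hsum] at this
    simpa [hM, E.injective.eq_iff] using this
  -- the last two rows avoid the first four coordinates
  have hlow : ∀ i : Fin 6, i = 4 ∨ i = 5 → M i 0 = 0 ∧ M i 1 = 0 ∧ M i 2 = 0 ∧ M i 3 = 0 := by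
    intro i hi
    have o0 := horth i 0; have o1 := horth i 1; have o2 := horth i 2; have o3 := horth i 3
    rw [if_neg (by rcases hi with rfl | rfl <;> decide), w00, w01, w02, w03, z0.1, z0.2] at o0
    rw [if_neg (by rcases hi with rfl | rfl <;> decide), w10, w11, w12, w13, z1.1, z1.2] at o1
    rw [if_neg (by rcases hi with rfl | rfl <;> decide), w20, w21, w22, w23, z2.1, z2.2] at o2
    rw [if_neg (by rcases hi with rfl | rfl <;> decide), w30, w31, w32, w33, z3.1, z3.2] at o3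
    field_simp at o0 o1 o2 o3
    have h4 : (4 : F) ≠ 0 := by
      have := mul_ne_zero h2 h2; norm_num at this; exact this
    refine ⟨?_, ?_, ?_, ?_⟩ <;> refine (mul_eq_zero.1 (show (4 : F) * _ = 0 from ?_)).resolve_left h4
    · linear_combination o0 + o1 + o2 + o3
    · linear_combination o0 + o1 - o2 - o3
    · linear_combination o0 - o1 + o2 - o3
    · linear_combination o0 - o1 - o2 + o3
  obtain ⟨r40, r41, r42, r43⟩ := hlow 4 (Or.inl rfl)
  obtain ⟨r50, r51, r52, r53⟩ := hlow 5 (Or.inr rfl)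
  have n4 := horth 4 4; have n5 := horth 5 5; have n45 := horth 4 5
  rw [if_pos rfl, r40, r41, r42, r43] at n4
  rw [if_pos rfl, r50, r51, r52, r53] at n5
  rw [if_neg (by decide), r40, r41, r42, r43] at n45
  simp only [zero_mul, zero_add] at n4 n5 n45
  have hne : ¬ Mono h := fun hm => by
    rcases isAx_two (hm (E 0)) (E.injective.ne (show (0 : Fin 6) ≠ 1 by decide)) with e | e <;>
      rw [hM] at e <;> simp [w00, w01, h2] at e
  have hrow : ∀ i : Fin 6, i = 4 ∨ i = 5 → M i 4 ≠ 0 ∧ M i 5 ≠ 0 := by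
    intro i hi
    obtain ⟨a, b, c, d⟩ := hlow i hi
    constructor <;> intro h0 <;> refine hne (mono_of_ax h2 hn hdd hperm hfix hh (c := E i) ?_)
    · refine isAx_of_supp_le (app_unit h2 _ (ax_unit _)) (a := E 5) fun x hx => ?_
      obtain ⟨j, rfl⟩ := E.surjective x
      rw [hM]
      fin_cases j <;> first | exact a | exact b | exact c | exact d | exact h0 | exact absurd rfl hx
    · refine isAx_of_supp_le (app_unit h2 _ (ax_unit _)) (a := E 4) fun x hx => ?_
      obtain ⟨j, rfl⟩ := E.surjective x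
      rw [hM]
      fin_cases j <;> first | exact a | exact b | exact c | exact d | exact h0 | exact absurd rfl hx
  obtain ⟨hA, -⟩ := hrow 4 (Or.inl rfl)
  obtain ⟨hC, -⟩ := hrow 5 (Or.inr rfl)
  -- coordinates of images
  have hfwd : ∀ (v : ι → F) (j : Fin 6), app h v (E j) = v (E 0) * M 0 j + v (E 1) * M 1 j + v (E 2) * M 2 j +
      v (E 3) * M 3 j + v (E 4) * M 4 j + v (E 5) * M 5 j := fun v j => by
    rw [app_coord, hsum]; simp only [hM]
  have hbwd : ∀ (v : ι → F) (i : Fin 6), app h⁻¹ v (E i) = M i 0 * v (E 0) + M i 1 * v (E 1) + M i 2 * v (E 2) +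
      M i 3 * v (E 3) + M i 4 * v (E 4) + M i 5 * v (E 5) := fun v i => by
    rw [inv_coord h2, dotProduct, hsum]; simp only [hM]
  have hp : ∀ (σ : Equiv.Perm (Fin 6)) (v : ι → F) (j : Fin 6),
      app (pG (E.permCongr σ)) v (E j) = v (E (σ⁻¹ j)) := fun σ v j => by
    rw [app_pG]
    show v ((E.permCongr σ)⁻¹ (E j)) = _
    rw [Equiv.Perm.inv_eq_iff_eq.2]
    simp
  have hext : ∀ v w : ι → F, (∀ j : Fin 6, v (E j) = w (E j)) → v = w := fun v w e => funext fun x => by
    obtain ⟨j, rfl⟩ := E.surjective x; exact e j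
  obtain ⟨τ, hτ⟩ : ∃ τ, τ = E.permCongr (Equiv.swap (4 : Fin 6) 5 * Equiv.swap 2 3) := ⟨_, rfl⟩
  have hτK : pG τ ∈ K := hperm _ (by rw [hτ, Equiv.Perm.sign_permCongr]; decide)
  have hYfix : app (h * pG τ * h⁻¹) (ax (E 0)) = ax (E 0) := by
    rw [app_mul, app_mul]
    have : app (pG τ) (app h⁻¹ (ax (E 0))) = app h⁻¹ (ax (E 0)) := hext _ _ fun j => by
      rw [hτ, hp, inv_apply h2, inv_apply h2, hM, hM]
      fin_cases j <;> simp [Equiv.swap_apply_def, w00, w10, w20, w30, r40, r50]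
    rw [this, app_app_inv]
  have hY := hfix _ (mul_mem (mul_mem hh hτK) (inv_mem hh)) _ hYfix (E 4)
  have y4 : app (h * pG τ * h⁻¹) (ax (E 4)) (E 4) = 2 * (M 4 4 * M 5 4) := by
    rw [app_mul, app_mul, hfwd, hτ]
    simp only [hp, inv_apply h2, hM]
    simp [Equiv.swap_apply_def, z0.1, z1.1, z2.1, z3.1]
    ring
  have y5 : app (h * pG τ * h⁻¹) (ax (E 4)) (E 5) = M 5 4 * M 4 5 + M 4 4 * M 5 5 := by
    rw [app_mul, app_mul, hfwd, hτ]
    simp only [hp, inv_apply h2, hM]
    simp [Equiv.swap_apply_def, z0.2, z1.2, z2.2, z3.2]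
  have hBC : M 5 4 * M 4 5 + M 4 4 * M 5 5 = 0 := by
    rcases isAx_two hY (E.injective.ne (show (4 : Fin 6) ≠ 5 by decide)) with e | e
    · rw [y4] at e; simp [h2, hA, hC] at e
    · rwa [y5] at e
  have hAB : M 4 4 * M 4 4 = M 4 5 * M 4 5 := by
    have : M 5 4 * (M 4 4 * M 4 4 - M 4 5 * M 4 5) = 0 := by
      linear_combination M 4 4 * n45 - M 4 5 * hBC
    exact sub_eq_zero.1 ((mul_eq_zero.1 this).resolve_left hC)
  obtain ⟨π, hπ⟩ : ∃ π, π = E.permCongr (Equiv.swap (4 : Fin 6) 0 * Equiv.swap 5 1) := ⟨_, rfl⟩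
  have hπK : pG π ∈ K := hperm _ (by rw [hπ, Equiv.Perm.sign_permCongr]; decide)
  obtain ⟨L, hL⟩ : ∃ L, L = pG π * h⁻¹ * pG π * h := ⟨_, rfl⟩
  have hLK : L ∈ K := hL ▸ mul_mem (mul_mem (mul_mem hπK (inv_mem hh)) hπK) hh
  have hL5 : ∀ j : Fin 6, app L (ax (E 5)) (E j) = ![0, 0, (M 5 4 - M 5 5) / 2, (M 5 4 - M 5 5) / 2,
      (M 5 4 + M 5 5) / 2, (M 5 4 + M 5 5) / 2] j := fun j => by
    rw [hL, app_mul, app_mul, app_mul, hπ]
    fin_cases j <;>
      (simp [hp, hbwd, hM, Equiv.swap_apply_def, r40, r41, r42, r43, r50, r51, r52, r53, w00, w01, w02, w03,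
        w10, w11, w12, w13, w20, w21, w22, w23, w30, w31, w32, w33, z0, z1, z2, z3] <;> ring)
  have hL2 : ∀ j : Fin 6, app L (ax (E 2)) (E j) = ![(M 4 4 - M 4 5) / 2, (M 5 4 - M 5 5) / 2, 1 / 2, -(1 / 2),
      0, 0] j := fun j => by
    rw [hL, app_mul, app_mul, app_mul, hπ]
    fin_cases j <;>
      (simp [hp, hbwd, hM, Equiv.swap_apply_def, r40, r41, r42, r43, r50, r51, r52, r53, w00, w01, w02, w03,
        w10, w11, w12, w13, w20, w21, w22, w23, w30, w31, w32, w33, z0, z1, z2, z3] <;>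
        (first | ring1 | (field_simp; ring1) | (field_simp; norm_num)))
  have hne52 : E 5 ≠ E 2 := E.injective.ne (by decide)
  obtain ⟨k, hk⟩ : ∃ k, k = L * dd {E 5, E 2} * L⁻¹ := ⟨_, rfl⟩
  have hkK : k ∈ K := hk ▸ mul_mem (mul_mem hLK (hdd _ (by rw [Finset.card_pair hne52]; exact even_two)))
    (inv_mem hLK)
  have hkv : ∀ i j : Fin 6, app k (ax (E i)) (E j) = (if i = j then 1 else 0) -
      2 * (app L (ax (E 5)) (E i) * app L (ax (E 5)) (E j) +
        app L (ax (E 2)) (E i) * app L (ax (E 2)) (E j)) := fun i j => by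
    rw [hk, app_conj_dd h2, Finset.sum_pair hne52, dot_ax, dot_ax]
    simp [ax, Pi.single_apply, E.injective.eq_iff, eq_comm]
    ring
  have hkmono : ∀ i : Fin 6, app L (ax (E 5)) (E i) = 0 → app L (ax (E 2)) (E i) = 0 → Mono k := fun i a b => by
    refine hfix k hkK (E i) (hext _ _ fun j => ?_)
    rw [hkv, a, b]
    simp [ax, Pi.single_apply, E.injective.eq_iff, eq_comm]
  rcases mul_self_eq_mul_self_iff.1 hAB with e | e
  · have hCD : M 5 5 = -M 5 4 := by
      have : M 4 4 * (M 5 5 + M 5 4) = 0 := by linear_combination n45 + (M 5 5) * e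
      linear_combination (mul_eq_zero.1 this).resolve_left hA
    have hm := hkmono 0 (by rw [hL5]; simp) (by rw [hL2]; simp [e]) (E 1)
    have k2 : app k (ax (E 1)) (E 2) = -M 5 4 := by
      rw [hkv, hL5, hL5, hL2, hL2]; simp [hCD]; field_simp; ring
    have k3 : app k (ax (E 1)) (E 3) = M 5 4 := by
      rw [hkv, hL5, hL5, hL2, hL2]; simp [hCD]; field_simp; ring
    rcases isAx_two hm (E.injective.ne (show (2 : Fin 6) ≠ 3 by decide)) with e' | e'
    · rw [k2] at e'; exact hC (neg_eq_zero.1 e')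
    · rw [k3] at e'; exact hC e'
  · have hCD : M 5 5 = M 5 4 := by
      have : M 4 4 * (M 5 4 - M 5 5) = 0 := by linear_combination n45 - (M 5 5) * e
      linear_combination -((mul_eq_zero.1 this).resolve_left hA)
    have hm := hkmono 1 (by rw [hL5]; simp) (by rw [hL2]; simp [hCD]) (E 0)
    have e5 : M 4 5 = -M 4 4 := by linear_combination e
    have k2 : app k (ax (E 0)) (E 2) = -M 4 4 := by
      rw [hkv, hL5, hL5, hL2, hL2]; simp [e5]; field_simp; ring
    have k3 : app k (ax (E 0)) (E 3) = M 4 4 := by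
      rw [hkv, hL5, hL5, hL2, hL2]; simp [e5]; field_simp; ring
    rcases isAx_two hm (E.injective.ne (show (2 : Fin 6) ≠ 3 by decide)) with e' | e'
    · rw [k2] at e'; exact hA (neg_eq_zero.1 e')
    · rw [k3] at e'; exact hA e'

/-- No two axes go to vectors with four coordinates of square one quarter. -/
theorem no_half {k : O ι F} (hk : k ∈ K) {x y p q : ι} (hxy : x ≠ y) (hpq : p ≠ q)
    (hx : ∀ i, app k (ax x) i * app k (ax x) i = if i = p ∨ i = q then 0 else 1 / 4)
    (hy : ∀ i, app k (ax y) i * app k (ax y) i = if i = p ∨ i = q then 0 else 1 / 4) : False := by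
  classical
  have h4 : (4 : F) ≠ 0 := by
    have := mul_ne_zero h2 h2; norm_num at this; exact this
  have hsq : ∀ t : F, t * t = 1 / 4 → t = 1 / 2 ∨ t = -(1 / 2) := fun t ht => by
    apply mul_self_eq_mul_self_iff.1
    rw [ht]; field_simp; norm_num
  have hhalf : (1 / 2 : F) ≠ 0 := by simp [h2]
  have hne : (1 / 2 : F) ≠ -(1 / 2) := fun h => by
    have e : (1 / 2 : F) + 1 / 2 = 1 := by field_simp; norm_num
    rw [eq_neg_iff_add_eq_zero, e] at h
    exact one_ne_zero h
  -- normalise the first vector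
  obtain ⟨A0, hA0⟩ : ∃ A0 : Finset ι, A0 = Finset.univ.filter fun i => app k (ax x) i = -(1 / 2) := ⟨_, rfl⟩
  have hpA : p ∉ A0 := fun h => by
    rw [hA0, Finset.mem_filter] at h
    have := hx p
    simp [h.2, h2] at this
  obtain ⟨A, hAeven, hA⟩ : ∃ A : Finset ι, Even A.card ∧ ∀ i, i ≠ p → (i ∈ A ↔ i ∈ A0) := by
    rcases Nat.even_or_odd A0.card with h | h
    · exact ⟨A0, h, fun _ _ => Iff.rfl⟩
    · exact ⟨insert p A0, by rw [Finset.card_insert_of_notMem hpA]; exact h.add_one,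
        fun i hi => by simp [hi]⟩
  obtain ⟨k1, hk1⟩ : ∃ k1, k1 = dd A * k := ⟨_, rfl⟩
  have hk1K : k1 ∈ K := hk1 ▸ mul_mem (hdd A hAeven) hk
  have hu : ∀ i, app k1 (ax x) i = if i = p ∨ i = q then 0 else 1 / 2 := by
    intro i
    rw [hk1, app_mul, app_dd]
    show (if i ∈ A then -app k (ax x) i else app k (ax x) i) = _
    have := hx i
    by_cases hi : i = p ∨ i = q
    · rw [if_pos hi] at this ⊢
      simp [mul_self_eq_zero.1 this]
    · rw [if_neg hi] at this ⊢
      simp only [not_or] at hi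
      have hiA : i ∈ A ↔ app k (ax x) i = -(1 / 2) := by rw [hA i hi.1, hA0]; simp
      rcases hsq _ this with e | e
      · rw [if_neg (fun h => ?_), e]
        have := hiA.1 h
        exact hne (e ▸ this)
      · rw [if_pos (hiA.2 e), e, neg_neg]
  have hv : ∀ i, app k1 (ax y) i * app k1 (ax y) i = if i = p ∨ i = q then 0 else 1 / 4 := by
    intro i
    rw [← hy i, hk1, app_mul, app_dd]
    simp only
    split_ifs <;> ring
  -- split the four coordinates by sign
  obtain ⟨U, hU⟩ : ∃ U : Finset ι, U = ({p, q} : Finset ι)ᶜ := ⟨_, rfl⟩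
  have hUmem : ∀ i, i ∈ U ↔ ¬ (i = p ∨ i = q) := fun i => by simp [hU]
  have hUc : U.card = 4 := by rw [hU, Finset.card_compl, Finset.card_pair hpq, hn]
  obtain ⟨P, hP⟩ : ∃ P : Finset ι, P = U.filter fun i => app k1 (ax y) i = 1 / 2 := ⟨_, rfl⟩
  have hPmem : ∀ i, i ∈ P ↔ i ∈ U ∧ app k1 (ax y) i = 1 / 2 := fun i => by rw [hP, Finset.mem_filter]
  have hPc : P.card = 2 ∧ (U \ P).card = 2 := by
    have hd : app k1 (ax x) ⬝ᵥ app k1 (ax y) = 0 := by rw [app_ax_dot h2, if_neg hxy]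
    have hPU : P ⊆ U := hP ▸ Finset.filter_subset _ _
    have e1 : ∀ i, app k1 (ax x) i * app k1 (ax y) i =
        (if i ∈ P then (1 / 4 : F) else 0) + (if i ∈ U \ P then -(1 / 4 : F) else 0) := by
      intro i
      rw [hu]
      by_cases hi : i = p ∨ i = q
      · have hiU : i ∉ U := fun h => (hUmem i).1 h hi
        rw [if_pos hi, if_neg (fun h => hiU (hPU h)), if_neg (fun h => hiU (Finset.mem_sdiff.1 h).1), zero_mul,
          add_zero]
      · have hiU : i ∈ U := (hUmem i).2 hi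
        rw [if_neg hi]
        have := hv i
        rw [if_neg hi] at this
        by_cases hiP : i ∈ P
        · rw [if_pos hiP, if_neg (fun h => (Finset.mem_sdiff.1 h).2 hiP), ((hPmem i).1 hiP).2, add_zero]
          field_simp; norm_num
        · rw [if_neg hiP, if_pos (Finset.mem_sdiff.2 ⟨hiU, hiP⟩),
            (hsq _ this).resolve_left fun e => hiP ((hPmem i).2 ⟨hiU, e⟩), zero_add]
          field_simp; norm_num
    rw [dotProduct, Finset.sum_congr rfl fun i _ => e1 i, Finset.sum_add_distrib, Finset.sum_ite_mem,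
      Finset.sum_ite_mem, Finset.univ_inter, Finset.univ_inter, Finset.sum_const, Finset.sum_const] at hd
    have hc : (U \ P).card + P.card = 4 := by rw [Finset.card_sdiff_add_card_eq_card hPU, hUc]
    have : P.card = 0 ∨ P.card = 1 ∨ P.card = 2 ∨ P.card = 3 ∨ P.card = 4 := by omega
    simp only [nsmul_eq_mul] at hd
    field_simp at hd
    rcases this with e | e | e | e | e
    · rw [e, show (U \ P).card = 4 by omega] at hd; norm_num at hd; exact absurd hd h4
    · rw [e, show (U \ P).card = 3 by omega] at hd; norm_num at hd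
      exact absurd hd h2
    · exact ⟨e, by omega⟩
    · rw [e, show (U \ P).card = 1 by omega] at hd; norm_num at hd
      exact absurd hd h2
    · rw [e, show (U \ P).card = 0 by omega] at hd; norm_num at hd; exact absurd hd h4
  obtain ⟨a0, a1, h01, hP01⟩ := Finset.card_eq_two.1 hPc.1
  obtain ⟨a2, a3, h23, hP23⟩ := Finset.card_eq_two.1 hPc.2
  obtain ⟨m0, p0⟩ := (hPmem a0).1 (by simp [hP01])
  obtain ⟨m1, p1⟩ := (hPmem a1).1 (by simp [hP01])
  obtain ⟨m2, n2⟩ := Finset.mem_sdiff.1 (show a2 ∈ U \ P by simp [hP23])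
  obtain ⟨m3, n3⟩ := Finset.mem_sdiff.1 (show a3 ∈ U \ P by simp [hP23])
  have p2 : app k1 (ax y) a2 = -(1 / 2) := (hsq _ (by rw [hv, if_neg ((hUmem _).1 m2)])).resolve_left
    fun e => n2 ((hPmem _).2 ⟨m2, e⟩)
  have p3 : app k1 (ax y) a3 = -(1 / 2) := (hsq _ (by rw [hv, if_neg ((hUmem _).1 m3)])).resolve_left
    fun e => n3 ((hPmem _).2 ⟨m3, e⟩)
  have h02 : a0 ≠ a2 := fun e => n2 (e ▸ by simp [hP01])
  have h03 : a0 ≠ a3 := fun e => n3 (e ▸ by simp [hP01])
  have h12 : a1 ≠ a2 := fun e => n2 (e ▸ by simp [hP01])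
  have h13 : a1 ≠ a3 := fun e => n3 (e ▸ by simp [hP01])
  rw [hUmem] at m0 m1 m2 m3
  simp only [not_or] at m0 m1 m2 m3
  obtain ⟨m0p, m0q⟩ := m0
  obtain ⟨m1p, m1q⟩ := m1
  obtain ⟨m2p, m2q⟩ := m2
  obtain ⟨m3p, m3q⟩ := m3
  let e6 : Fin 6 → ι := ![a0, a1, a2, a3, p, q]
  have he6 : Function.Injective e6 := by
    intro i j hij
    fin_cases i <;> fin_cases j <;>
      first
        | rfl
        | exact absurd hij ‹_›
        | exact absurd hij.symm ‹_›
  let E : Fin 6 ≃ ι := Equiv.ofBijective e6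
    ((Fintype.bijective_iff_injective_and_card e6).2 ⟨he6, by simp [hn]⟩)
  have hE : ∀ j, E j = e6 j := fun _ => rfl
  have hext : ∀ v w : ι → F, (∀ j : Fin 6, v (E j) = w (E j)) → v = w := fun v w e => funext fun z => by
    obtain ⟨j, rfl⟩ := E.surjective z; exact e j
  -- the images of the other two signs
  obtain ⟨σ, hσ⟩ : ∃ σ, σ = E.permCongr (Equiv.swap (1 : Fin 6) 2 * Equiv.swap 2 3) := ⟨_, rfl⟩
  have hσK : pG σ ∈ K := hperm _ (by rw [hσ, Equiv.Perm.sign_permCongr]; decide)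
  have hp' : ∀ (v : ι → F) (j : Fin 6),
      app (pG σ) v (E j) = v (E ((Equiv.swap (1 : Fin 6) 2 * Equiv.swap 2 3 : Equiv.Perm (Fin 6))⁻¹ j)) := fun v j => by
    rw [app_pG, hσ]
    show v ((E.permCongr _)⁻¹ (E j)) = _
    rw [Equiv.Perm.inv_eq_iff_eq.2]
    simp
  obtain ⟨w2, hw2⟩ : ∃ w, w = app (pG σ) (app k1 (ax y)) := ⟨_, rfl⟩
  obtain ⟨w3, hw3⟩ : ∃ w, w = app (pG σ) w2 := ⟨_, rfl⟩
  have zy : app k1 (ax y) p = 0 ∧ app k1 (ax y) q = 0 :=
    ⟨mul_self_eq_zero.1 (by rw [hv, if_pos (Or.inl rfl)]), mul_self_eq_zero.1 (by rw [hv, if_pos (Or.inr rfl)])⟩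
  have uval : ∀ j, app k1 (ax x) (E j) = ![1/2, 1/2, 1/2, 1/2, 0, 0] j := fun j => by
    rw [hu]; fin_cases j <;> simp [hE, e6, m0p, m0q, m1p, m1q, m2p, m2q, m3p, m3q]
  have vval : ∀ j, app k1 (ax y) (E j) = ![1/2, 1/2, -(1/2), -(1/2), 0, 0] j := fun j => by
    fin_cases j <;> simp [hE, e6, p0, p1, p2, p3, zy]
  have w2val : ∀ j, w2 (E j) = ![1/2, -(1/2), 1/2, -(1/2), 0, 0] j := fun j => by
    rw [hw2, hp', vval]; fin_cases j <;> simp [Equiv.swap_apply_def]
  have w3val : ∀ j, w3 (E j) = ![1/2, -(1/2), -(1/2), 1/2, 0, 0] j := fun j => by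
    rw [hw3, hp', w2val]; fin_cases j <;> simp [Equiv.swap_apply_def]
  have hσu : app (pG σ) (app k1 (ax x)) = app k1 (ax x) := hext _ _ fun j => by
    rw [hp', uval, uval]; fin_cases j <;> simp [Equiv.swap_apply_def]
  have hMm := hfix _ (mul_mem (mul_mem (inv_mem hk1K) hσK) hk1K) x (by
    rw [app_mul, app_mul, hσu, app_inv_app])
  obtain ⟨kk, s, hs, hkk⟩ := mono_ax_smul hMm y
  have ek : app k1 (ax kk) = s • w2 := by
    have := congrArg (app k1) hkk
    rw [app_mul, app_mul, app_app_inv, app_smul, ← hw2] at this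
    rw [this, smul_smul, hs, one_smul]
  obtain ⟨ll, t, ht, hll⟩ := mono_ax_smul hMm kk
  obtain ⟨r, hr, el⟩ : ∃ r : F, r * r = 1 ∧ app k1 (ax ll) = r • w3 := by
    have := congrArg (app k1) hll
    rw [app_mul, app_mul, app_app_inv, app_smul, ek, app_smul, ← hw3] at this
    refine ⟨t * s, by linear_combination (t * t) * hs + ht, ?_⟩
    rw [mul_smul, this, smul_smul, ht, one_smul]
  have hneq : ∀ (a b : ι) (va vb : ι → F) (c d : F), app k1 (ax a) = c • va → app k1 (ax b) = d • vb →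
      c * c = 1 → d * d = 1 →
      (∀ e : F, e * e = 1 → ∃ j, e * va (E j) ≠ vb (E j)) → a ≠ b := by
    intro a b va vb c d ea eb hc hd h hab
    obtain ⟨j, hj⟩ := h (d * c) (by linear_combination (c * c) * hd + hc)
    apply hj
    rw [hab, eb] at ea
    have := congrFun ea (E j)
    simp only [Pi.smul_apply, smul_eq_mul] at this
    linear_combination (-d) * this + vb (E j) * hd
  have hneg : ∀ e : F, e * e = 1 → e = 1 ∨ e = -1 := fun e h => mul_self_eq_one_iff.1 h
  have dxk : x ≠ kk := hneq x kk _ _ 1 s (one_smul F _).symm ek (one_mul 1) hs fun e he => by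
    rcases hneg e he with rfl | rfl
    · exact ⟨1, by rw [uval, w2val]; simp; exact fun h => hne (by simpa using h)⟩
    · exact ⟨0, by rw [uval, w2val]; simp; exact fun h => hne (by simpa using h.symm)⟩
  have dxl : x ≠ ll := hneq x ll _ _ 1 r (one_smul F _).symm el (one_mul 1) hr fun e he => by
    rcases hneg e he with rfl | rfl
    · exact ⟨1, by rw [uval, w3val]; simp; exact fun h => hne (by simpa using h)⟩
    · exact ⟨0, by rw [uval, w3val]; simp; exact fun h => hne (by simpa using h.symm)⟩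
  have dyk : y ≠ kk := hneq y kk _ _ 1 s (one_smul F _).symm ek (one_mul 1) hs fun e he => by
    rcases hneg e he with rfl | rfl
    · exact ⟨1, by rw [vval, w2val]; simp; exact fun h => hne (by simpa using h)⟩
    · exact ⟨0, by rw [vval, w2val]; simp; exact fun h => hne (by simpa using h.symm)⟩
  have dyl : y ≠ ll := hneq y ll _ _ 1 r (one_smul F _).symm el (one_mul 1) hr fun e he => by
    rcases hneg e he with rfl | rfl
    · exact ⟨1, by rw [vval, w3val]; simp; exact fun h => hne (by simpa using h)⟩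
    · exact ⟨0, by rw [vval, w3val]; simp; exact fun h => hne (by simpa using h.symm)⟩
  have dkl : kk ≠ ll := hneq kk ll _ _ s r ek el hs hr fun e he => by
    rcases hneg e he with rfl | rfl
    · exact ⟨2, by rw [w2val, w3val]; simp; exact fun h => hne (by simpa using h)⟩
    · exact ⟨0, by rw [w2val, w3val]; simp; exact fun h => hne (by simpa using h.symm)⟩
  -- fix the signs and the places
  obtain ⟨m, hm⟩ : ∃ m, m ∈ ({x, y, kk, ll} : Finset ι)ᶜ := by
    apply Finset.Nonempty.exists_mem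
    rw [← Finset.card_pos, Finset.card_compl]
    have := Finset.card_le_four (a := x) (b := y) (c := kk) (d := ll)
    omega
  simp at hm
  obtain ⟨mx, my, mk, ml⟩ := hm
  have hBex : ∃ B : Finset ι, Even B.card ∧ x ∉ B ∧ y ∉ B ∧ (if kk ∈ B then -s else s) = 1 ∧
      (if ll ∈ B then -r else r) = 1 := by
    rcases hneg s hs with rfl | rfl <;> rcases hneg r hr with rfl | rfl
    · exact ⟨∅, by simp, by simp, by simp, by simp, by simp⟩
    · exact ⟨{ll, m}, by rw [Finset.card_pair (Ne.symm ml)]; exact even_two, by simp [dxl, Ne.symm mx],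
        by simp [dyl, Ne.symm my], by simp [dkl, Ne.symm mk], by simp⟩
    · exact ⟨{kk, m}, by rw [Finset.card_pair (Ne.symm mk)]; exact even_two, by simp [dxk, Ne.symm mx],
        by simp [dyk, Ne.symm my], by simp, by simp [Ne.symm dkl, Ne.symm ml]⟩
    · exact ⟨{kk, ll}, by rw [Finset.card_pair dkl]; exact even_two, by simp [dxk, dxl],
        by simp [dyk, dyl], by simp, by simp⟩
  obtain ⟨B, hBeven, hxB, hyB, hkB, hlB⟩ := hBex
  obtain ⟨h0, hh0⟩ : ∃ h0, h0 = k1 * dd B := ⟨_, rfl⟩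
  have e0 : app h0 (ax x) = app k1 (ax x) := by rw [hh0, app_mul, app_dd_ax, if_neg hxB]
  have e1 : app h0 (ax y) = app k1 (ax y) := by rw [hh0, app_mul, app_dd_ax, if_neg hyB]
  have e2 : app h0 (ax kk) = w2 := by
    rw [hh0, app_mul, app_dd_ax]
    split_ifs with h <;> simp only [h, if_true, if_false] at hkB
    · rw [app_neg, ek, ← neg_smul, hkB, one_smul]
    · rw [ek, hkB, one_smul]
  have e3 : app h0 (ax ll) = w3 := by
    rw [hh0, app_mul, app_dd_ax]
    split_ifs with h <;> simp only [h, if_true, if_false] at hlB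
    · rw [app_neg, el, ← neg_smul, hlB, one_smul]
    · rw [el, hlB, one_smul]
  obtain ⟨a4, ha4⟩ : ∃ a4 : Fin 4 → ι, a4 = fun i => E (Fin.castLE (by norm_num) i) := ⟨_, rfl⟩
  have ha4i : Function.Injective a4 := ha4 ▸ E.injective.comp (Fin.castLE_injective _)
  have hti : Function.Injective (![x, y, kk, ll] : Fin 4 → ι) := by
    intro i j hij
    fin_cases i <;> fin_cases j <;>
      first
        | rfl
        | exact absurd hij ‹_›
        | exact absurd hij.symm ‹_›
  obtain ⟨π, hπ, hπv⟩ := exists_even_perm (Finset.univ.image a4) (Function.extend a4 ![x, y, kk, ll] id)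
    (fun a ha b hb hab => by
      simp at ha hb
      obtain ⟨i, rfl⟩ := ha
      obtain ⟨j, rfl⟩ := hb
      rw [ha4i.extend_apply, ha4i.extend_apply] at hab
      rw [hti hab])
    (by rw [Finset.card_image_of_injective _ ha4i, hn]; simp)
  have hh : ∀ i, app (h0 * pG π) (ax (a4 i)) = app h0 (ax (![x, y, kk, ll] i)) := fun i => by
    rw [app_mul, app_pG_ax, hπv _ (Finset.mem_image_of_mem _ (Finset.mem_univ i)), ha4i.extend_apply]
  refine no_std h2 hn hdd hperm hfix E (h := h0 * pG π)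
    (mul_mem (hh0 ▸ mul_mem hk1K (hdd B hBeven)) (hperm π hπ)) (fun i j => ?_) (fun i => ?_)
  · have := hh i
    rw [ha4] at this
    rw [this]
    fin_cases i <;> fin_cases j <;> simp [e0, e1, e2, e3, uval, vval, w2val, w3val, sgn] <;> ring
  · have := hh i
    rw [ha4] at this
    rw [this]
    fin_cases i <;> simp [e0, e1, e2, e3, uval, vval, w2val, w3val]

end main

end Cfsg.Agent.Lib.OrthFrame.Six
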