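import Cfsg.Agent.Lib.Orth.Siegel
import Cfsg.Agent.Lib.OrthFrame.Basic

/-!
The orthogonal group of the sum of squares: sign changes, permutations, monomial elements.
-/

set_option autoImplicit false
set_option linter.unusedSectionVars false

namespace Cfsg.Agent.Lib.OrthFrame

open Matrix QuadraticMap Cfsg.Agent.Lib.Orth

variable {ι : Type} [Fintype ι] [DecidableEq ι] {F : Type*} [Field F]

variable (ι F) in
/-- The sum of squares. -/
noncomputable def dotQ : QuadraticForm F (ι → F) := LinearMap.BilinMap.toQuadraticMap (dotProductBilin F F)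

theorem dotQ_apply (x : ι → F) : dotQ ι F x = x ⬝ᵥ x := rfl

theorem dotQ_polar (x y : ι → F) : polar ⇑(dotQ ι F) x y = 2 * (x ⬝ᵥ y) := by
  simp only [QuadraticMap.polar, dotQ_apply, add_dotProduct, dotProduct_add, dotProduct_comm y x]
  ring

theorem dotQ_nondeg (h2 : (2 : F) ≠ 0) : (QuadraticMap.polarBilin (dotQ ι F)).Nondegenerate := by
  refine ⟨fun x hx => funext fun i => ?_, fun y hy => funext fun i => ?_⟩
  · simpa [QuadraticMap.polarBilin_apply_apply, dotQ_polar, h2] using hx (ax i)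
  · simpa [QuadraticMap.polarBilin_apply_apply, dotQ_polar, h2, ax] using hy (ax i)

variable (ι F) in
/-- The group of isometries of the sum of squares. -/
abbrev O := ↥(isometryGroup F ⇑(dotQ ι F))

theorem app_dot (h2 : (2 : F) ≠ 0) (g : O ι F) (x y : ι → F) : app g x ⬝ᵥ app g y = x ⬝ᵥ y := by
  have := polar_app g x y
  rw [dotQ_polar, dotQ_polar] at this
  exact mul_left_cancel₀ h2 this

theorem app_dot_left (h2 : (2 : F) ≠ 0) (g : O ι F) (x y : ι → F) : app g x ⬝ᵥ y = x ⬝ᵥ app g⁻¹ y := by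
  conv_lhs => rw [← app_app_inv g y]
  rw [app_dot h2]

theorem app_ax_dot (h2 : (2 : F) ≠ 0) (g : O ι F) (a b : ι) :
    app g (ax a) ⬝ᵥ app g (ax b) = if a = b then 1 else 0 := by
  rw [app_dot h2, dot_ax]
  by_cases h : a = b
  · subst h; simp [ax]
  · simp [ax, h, Pi.single_apply, Ne.symm h]

/-- An isometry as a linear equivalence. -/
noncomputable def toLin (g : O ι F) : (ι → F) ≃ₗ[F] (ι → F) where
  toFun := app g
  map_add' := app_add g
  map_smul' := app_smul g
  invFun := app g⁻¹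
  left_inv := app_inv_app g
  right_inv := app_app_inv g

theorem refl_ne_zero {v : ι → F} (hv : v ⬝ᵥ v = 1) : dotQ ι F v ≠ 0 := by
  rw [dotQ_apply, hv]; exact one_ne_zero

/-- The reflection of a unit vector. -/
noncomputable def rr (v : ι → F) (hv : v ⬝ᵥ v = 1) : O ι F := refl (dotQ ι F) v (refl_ne_zero hv)

theorem app_rr {v : ι → F} (hv : v ⬝ᵥ v = 1) (x : ι → F) : app (rr v hv) x = rf v x := by
  rw [rr, app_refl, dotQ_polar, dotQ_apply, hv, inv_one, one_mul]; rfl

theorem rr_mul_self {v : ι → F} (hv : v ⬝ᵥ v = 1) : rr v hv * rr v hv = 1 := refl_mul_self _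

theorem rr_inv {v : ι → F} (hv : v ⬝ᵥ v = 1) : (rr v hv)⁻¹ = rr v hv := refl_inv _

theorem rr_congr {v w : ι → F} (hv : v ⬝ᵥ v = 1) (hw : w ⬝ᵥ w = 1) (h : v = w) : rr v hv = rr w hw := by
  subst h; rfl

theorem app_unit (h2 : (2 : F) ≠ 0) (g : O ι F) {v : ι → F} (hv : v ⬝ᵥ v = 1) :
    app g v ⬝ᵥ app g v = 1 := by
  rw [app_dot h2, hv]

theorem conj_rr (h2 : (2 : F) ≠ 0) (g : O ι F) {v : ι → F} (hv : v ⬝ᵥ v = 1) :
    g * rr v hv * g⁻¹ = rr (app g v) (app_unit h2 g hv) := conj_refl g _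

theorem ax_unit (a : ι) : (ax a : ι → F) ⬝ᵥ ax a = 1 := by simp [ax]

/-- The sign changes on a set of coordinates, as a linear map. -/
def ddEquiv (S : Finset ι) : (ι → F) ≃ₗ[F] (ι → F) where
  toFun x i := if i ∈ S then -x i else x i
  map_add' x y := by funext i; simp only [Pi.add_apply]; split_ifs <;> ring
  map_smul' c x := by funext i; simp only [Pi.smul_apply, smul_eq_mul, RingHom.id_apply]; split_ifs <;> ring
  invFun x i := if i ∈ S then -x i else x i
  left_inv x := by funext i; dsimp only; split_ifs <;> simp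
  right_inv x := by funext i; dsimp only; split_ifs <;> simp

/-- The sign change on a set of coordinates. -/
noncomputable def dd (S : Finset ι) : O ι F := ofEquiv (dotQ ι F) (ddEquiv S) fun x => by
  simp only [dotQ_apply, dotProduct]
  refine Finset.sum_congr rfl fun i _ => ?_
  simp [ddEquiv]; split_ifs <;> ring

theorem app_dd (S : Finset ι) (x : ι → F) : app (dd S) x = fun i => if i ∈ S then -x i else x i := by
  rw [dd, app_ofEquiv]; rfl

theorem app_dd_ax (S : Finset ι) (a : ι) :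
    app (dd S : O ι F) (ax a) = if a ∈ S then -ax a else ax a := by
  rw [app_dd]
  funext i
  by_cases h : i = a
  · subst h; split_ifs <;> simp
  · split_ifs <;> simp [ax, h]

theorem app_dd_of_supp (S : Finset ι) {x : ι → F} (h : ∀ i ∈ S, x i = 0) : app (dd S) x = x := by
  rw [app_dd]; funext i
  split_ifs with hi
  · rw [h i hi, neg_zero]
  · rfl

theorem dd_mul_self (S : Finset ι) : (dd S : O ι F) * dd S = 1 := isometry_ext fun x => by
  rw [app_mul, app_one, app_dd, app_dd]; funext i; by_cases h : i ∈ S <;> simp [h]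

theorem dd_inv (S : Finset ι) : (dd S : O ι F)⁻¹ = dd S := inv_eq_of_mul_eq_one_right (dd_mul_self S)

theorem dd_mul (S T : Finset ι) : (dd S : O ι F) * dd T = dd (symmDiff S T) := isometry_ext fun x => by
  rw [app_mul, app_dd, app_dd, app_dd]; funext i
  by_cases hS : i ∈ S <;> by_cases hT : i ∈ T <;> simp [Finset.mem_symmDiff, hS, hT]

theorem dd_comm (S T : Finset ι) : (dd S : O ι F) * dd T = dd T * dd S := by
  rw [dd_mul, dd_mul, symmDiff_comm]

theorem dd_empty : (dd ∅ : O ι F) = 1 := isometry_ext fun x => by rw [app_one, app_dd]; simp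

theorem dd_univ_comm (g : O ι F) : dd Finset.univ * g = g * dd Finset.univ := isometry_ext fun x => by
  have h : ∀ y : ι → F, app (dd Finset.univ) y = -y := fun y => by rw [app_dd]; funext i; simp
  rw [app_mul, app_mul, h, h, app_neg]

theorem dd_singleton (a : ι) : (dd {a} : O ι F) = rr (ax a) (ax_unit a) := isometry_ext fun x => by
  rw [app_rr, rf_ax, app_dd]; funext i
  by_cases h : i = a
  · subst h; simp
  · simp [h]

theorem dd_pair {a b : ι} (h : a ≠ b) :
    (dd {a, b} : O ι F) = rr (ax a) (ax_unit a) * rr (ax b) (ax_unit b) := by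
  rw [← dd_singleton, ← dd_singleton, dd_mul]
  congr 1
  ext i
  simp [Finset.mem_symmDiff]
  constructor
  · rintro (rfl | rfl)
    · exact Or.inl ⟨rfl, h⟩
    · exact Or.inr ⟨rfl, Ne.symm h⟩
  · rintro (⟨h1, -⟩ | ⟨h1, -⟩) <;> simp [h1]

theorem dotQ_perm (σ : Equiv.Perm ι) (x : ι → F) :
    dotQ ι F (LinearEquiv.funCongrLeft F F σ x) = dotQ ι F x := by
  simp only [dotQ_apply, dotProduct]
  exact Equiv.sum_comp σ fun i => x i * x i

/-- The coordinate permutation as a homomorphism. -/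
noncomputable def pG : Equiv.Perm ι →* O ι F where
  toFun σ := ofEquiv (dotQ ι F) (LinearEquiv.funCongrLeft F F σ⁻¹) (dotQ_perm σ⁻¹)
  map_one' := isometry_ext fun x => by rw [app_ofEquiv, app_one]; rfl
  map_mul' σ τ := isometry_ext fun x => by
    rw [app_mul, app_ofEquiv, app_ofEquiv, app_ofEquiv, _root_.mul_inv_rev]; rfl

theorem app_pG (σ : Equiv.Perm ι) (x : ι → F) : app (pG σ) x = x ∘ ⇑σ⁻¹ := by
  show app (ofEquiv _ _ (dotQ_perm σ⁻¹)) x = _
  rw [app_ofEquiv]; rfl

theorem app_pG_ax (σ : Equiv.Perm ι) (a : ι) : app (pG σ : O ι F) (ax a) = ax (σ a) := by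
  rw [app_pG]; funext i
  by_cases h : i = σ a
  · subst h; simp [ax]
  · have : σ⁻¹ i ≠ a := fun e => h (by rw [← e]; simp)
    show (ax a : ι → F) (σ⁻¹ i) = _
    rw [ax_apply_ne this, ax_apply_ne h]

theorem pG_swap (h2 : (2 : F) ≠ 0) {a b : ι} (h : a ≠ b) :
    ∃ hv : dotQ ι F (ax a - ax b) = 2, pG (Equiv.swap a b) =
      refl (dotQ ι F) (ax a - ax b) (by rw [hv]; exact h2) := by
  have hd : dotQ ι F (ax a - ax b) = 2 := by
    rw [dotQ_apply, sub_dotProduct, dotProduct_sub, dotProduct_sub]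
    simp [ax, Pi.single_apply, h, Ne.symm h]
    norm_num
  refine ⟨hd, isometry_ext fun x => ?_⟩
  rw [app_pG, app_refl, hd, dotQ_polar, sub_dotProduct, ax_dot, ax_dot, Equiv.swap_inv,
    inv_mul_cancel_left₀ h2]
  funext i
  by_cases hi : i = a
  · subst hi; simp [ax, h]
  by_cases hi' : i = b
  · subst hi'; simp [ax, hi]
  simp [ax, hi, hi', Equiv.swap_apply_of_ne_of_ne hi hi']

/-- A signed coordinate vector. -/
def IsAx (v : ι → F) : Prop := ∃ b, v = ax b ∨ v = -ax b

theorem IsAx.neg {v : ι → F} (h : IsAx v) : IsAx (-v) := by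
  obtain ⟨b, h | h⟩ := h
  · exact ⟨b, Or.inr (by rw [h])⟩
  · exact ⟨b, Or.inl (by rw [h, neg_neg])⟩

theorem isAx_ax (b : ι) : IsAx (ax b : ι → F) := ⟨b, Or.inl rfl⟩

/-- Monomial isometries. -/
def Mono (g : O ι F) : Prop := ∀ a, IsAx (app g (ax a))

theorem Mono.app_isAx {g : O ι F} (hg : Mono g) {v : ι → F} (h : IsAx v) : IsAx (app g v) := by
  obtain ⟨b, rfl | rfl⟩ := h
  · exact hg b
  · rw [app_neg]; exact (hg b).neg

theorem Mono.mul {g h : O ι F} (hg : Mono g) (hh : Mono h) : Mono (g * h) := fun a => by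
  rw [app_mul]; exact hg.app_isAx (hh a)

theorem Mono.inv (h2 : (2 : F) ≠ 0) {g : O ι F} (hg : Mono g) : Mono g⁻¹ := by
  choose p hp using hg
  have hinj : Function.Injective p := fun a b e => by
    by_contra hne
    have h := app_ax_dot h2 g a b
    rw [if_neg hne] at h
    rcases hp a with ha | ha <;> rcases hp b with hb | hb <;> rw [ha, hb, ← e] at h <;> simp [ax] at h
  intro c
  obtain ⟨a, rfl⟩ := (Finite.injective_iff_surjective.1 hinj) c
  rcases hp a with h | h
  · rw [← h, app_inv_app]; exact isAx_ax a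
  · rw [show ax (p a) = -app g (ax a) by rw [h, neg_neg], app_neg, app_inv_app]; exact (isAx_ax a).neg

theorem mono_dd (S : Finset ι) : Mono (dd S : O ι F) := fun a => by
  rw [app_dd_ax]; split_ifs
  · exact (isAx_ax a).neg
  · exact isAx_ax a

theorem mono_pG (σ : Equiv.Perm ι) : Mono (pG σ : O ι F) := fun a => by
  rw [app_pG_ax]; exact isAx_ax _

/-- The monomial group. -/
def monoSub (h2 : (2 : F) ≠ 0) : Subgroup (O ι F) where
  carrier := {g | Mono g}
  mul_mem' := fun ha hb => Mono.mul ha hb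
  one_mem' := fun a => by rw [app_one]; exact isAx_ax a
  inv_mem' := fun h => Mono.inv h2 h

theorem mem_monoSub {h2 : (2 : F) ≠ 0} {g : O ι F} : g ∈ monoSub h2 ↔ Mono g := Iff.rfl

section finite

variable [Finite F] (h2 : (2 : F) ≠ 0) (hn : 2 ≤ Fintype.card ι)
include h2 hn

theorem rr_mul_rr_mem {v w : ι → F} (hv : v ⬝ᵥ v = 1) (hw : w ⬝ᵥ w = 1) :
    rr v hv * rr w hw ∈ Omega F ⇑(dotQ ι F) := by
  rw [mem_omega_iff h2 (dotQ_nondeg h2) hn, map_mul, map_mul, rr, rr, detSign_refl h2, detSign_refl h2,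
    spinor_refl_of_isSquare h2 _ (by rw [dotQ_apply, hv]; exact IsSquare.one),
    spinor_refl_of_isSquare h2 _ (by rw [dotQ_apply, hw]; exact IsSquare.one)]
  exact ⟨rfl, rfl⟩

theorem dd_mem {S : Finset ι} (hS : Even S.card) : (dd S : O ι F) ∈ Omega F ⇑(dotQ ι F) := by
  have key : ∀ χ : O ι F →* ℤˣ, (∀ (a : ι), χ (rr (ax a) (ax_unit a)) = -1) →
      χ (dd S) = (-1) ^ S.card := by
    intro χ hχ
    clear hS
    induction S using Finset.induction_on with
    | empty => rw [dd_empty, map_one]; rfl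
    | insert a S ha ih =>
      have : dd (insert a S) = rr (ax a) (ax_unit a) * (dd S : O ι F) := by
        rw [← dd_singleton, dd_mul]; congr 1
        ext i
        by_cases hi : i = a
        · subst hi; simp [Finset.mem_symmDiff, ha]
        · simp [Finset.mem_symmDiff, hi]
      rw [this, map_mul, hχ, ih, Finset.card_insert_of_notMem ha, pow_succ']
  rw [mem_omega_iff h2 (dotQ_nondeg h2) hn,
    key _ (fun a => by rw [rr, detSign_refl h2]),
    key _ (fun a => by rw [rr, spinor_refl_of_isSquare h2 _ (by rw [dotQ_apply, ax_unit]; exact IsSquare.one)]),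
    hS.neg_one_pow]
  exact ⟨rfl, rfl⟩

theorem pG_mem {σ : Equiv.Perm ι} (hσ : Equiv.Perm.sign σ = 1) :
    (pG σ : O ι F) ∈ Omega F ⇑(dotQ ι F) := by
  classical
  have key : ∀ (χ : O ι F →* ℤˣ) (c : ℤˣ), (∀ a b : ι, a ≠ b → χ (pG (Equiv.swap a b)) = c) →
      χ (pG σ) = 1 := by
    intro χ c hc
    have : ∀ τ : Equiv.Perm ι, χ (pG τ) = if Equiv.Perm.sign τ = 1 then 1 else c := by
      intro τ
      induction τ using Equiv.Perm.swap_induction_on with
      | one => simp
      | swap_mul τ a b hab ih =>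
        rw [map_mul, map_mul, hc a b hab, ih, map_mul, Equiv.Perm.sign_swap hab]
        rcases Int.units_eq_one_or (Equiv.Perm.sign τ) with e | e <;> simp [e, Int.units_mul_self]
    rw [this, if_pos hσ]
  rw [mem_omega_iff h2 (dotQ_nondeg h2) hn]
  constructor
  · refine key _ (-1) fun a b hab => ?_
    obtain ⟨hv, e⟩ := pG_swap (F := F) h2 hab
    rw [e, detSign_refl h2]
  · refine key _ (if IsSquare (2 : F) then -1 else 1) fun a b hab => ?_
    obtain ⟨hv, e⟩ := pG_swap (F := F) h2 hab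
    rw [e, spinor_refl h2, hv]

end finite

end Cfsg.Agent.Lib.OrthFrame
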