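import Cfsg.Agent.Lib.OrthFrame.Basic
import Cfsg.Agent.Lib.SL2.Dickson
import Cfsg.Agent.Lib.SL2.MaxCases
import Cfsg.Agent.Lib.SL2.PGLMax

/-!
Three roots spanning a non-degenerate 3-space: by Dickson's theorem either the root set is invariant
under the rotations of that space, or the inner products are of very restricted shape.
-/

set_option autoImplicit false
set_option linter.unusedSectionVars false

namespace Cfsg.Agent.Lib.OrthFrame

open Matrix Finset SL2

variable {ι : Type*} [Fintype ι] [DecidableEq ι] {F : Type*} [Field F]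

local notation "M2" => Matrix (Fin 2) (Fin 2) F

/-- Combination of three vectors. -/
def comb (x : Fin 3 → ι → F) (d : Fin 3 → F) : ι → F := ∑ i, d i • x i

/-- The trace-zero matrix with given coordinates. -/
def sl (c : Fin 3 → F) : M2 := !![c 0, c 1; c 2, -c 0]

/-- Its square. -/
def qs (c : Fin 3 → F) : F := c 0 * c 0 + c 1 * c 2

/-- The polarisation of `qs`. -/
def bs (c d : Fin 3 → F) : F := 2 * (c 0 * d 0) + c 1 * d 2 + d 1 * c 2

theorem sl_mul_add (c d : Fin 3 → F) : sl c * sl d + sl d * sl c = bs c d • (1 : M2) := by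
  ext i j
  fin_cases i <;> fin_cases j <;> simp [sl, bs, Matrix.mul_apply, Fin.sum_univ_two] <;> ring

theorem sl_mul_self (c : Fin 3 → F) : sl c * sl c = qs c • (1 : M2) := by
  ext i j
  fin_cases i <;> fin_cases j <;> simp [sl, qs, Matrix.mul_apply, Fin.sum_univ_two] <;> ring

theorem det_sl (c : Fin 3 → F) : (sl c).det = -qs c := by
  simp [sl, qs, Matrix.det_fin_two]; ring

theorem bs_eq (c d : Fin 3 → F) : bs c d = qs (c + d) - qs c - qs d := by
  simp [bs, qs]; ring

theorem sl_injective : Function.Injective (sl (F := F)) := fun c d h => by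
  funext i
  have e00 := congrFun (congrFun h 0) 0
  have e01 := congrFun (congrFun h 0) 1
  have e10 := congrFun (congrFun h 1) 0
  simp [sl] at e00 e01 e10
  fin_cases i <;> assumption

theorem comb_add (x : Fin 3 → ι → F) (d e : Fin 3 → F) : comb x (d + e) = comb x d + comb x e := by
  simp [comb, add_smul, Finset.sum_add_distrib]

theorem comb_single (x : Fin 3 → ι → F) (i : Fin 3) : comb x (Pi.single i 1) = x i := by
  rw [comb, Finset.sum_eq_single i]
  · simp
  · intro j _ hj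
    rw [Pi.single_eq_of_ne hj, zero_smul]
  · simp

theorem comb_sub_smul (x : Fin 3 → ι → F) (d e : Fin 3 → F) (k : F) :
    comb x (d - k • e) = comb x d - k • comb x e := by
  simp [comb, sub_smul, Finset.sum_sub_distrib, Finset.smul_sum, smul_smul]

/-- The Gram matrix. -/
def gram (x : Fin 3 → ι → F) : Matrix (Fin 3) (Fin 3) F := Matrix.of fun i j => x i ⬝ᵥ x j

theorem dot_comb (x : Fin 3 → ι → F) (i : Fin 3) (d : Fin 3 → F) :
    x i ⬝ᵥ comb x d = (gram x *ᵥ d) i := by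
  rw [comb, dotProduct_sum]
  simp only [gram, Matrix.mulVec, dotProduct_smul, smul_eq_mul, Matrix.of_apply]
  exact Finset.sum_congr rfl fun j _ => mul_comm _ _

theorem comb_dot (x : Fin 3 → ι → F) (d : Fin 3 → F) (y : ι → F) :
    comb x d ⬝ᵥ y = ∑ i, d i * (x i ⬝ᵥ y) := by
  simp [comb, sum_dotProduct, smul_dotProduct]

/-- Invariance of a root set under the rotations of the span of three vectors. -/
def Inv (R : Set (ι → F)) (x : Fin 3 → ι → F) : Prop :=
  ∀ u ∈ R, ∀ d d' : Fin 3 → F, (∀ i, x i ⬝ᵥ (u - comb x d) = 0) →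
    comb x d ⬝ᵥ comb x d = comb x d' ⬝ᵥ comb x d' → comb x d ⬝ᵥ comb x d ≠ 0 →
    u - comb x d + comb x d' ∈ R

/-- The possible squares. -/
def SVal (s : F) : Prop := s = 1 ∨ s = 2 ∨ s ^ 2 - 3 * s + 1 = 0

theorem exists_binary [Finite F] (h2 : (2 : F) ≠ 0) {k : F} (hk : k ≠ 0) (m : F) :
    ∃ p s : F, p * p - k * (s * s) = m := by
  have := Fintype.ofFinite F
  obtain ⟨p, s, hps⟩ := FiniteField.exists_root_sum_quadratic
    (f := Polynomial.X ^ 2 - Polynomial.C m) (g := Polynomial.C (-k) * Polynomial.X ^ 2)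
    (Polynomial.degree_X_pow_sub_C (by norm_num) m)
    (Polynomial.degree_C_mul_X_pow 2 (neg_ne_zero.2 hk))
    (FiniteField.odd_card_of_char_ne_two fun h => by
      have := ringChar.of_eq h
      exact h2 (CharTwo.two_eq_zero))
  refine ⟨p, s, ?_⟩
  simp at hps
  linear_combination hps

theorem exists_model [Finite F] (h2 : (2 : F) ≠ 0) (a b c : F)
    (hdet : (1 - a * a) * (1 - c * c) - (b - a * c) * (b - a * c) ≠ 0) :
    ∃ (κ : F) (P : Matrix (Fin 3) (Fin 3) F), κ ≠ 0 ∧ ∀ d : Fin 3 → F, qs (P *ᵥ d) =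
      κ * (d 0 * d 0 + d 1 * d 1 + d 2 * d 2 + 2 * a * (d 0 * d 1) + 2 * c * (d 0 * d 2) +
        2 * b * (d 1 * d 2)) := by
  haveI := Fintype.ofFinite F
  obtain ⟨e, he⟩ : ∃ e, e = b - a * c := ⟨_, rfl⟩
  obtain ⟨κ, hκ⟩ : ∃ κ, κ = -((1 - a * a) * (1 - c * c) - e * e) := ⟨_, rfl⟩
  have hκ0 : κ ≠ 0 := by rw [hκ, he]; exact neg_ne_zero.2 hdet
  suffices h : ∃ p s p' s', p * p - κ * (s * s) = κ * (1 - a * a) ∧
      p' * p' - κ * (s' * s') = κ * (1 - c * c) ∧ p * p' - κ * (s * s') = κ * e by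
    obtain ⟨p, s, p', s', h1, h3, h4⟩ := h
    refine ⟨κ, !![0, p, p'; κ, a * κ - κ * s, c * κ - κ * s'; 1, a + s, c + s'], hκ0, fun d => ?_⟩
    simp [qs, Matrix.mulVec, dotProduct, Fin.sum_univ_three]
    subst he
    linear_combination (d 1 * d 1) * h1 + (d 2 * d 2) * h3 + (2 * (d 1 * d 2)) * h4
  by_cases ha : 1 - a * a = 0
  · have hk : κ = e * e := by rw [hκ, ha]; ring
    have he0 : e ≠ 0 := fun h => hκ0 (by rw [hk, h, mul_zero])
    refine ⟨e, 1, (κ + 1 - c * c) / 2, (1 - c * c - κ) / (2 * e), ?_, ?_, ?_⟩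
    · rw [ha, hk]; ring
    · rw [hk]; field_simp; ring
    · rw [hk]; field_simp; ring
  · obtain ⟨m, hm⟩ : ∃ m, m = κ * (1 - a * a) := ⟨_, rfl⟩
    have hm0 : m ≠ 0 := hm ▸ mul_ne_zero hκ0 ha
    obtain ⟨p, s, hps⟩ := exists_binary h2 hκ0 m
    have key : ((κ * e / m) ^ 2 - κ * (κ / m) ^ 2) * m = κ * (1 - c * c) := by
      field_simp
      rw [hm]
      linear_combination -κ * hκ
    have key' : κ * e / m * m = κ * e := div_mul_cancel₀ _ hm0
    refine ⟨p, s, κ * e / m * p + κ / m * (κ * s), κ * e / m * s + κ / m * p, by rw [hps, hm], ?_, ?_⟩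
    · linear_combination key + ((κ * e / m) ^ 2 - κ * (κ / m) ^ 2) * hps
    · linear_combination key' + (κ * e / m) * hps

theorem fricke_sl (A B : M2) :
    (A * B * A.adjugate * B.adjugate).trace = A.trace ^ 2 * B.det + B.trace ^ 2 * A.det +
      (A * B).trace ^ 2 - A.trace * B.trace * (A * B).trace - 2 * (A.det * B.det) := by
  simp [Matrix.trace_fin_two, Matrix.det_fin_two, Matrix.adjugate_fin_two, Matrix.mul_apply,
    Fin.sum_univ_two]
  ring

theorem trace_two_of_fix {C : M2} (hdet : C.det = 1) {v : Fin 2 → F} (hv : v ≠ 0) (h : C *ᵥ v = v) :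
    C.trace = 2 := by
  have h0 : (C - 1).det = 0 :=
    Matrix.exists_mulVec_eq_zero_iff.1 ⟨v, hv, by rw [Matrix.sub_mulVec, h, Matrix.one_mulVec, sub_self]⟩
  simp [Matrix.det_fin_two] at h0 hdet
  rw [Matrix.trace_fin_two]
  linear_combination hdet - h0

theorem eigen_of_normalize {g n : SLtwo F} (hg : g ∉ Subgroup.center (SLtwo F)) (ht : tr g = 2)
    (hn : n * g * n⁻¹ ∈ Subgroup.centralizer ({g} : Set (SLtwo F))) :
    ∀ v : Fin 2 → F, v ≠ 0 → (g : M2) *ᵥ v = v → ∃ μ : F, (n : M2) *ᵥ v = μ • v := by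
  intro v hv hgv
  obtain ⟨N, hN⟩ : ∃ N : M2, N = (g : M2) - 1 := ⟨_, rfl⟩
  have hNN : N * N = 0 := by
    rw [hN, sub_mul, mul_sub, mul_sub, cayley_hamilton, ht, mul_one, one_mul, two_smul, mul_one]
    abel
  have hNv : N *ᵥ v = 0 := by rw [hN, Matrix.sub_mulVec, hgv, Matrix.one_mulVec, sub_self]
  have hN0 : N ≠ 0 := fun h => hg (by
    rw [Subgroup.mem_center_iff]
    intro x
    have e : g = 1 := Subtype.ext (sub_eq_zero.1 (hN ▸ h))
    simp [e])
  have hker : ∀ w, N *ᵥ w = 0 → ∃ μ : F, w = μ • v := by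
    intro w hw
    by_contra hne
    push Not at hne
    apply hN0
    have hli : LinearIndependent F ![v, w] := by
      rw [LinearIndependent.pair_iff' hv]
      exact fun μ e => hne μ e.symm
    have hsp := hli.span_eq_top_of_card_eq_finrank (by simp)
    apply Matrix.ext_of_mulVec_single
    intro i
    have hm : (Pi.single i 1 : Fin 2 → F) ∈ Submodule.span F (Set.range ![v, w]) := hsp ▸ Submodule.mem_top
    rw [Submodule.mem_span_range_iff_exists_fun] at hm
    obtain ⟨co, hco⟩ := hm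
    rw [← hco]
    simp [Fin.sum_univ_two, Matrix.mulVec_add, Matrix.mulVec_smul, hNv, hw]
  obtain ⟨N', hN'⟩ : ∃ N' : M2, N' = (n : M2) * N * ((n⁻¹ : SLtwo F) : M2) := ⟨_, rfl⟩
  have hinv : ((n⁻¹ : SLtwo F) : M2) * (n : M2) = 1 := by
    rw [← Matrix.SpecialLinearGroup.coe_mul, inv_mul_cancel, Matrix.SpecialLinearGroup.coe_one]
  have hinv' : (n : M2) * ((n⁻¹ : SLtwo F) : M2) = 1 := by
    rw [← Matrix.SpecialLinearGroup.coe_mul, mul_inv_cancel, Matrix.SpecialLinearGroup.coe_one]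
  have hcomm : N * N' = N' * N := by
    have e : N' = ((n * g * n⁻¹ : SLtwo F) : M2) - 1 := by
      rw [hN', hN, mul_sub, sub_mul, mul_one, hinv', Matrix.SpecialLinearGroup.coe_mul,
        Matrix.SpecialLinearGroup.coe_mul]
    have hc : ((n * g * n⁻¹ : SLtwo F) : M2) * (g : M2) = (g : M2) * ((n * g * n⁻¹ : SLtwo F) : M2) :=
      SL2.mem_centralizer_singleton_iff.1 hn
    rw [e, hN]
    simp only [sub_mul, mul_sub, mul_one, one_mul, hc]
    abel
  have hw : N' *ᵥ ((n : M2) *ᵥ v) = 0 := by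
    rw [hN', Matrix.mulVec_mulVec, mul_assoc, hinv, mul_one, ← Matrix.mulVec_mulVec, hNv,
      Matrix.mulVec_zero]
  have hNw : N' *ᵥ (N *ᵥ ((n : M2) *ᵥ v)) = 0 := by
    rw [Matrix.mulVec_mulVec, ← hcomm, ← Matrix.mulVec_mulVec, hw, Matrix.mulVec_zero]
  -- the kernel of `N'` is the image of the line
  have hker' : ∀ w, N' *ᵥ w = 0 → ∃ μ : F, w = μ • ((n : M2) *ᵥ v) := by
    intro w h
    obtain ⟨μ, hμ⟩ := hker (((n⁻¹ : SLtwo F) : M2) *ᵥ w) (by
      have h' := congrArg (((n⁻¹ : SLtwo F) : M2) *ᵥ ·) h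
      simp only [Matrix.mulVec_zero, Matrix.mulVec_mulVec, hN', ← mul_assoc, hinv, one_mul] at h'
      rwa [← Matrix.mulVec_mulVec] at h')
    refine ⟨μ, ?_⟩
    rw [← Matrix.mulVec_smul, ← hμ, Matrix.mulVec_mulVec, hinv', Matrix.one_mulVec]
  obtain ⟨l, hl⟩ := hker' _ hNw
  have h0 : (l * l) • ((n : M2) *ᵥ v) = 0 := by
    rw [mul_smul, ← hl, ← Matrix.mulVec_smul, ← hl, Matrix.mulVec_mulVec, hNN, Matrix.zero_mulVec]
  have hnv : (n : M2) *ᵥ v ≠ 0 := fun h => hv (by
    have h' := congrArg (((n⁻¹ : SLtwo F) : M2) *ᵥ ·) h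
    simp only [Matrix.mulVec_mulVec, hinv, Matrix.one_mulVec, Matrix.mulVec_zero] at h'
    exact h')
  have hl0 : l = 0 := mul_self_eq_zero.1 ((smul_eq_zero.1 h0).resolve_right hnv)
  exact hker _ (by rw [hl, hl0, zero_smul])

/-- In a subgroup with an element of non-zero trace `t`, a small order gives a value of `t²`. -/
theorem sval_of_pow {g : SLtwo F} (hg : g ∉ Subgroup.center (SLtwo F)) (ht : tr g ≠ 0) {k : ℕ}
    (hk : k = 1 ∨ k = 2 ∨ k = 3 ∨ k = 4 ∨ k = 5) (h : g ^ k ∈ Subgroup.center (SLtwo F)) :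
    SVal (tr g ^ 2) := by
  have key : ∀ u w : F, ((g ^ k : SLtwo F) : M2) = u • (g : M2) - w • (1 : M2) → u = 0 := by
    intro u w e
    by_contra hu
    obtain ⟨h01, h10, h00⟩ := (mem_center_iff_entries _).1 h
    have e01 := congrFun (congrFun e 0) 1
    have e10 := congrFun (congrFun e 1) 0
    have e00 := congrFun (congrFun e 0) 0
    have e11 := congrFun (congrFun e 1) 1
    simp only [Matrix.sub_apply, Matrix.smul_apply, smul_eq_mul, Matrix.one_apply_eq, mul_one,
      Matrix.one_apply_ne (show (0 : Fin 2) ≠ 1 by decide), Matrix.one_apply_ne (show (1 : Fin 2) ≠ 0 by decide),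
      mul_zero, sub_zero] at e01 e10 e00 e11
    refine hg ((mem_center_iff_entries _).2 ⟨?_, ?_, ?_⟩)
    · rw [h01] at e01; exact (mul_eq_zero.1 e01.symm).resolve_left hu
    · rw [h10] at e10; exact (mul_eq_zero.1 e10.symm).resolve_left hu
    · exact mul_left_cancel₀ hu (by linear_combination h00 - e00 + e11)
  have hpow : ∀ m (u w : F), ((g ^ m : SLtwo F) : M2) = u • (g : M2) - w • (1 : M2) →
      ((g ^ (m + 1) : SLtwo F) : M2) = (u * tr g - w) • (g : M2) - u • (1 : M2) := by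
    intro m u w e
    rw [pow_succ, Matrix.SpecialLinearGroup.coe_mul, e, sub_mul, smul_mul_assoc, smul_mul_assoc,
      cayley_hamilton, one_mul]
    module
  have p1 : ((g ^ 1 : SLtwo F) : M2) = (1 : F) • (g : M2) - (0 : F) • (1 : M2) := by simp
  have p2 := hpow 1 _ _ p1
  have p3 := hpow 2 _ _ p2
  have p4 := hpow 3 _ _ p3
  have p5 := hpow 4 _ _ p4
  rcases hk with rfl | rfl | rfl | rfl | rfl
  · exact absurd (key _ _ p1) one_ne_zero
  · exact absurd (by linear_combination key _ _ p2) ht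
  · exact Or.inl (by linear_combination key _ _ p3)
  · exact Or.inr (Or.inl (sub_eq_zero.1 ((mul_eq_zero.1 (show tr g * (tr g ^ 2 - 2) = 0 by
      linear_combination key _ _ p4)).resolve_left ht)))
  · exact Or.inr (Or.inr (by linear_combination key _ _ p5))

theorem small_pow_four : ∀ σ : Equiv.Perm (Fin 4), σ ^ 1 = 1 ∨ σ ^ 2 = 1 ∨ σ ^ 3 = 1 ∨ σ ^ 4 = 1 ∨ σ ^ 5 = 1 := by
  decide +kernel

theorem small_pow_five : ∀ σ : Equiv.Perm (Fin 5), Equiv.Perm.sign σ = 1 →
    σ ^ 1 = 1 ∨ σ ^ 2 = 1 ∨ σ ^ 3 = 1 ∨ σ ^ 4 = 1 ∨ σ ^ 5 = 1 := by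
  decide +kernel

theorem exists_small_pow {H : Type*} [Group H]
    (h : Nonempty (H ≃* alternatingGroup (Fin 4)) ∨ Nonempty (H ≃* Equiv.Perm (Fin 4)) ∨
      Nonempty (H ≃* alternatingGroup (Fin 5))) (x : H) :
    ∃ k, (k = 1 ∨ k = 2 ∨ k = 3 ∨ k = 4 ∨ k = 5) ∧ x ^ k = 1 := by
  rcases h with ⟨⟨i⟩⟩ | ⟨⟨i⟩⟩ | ⟨⟨i⟩⟩
  · have := small_pow_four (i x : Equiv.Perm (Fin 4))
    simp only [← Subgroup.coe_pow, ← Subgroup.coe_one (alternatingGroup (Fin 4)), SetLike.coe_eq_coe, ← map_pow,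
      MulEquiv.map_eq_one_iff] at this
    aesop
  · have := small_pow_four (i x)
    simp only [← map_pow, MulEquiv.map_eq_one_iff] at this
    aesop
  · have := small_pow_five (i x : Equiv.Perm (Fin 5)) (i x).2
    simp only [← Subgroup.coe_pow, ← Subgroup.coe_one (alternatingGroup (Fin 5)), SetLike.coe_eq_coe, ← map_pow,
      MulEquiv.map_eq_one_iff] at this
    aesop

theorem subfield_eq_top_of_prime [Fintype F] (hp : (Fintype.card F).Prime) (K : Subfield F) : K = ⊤ := by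
  haveI : Fact (Fintype.card F).Prime := ⟨hp⟩
  haveI : CharP F (Fintype.card F) := charP_of_card_eq_prime rfl
  refine eq_top_iff.2 fun x _ => ?_
  obtain ⟨z, rfl⟩ := ((Fintype.bijective_iff_injective_and_card (ZMod.castHom dvd_rfl F)).2
    ⟨RingHom.injective _, ZMod.card _⟩).2 x
  rw [← ZMod.natCast_zmod_val z, map_natCast]
  exact natCast_mem K _

variable [Fintype F]

theorem dickson_split (hp : (Fintype.card F).Prime) (hodd : Odd (Fintype.card F))
    (H : Subgroup (PSLtwo F)) :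
    H = ⊥ ∨ H = ⊤ ∨ (∀ x ∈ H, ∃ k, (k = 1 ∨ k = 2 ∨ k = 3 ∨ k = 4 ∨ k = 5) ∧ x ^ k = 1) ∨
      (∃ A, IsSemiMember H A ∧ normIn H A = H) ∨
      ∃ x, IsUnip x ∧ x ≠ 1 ∧ H ≤ Subgroup.normalizer ((torus x : Subgroup (PSLtwo F)) : Set (PSLtwo F)) := by
  haveI : Fact (Fintype.card F).Prime := ⟨hp⟩
  haveI : CharP F (Fintype.card F) := charP_of_card_eq_prime rfl
  rcases dickson (Fintype.card F) H with h | ⟨A, hA, hN, -⟩ | h | h | ⟨K, δ, -, h⟩
  · exact Or.inl h
  · exact Or.inr (Or.inr (Or.inr (Or.inl ⟨A, hA, hN⟩)))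
  · exact Or.inr (Or.inr (Or.inr (Or.inr h)))
  · refine Or.inr (Or.inr (Or.inl fun x hx => ?_))
    obtain ⟨k, hk, e⟩ := exists_small_pow h ⟨x, hx⟩
    exact ⟨k, hk, by simpa using congrArg Subtype.val e⟩
  · refine Or.inr (Or.inl (Subgroup.eq_top_of_card_eq _ ?_))
    have hK : Nat.card K = Fintype.card F := by
      rw [subfield_eq_top_of_prime hp K]
      exact (Nat.card_congr (Equiv.Set.univ F)).trans Nat.card_eq_fintype_card
    have hH : Nat.card (H.map (Matrix.ProjectiveSpecialLinearGroup.toPGL (n := Fin 2) (R := F))) = Nat.card H :=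
      Subgroup.card_map_of_injective Matrix.ProjectiveSpecialLinearGroup.toPGL_injective
    have hle := Subgroup.card_le_card_group H
    have h2 := card_PSLtwo_odd (F := F) hodd
    rcases h with h | h <;>
      rw [h, Subgroup.card_map_of_injective (MulAut.conj δ).injective] at hH
    · exfalso
      rw [card_glMap_range', hK] at hH
      have : 0 < Nat.card (PSLtwo F) := Nat.card_pos
      omega
    · rw [card_slMap_range, hK] at hH
      rw [← hH, card_PSL]

theorem exists_conj (h2 : (2 : F) ≠ 0) {c d : Fin 3 → F} (hq : qs c = qs d) (hc : qs c ≠ 0) :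
    ∃ M : SLtwo F, (M : M2) * sl c = sl d * (M : M2) := by
  have hX : ∀ c : Fin 3 → F, qs c ≠ 0 → ∃ X : M2, X.det ≠ 0 ∧ sl c * X = X * !![0, qs c; 1, 0] := by
    intro c hc
    obtain ⟨v, w, hvw⟩ : ∃ v w : F, v * (c 2 * v + -c 0 * w) - w * (c 0 * v + c 1 * w) ≠ 0 := by
      by_contra hh
      push Not at hh
      have h10 := hh 1 0
      have h01 := hh 0 1
      have h11 := hh 1 1
      apply hc
      have e2 : c 2 = 0 := by linear_combination h10
      have e1 : c 1 = 0 := by linear_combination -h01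
      have e0 : c 0 = 0 := (mul_eq_zero.1 (show (2 : F) * c 0 = 0 by linear_combination -h11 + e2 - e1)).resolve_left h2
      simp [qs, e0, e1]
    refine ⟨!![v, c 0 * v + c 1 * w; w, c 2 * v + -c 0 * w], by
      rw [Matrix.det_fin_two_of]; intro h; exact hvw (by linear_combination h), ?_⟩
    ext i j
    fin_cases i <;> fin_cases j <;> simp [sl, qs, Matrix.mul_apply, Fin.sum_univ_two] <;> ring
  obtain ⟨X, hX0, hXc⟩ := hX c hc
  obtain ⟨Y, hY0, hYd⟩ := hX d (hq ▸ hc)
  obtain ⟨M0, hM0⟩ : ∃ M0 : M2, M0 = Y * X.adjugate := ⟨_, rfl⟩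
  have hM0d : M0.det ≠ 0 := by
    rw [hM0, Matrix.det_mul, Matrix.det_adjugate]
    exact mul_ne_zero hY0 (pow_ne_zero _ hX0)
  have hrel : M0 * sl c = sl d * M0 := by
    have h1 : X.adjugate * sl c * X = X.det • !![0, qs c; 1, 0] := by
      rw [mul_assoc, hXc, ← mul_assoc, Matrix.adjugate_mul, smul_mul_assoc, one_mul]
    have h3 : M0 * sl c * X = sl d * M0 * X := by
      rw [hM0, mul_assoc Y, mul_assoc Y, h1, Matrix.mul_smul, hq, ← hYd, mul_assoc (sl d), mul_assoc Y,
        Matrix.adjugate_mul, Matrix.mul_smul, Matrix.mul_smul, mul_one]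
    exact (Matrix.isUnit_iff_isUnit_det X).2 (isUnit_iff_ne_zero.2 hX0) |>.mul_right_cancel h3
  -- adjust the determinant inside the centraliser
  obtain ⟨α, β, hαβ⟩ := exists_binary h2 hc M0.det⁻¹
  let Z : M2 := α • (1 : M2) + β • sl c
  have hZdet : Z.det = α * α - qs c * (β * β) := by
    simp [Z, sl, qs, Matrix.det_fin_two]; ring
  have hdet : (M0 * Z).det = 1 := by
    rw [Matrix.det_mul, hZdet, hαβ, mul_inv_cancel₀ hM0d]
  refine ⟨⟨M0 * Z, hdet⟩, ?_⟩
  show M0 * Z * sl c = sl d * (M0 * Z)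
  have hZc : Z * sl c = sl c * Z := by simp [Z, add_mul, mul_add]
  rw [mul_assoc, hZc, ← mul_assoc, hrel, mul_assoc]

section Main

variable {R : Set (ι → F)} (x : Fin 3 → ι → F) (P : Matrix (Fin 3) (Fin 3) F)

/-- `M` moves roots to roots along the model `P`. -/
def Moves (R : Set (ι → F)) (M : SLtwo F) : Prop :=
  ∀ u ∈ R, ∀ d d' : Fin 3 → F, (∀ i, x i ⬝ᵥ (u - comb x d) = 0) →
    (M : M2) * sl (P *ᵥ d) = sl (P *ᵥ d') * (M : M2) → u - comb x d + comb x d' ∈ R

end Main

/-- The test: rotations of a three-space of roots or small inner products. -/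
theorem test {R : Set (ι → F)} (hR : RootSys R) (hp : (Fintype.card F).Prime)
    (hodd : Odd (Fintype.card F)) {x y z : ι → F} (hx : x ∈ R) (hy : y ∈ R) (hz : z ∈ R)
    (hxy : x ⬝ᵥ y ≠ 0) (hyz : y ⬝ᵥ z ≠ 0)
    (hdet : (1 - (x ⬝ᵥ y) * (x ⬝ᵥ y)) * (1 - (x ⬝ᵥ z) * (x ⬝ᵥ z)) -
      (y ⬝ᵥ z - (x ⬝ᵥ y) * (x ⬝ᵥ z)) * (y ⬝ᵥ z - (x ⬝ᵥ y) * (x ⬝ᵥ z)) ≠ 0) :
    Inv R ![x, y, z] ∨ SVal ((2 * (x ⬝ᵥ y)) ^ 2) := by
  have h2 : (2 : F) ≠ 0 := fun h => by
    haveI : CharP F 2 := CharTwo.of_one_ne_zero_of_two_eq_zero one_ne_zero h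
    have := FiniteField.even_card_of_char_two (F := F) (ringChar.eq F 2)
    rw [Nat.odd_iff] at hodd
    omega
  set X : Fin 3 → ι → F := ![x, y, z] with hX
  obtain ⟨κ, P, hκ, hq⟩ := exists_model h2 _ _ _ hdet
  have hnorm : ∀ d, qs (P *ᵥ d) = κ * (comb X d ⬝ᵥ comb X d) := fun d => by
    rw [hq]
    simp only [comb, Fin.sum_univ_three, add_dotProduct, dotProduct_add, smul_dotProduct, dotProduct_smul,
      smul_eq_mul, hX]
    simp [hR.unit x hx, hR.unit y hy, hR.unit z hz, dotProduct_comm y x, dotProduct_comm z x, dotProduct_comm z y]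
    left
    ring
  have hpol : ∀ d e, bs (P *ᵥ d) (P *ᵥ e) = 2 * κ * (comb X d ⬝ᵥ comb X e) := fun d e => by
    rw [bs_eq, ← Matrix.mulVec_add, hnorm, hnorm, hnorm, comb_add]
    simp only [add_dotProduct, dotProduct_add, dotProduct_comm (comb X e) (comb X d)]
    ring
  have hgram : ∀ d, gram X *ᵥ d = 0 → d = 0 := fun d hd => by
    refine Matrix.eq_zero_of_mulVec_eq_zero ?_ hd
    intro h0
    apply hdet
    rw [← h0]
    simp [gram, Matrix.det_fin_three, hX, hR.unit x hx, hR.unit y hy, hR.unit z hz,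
      dotProduct_comm y x, dotProduct_comm z x, dotProduct_comm z y]
    ring
  have hPinj : Function.Injective (P *ᵥ ·) := fun d e h => by
    refine sub_eq_zero.1 (hgram _ (funext fun i => ?_))
    have h' : P *ᵥ (d - e) = 0 := by rw [Matrix.mulVec_sub]; exact sub_eq_zero.2 h
    have := hpol (Pi.single i 1) (d - e)
    rw [h'] at this
    simp [bs] at this
    rcases this with h1 | h1
    · exact absurd h1 (by simp [h2, hκ])
    · rw [← dot_comb]
      have e' : comb X (Pi.single i 1) = X i := comb_single X i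
      rwa [e'] at h1
  have hPsur : Function.Surjective (P *ᵥ ·) :=
    (Matrix.mulVec_surjective_iff_isUnit).2 ((Matrix.mulVec_injective_iff_isUnit).1 hPinj)
  -- the group of moves
  let G : Subgroup (SLtwo F) :=
    { carrier := {M | Moves X P R M ∧ Moves X P R M⁻¹}
      one_mem' := by
        have h1 : Moves X P R (1 : SLtwo F) := fun u hu d d' _ e => by
          simp only [Matrix.SpecialLinearGroup.coe_one, one_mul, mul_one] at e
          rw [← hPinj (sl_injective e)]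
          simpa using hu
        exact ⟨h1, by rw [inv_one]; exact h1⟩
      mul_mem' := by
        have hm : ∀ M N, Moves X P R M → Moves X P R N → Moves X P R (M * N) := by
          intro M N hM hN u hu d d' ho e
          obtain ⟨Y, hY⟩ : ∃ Y : M2, Y = (N : M2) * sl (P *ᵥ d) * ((N⁻¹ : SLtwo F) : M2) := ⟨_, rfl⟩
          have hiN : ((N⁻¹ : SLtwo F) : M2) * (N : M2) = 1 := by
            rw [← Matrix.SpecialLinearGroup.coe_mul, inv_mul_cancel, Matrix.SpecialLinearGroup.coe_one]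
          have htrY : Y.trace = 0 := by
            rw [hY, Matrix.trace_mul_cycle, hiN, one_mul, Matrix.trace_fin_two]
            simp [sl]
          obtain ⟨d'', hd''⟩ := hPsur ![Y 0 0, Y 0 1, Y 1 0]
          have hY' : sl (P *ᵥ d'') = Y := by
            simp only at hd''
            rw [hd'']
            rw [Matrix.trace_fin_two] at htrY
            ext i j
            fin_cases i <;> fin_cases j <;> simp [sl]
            linear_combination -htrY
          have e1 : (N : M2) * sl (P *ᵥ d) = sl (P *ᵥ d'') * (N : M2) := by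
            rw [hY', hY, mul_assoc, hiN, mul_one]
          have hu1 := hN u hu d d'' ho e1
          have hu2 := hM _ hu1 d'' d' (fun i => by rw [add_sub_cancel_right]; exact ho i) (by
            rw [Matrix.SpecialLinearGroup.coe_mul] at e
            have hiN' : (N : M2) * ((N⁻¹ : SLtwo F) : M2) = 1 := by
              rw [← Matrix.SpecialLinearGroup.coe_mul, mul_inv_cancel, Matrix.SpecialLinearGroup.coe_one]
            have := congrArg (· * ((N⁻¹ : SLtwo F) : M2)) e
            simp only [mul_assoc, hiN', mul_one] at this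
            rw [hY', hY]
            simpa only [mul_assoc] using this)
          simpa using hu2
        intro M N hM hN
        exact ⟨hm M N hM.1 hN.1, by rw [_root_.mul_inv_rev]; exact hm _ _ hN.2 hM.2⟩
      inv_mem' := fun {M} hM => ⟨hM.2, by rw [inv_inv]; exact hM.1⟩ }
  have hneg : (-1 : SLtwo F) ∈ G := by
    have h1 : Moves X P R (-1 : SLtwo F) := fun u hu d d' _ e => by
      simp only [Matrix.SpecialLinearGroup.coe_neg, Matrix.SpecialLinearGroup.coe_one, neg_mul, one_mul,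
        mul_neg, mul_one, neg_inj] at e
      rw [← hPinj (sl_injective e)]
      simpa using hu
    refine ⟨h1, ?_⟩
    rw [show (-1 : SLtwo F)⁻¹ = -1 from inv_eq_of_mul_eq_one_right (by simp)]
    exact h1
  have hgen : ∀ e f : Fin 3 → F, comb X e ∈ R → comb X f ∈ R → ∀ M : SLtwo F,
      (M : M2) = κ⁻¹ • (sl (P *ᵥ e) * sl (P *ᵥ f)) → Moves X P R M := by
    intro e f heR hfR M hM u hu d d' ho hrel
    have hsq : ∀ w, comb X w ∈ R → sl (P *ᵥ w) * sl (P *ᵥ w) = κ • (1 : M2) := fun w hw => by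
      rw [sl_mul_self, hnorm, hR.unit _ hw, mul_one]
    have hstep : ∀ w, comb X w ∈ R → ∀ d,
        sl (P *ᵥ w) * sl (P *ᵥ d) = -(sl (P *ᵥ (d - (2 * (comb X w ⬝ᵥ comb X d)) • w)) * sl (P *ᵥ w)) := by
      intro w hw d
      have hlin : sl (P *ᵥ (d - (2 * (comb X w ⬝ᵥ comb X d)) • w)) =
          sl (P *ᵥ d) - (2 * (comb X w ⬝ᵥ comb X d)) • sl (P *ᵥ w) := by
        rw [Matrix.mulVec_sub, Matrix.mulVec_smul]
        ext i j
        fin_cases i <;> fin_cases j <;> simp [sl] <;> ring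
      rw [hlin, sub_mul, smul_mul_assoc, hsq w hw, eq_neg_iff_add_eq_zero, ← add_sub_assoc, sl_mul_add,
        hpol, smul_smul, sub_eq_zero]
      congr 1
      ring
    obtain ⟨d1, hd1⟩ : ∃ d1, d1 = d - (2 * (comb X f ⬝ᵥ comb X d)) • f := ⟨_, rfl⟩
    obtain ⟨d2, hd2⟩ : ∃ d2, d2 = d1 - (2 * (comb X e ⬝ᵥ comb X d1)) • e := ⟨_, rfl⟩
    have hrel2 : (M : M2) * sl (P *ᵥ d) = sl (P *ᵥ d2) * (M : M2) := by
      rw [hM, smul_mul_assoc, mul_smul_comm, mul_assoc, hstep f hfR d, ← hd1, mul_neg, ← mul_assoc, hstep e heR d1, ← hd2,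
        neg_mul, neg_neg, mul_assoc]
    have hd' : d' = d2 := by
      refine hPinj (sl_injective ?_)
      have h := hrel.symm.trans hrel2
      have hu' : IsUnit (M : M2) := (Matrix.isUnit_iff_isUnit_det _).2 (by simp)
      exact hu'.mul_right_cancel h
    subst hd'
    have hperp : ∀ w, comb X w ⬝ᵥ (u - comb X d) = 0 := fun w => by
      rw [comb_dot]; simp [ho]
    have e1 : rf (comb X f) u = u - comb X d + comb X d1 := by
      have := hperp f
      rw [dotProduct_sub, sub_eq_zero] at this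
      rw [rf, this, hd1, comb_sub_smul]
      abel
    have e2 : rf (comb X e) (rf (comb X f) u) = u - comb X d + comb X d' := by
      have he' : comb X e ⬝ᵥ rf (comb X f) u = comb X e ⬝ᵥ comb X d1 := by
        rw [e1, dotProduct_add, hperp e, zero_add]
      rw [rf, he', e1, hd2, comb_sub_smul]
      abel
    rw [← e2]
    exact hR.refl _ heR _ (hR.refl _ hfR _ hu)
  have hcomb : ∀ i, comb X (Pi.single i 1) = X i := fun i => comb_single X i
  have hXR : ∀ i, X i ∈ R := fun i => by fin_cases i <;> simp [hX, hx, hy, hz]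
  let A : Fin 3 → M2 := fun i => sl (P *ᵥ Pi.single i 1)
  have hAA : ∀ i, A i * A i = κ • (1 : M2) := fun i => by
    simp only [A]
    rw [sl_mul_self, hnorm, hcomb, hR.unit _ (hXR i), mul_one]
  have hAdet : ∀ i, (A i).det = -κ := fun i => by
    simp only [A]
    rw [det_sl, hnorm, hcomb, hR.unit _ (hXR i), mul_one]
  have hAtr : ∀ i l, (A i * A l).trace = 2 * κ * (X i ⬝ᵥ X l) := fun i l => by
    have e := congrArg Matrix.trace (sl_mul_add (P *ᵥ Pi.single i (1 : F)) (P *ᵥ Pi.single l 1))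
    rw [Matrix.trace_add, Matrix.trace_mul_comm (sl (P *ᵥ Pi.single l (1 : F))), hpol, hcomb, hcomb,
      Matrix.trace_smul, Matrix.trace_one, Fintype.card_fin, smul_eq_mul] at e
    refine mul_left_cancel₀ h2 ?_
    simp only [A]
    push_cast at e
    linear_combination e
  have hex : ∀ i l, ∃ M : SLtwo F, (M : M2) = κ⁻¹ • (A i * A l) ∧ M ∈ G := by
    intro i l
    have hdet1 : (κ⁻¹ • (A i * A l)).det = 1 := by
      rw [Matrix.det_smul, Matrix.det_mul, hAdet, hAdet, Fintype.card_fin]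
      field_simp
    refine ⟨⟨_, hdet1⟩, rfl, hgen _ _ (by rw [hcomb]; exact hXR i) (by rw [hcomb]; exact hXR l) _ rfl,
      hgen (Pi.single l 1) (Pi.single i 1) (by rw [hcomb]; exact hXR l) (by rw [hcomb]; exact hXR i) _ ?_⟩
    refine (Matrix.SpecialLinearGroup.coe_inv _).trans ?_
    show (κ⁻¹ • (A i * A l)).adjugate = κ⁻¹ • (A l * A i)
    have hadj : ∀ m, (A m).adjugate = -A m := fun m => by
      ext a b; fin_cases a <;> fin_cases b <;> simp [A, sl, Matrix.adjugate_fin_two]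
    rw [Matrix.adjugate_smul, Matrix.adjugate_mul_distrib, hadj, hadj, Fintype.card_fin]
    simp
  obtain ⟨g1, hg1, hg1G⟩ := hex 0 1
  obtain ⟨g2, hg2, hg2G⟩ := hex 1 2
  have ht1 : tr g1 = 2 * (x ⬝ᵥ y) := by
    rw [tr, ← Matrix.trace_fin_two, hg1, Matrix.trace_smul, hAtr, smul_eq_mul]
    simp [hX]; field_simp
  have ht2 : tr g2 = 2 * (y ⬝ᵥ z) := by
    rw [tr, ← Matrix.trace_fin_two, hg2, Matrix.trace_smul, hAtr, smul_eq_mul]
    simp [hX]; field_simp
  have ht12 : ((g1 : M2) * (g2 : M2)).trace = 2 * (x ⬝ᵥ z) := by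
    rw [hg1, hg2, smul_mul_assoc, mul_smul_comm, smul_smul, mul_assoc, ← mul_assoc (A 1) (A 1), hAA,
      smul_mul_assoc, one_mul, mul_smul_comm, smul_smul, Matrix.trace_smul, hAtr, smul_eq_mul]
    simp [hX]; field_simp
  have ht1' : tr g1 ≠ 0 := by rw [ht1]; exact mul_ne_zero h2 hxy
  have ht2' : tr g2 ≠ 0 := by rw [ht2]; exact mul_ne_zero h2 hyz
  have hfr : ((g1 : M2) * (g2 : M2) * (g1 : M2).adjugate * (g2 : M2).adjugate).trace ≠ 2 := by
    intro h
    rw [fricke_sl, g1.2, g2.2, ht12, Matrix.trace_fin_two (g1 : M2), Matrix.trace_fin_two (g2 : M2)] at h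
    have e1 : (g1 : M2) 0 0 + (g1 : M2) 1 1 = 2 * (x ⬝ᵥ y) := ht1
    have e2 : (g2 : M2) 0 0 + (g2 : M2) 1 1 = 2 * (y ⬝ᵥ z) := ht2
    rw [e1, e2] at h
    apply hdet
    have h4 : (4 : F) ≠ 0 := by
      rw [show (4 : F) = 2 * 2 by norm_num]; exact mul_ne_zero h2 h2
    refine mul_left_cancel₀ h4 ?_
    linear_combination -h
  have hnc : ∀ (g : SLtwo F), tr g ≠ 0 → ∀ (h : g ∈ Subgroup.center (SLtwo F)) (g' : SLtwo F),
      g * g' = g' * g := fun g _ h g' => (Subgroup.mem_center_iff.1 h g').symm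
  have hcomm : g1 * g2 ≠ g2 * g1 := fun e => hfr (by
    rw [← Matrix.SpecialLinearGroup.coe_mul, e, Matrix.SpecialLinearGroup.coe_mul, mul_assoc (g2 : M2),
      Matrix.mul_adjugate, g1.2, one_smul, mul_one, Matrix.mul_adjugate, g2.2, one_smul, Matrix.trace_one,
      Fintype.card_fin, Nat.cast_ofNat])
  have hgc1 : g1 ∉ Subgroup.center (SLtwo F) := fun h => hcomm (hnc g1 ht1' h g2)
  have hgc2 : g2 ∉ Subgroup.center (SLtwo F) := fun h => hcomm (hnc g2 ht2' h g1).symm
  rcases dickson_split hp hodd (G.map proj) with h | h | h | ⟨A', hA', hN⟩ | ⟨w, hw, hw1, hH⟩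
  · exfalso
    exact hgc1 (proj_eq_one_iff.1 (Subgroup.mem_bot.1 (h ▸ Subgroup.mem_map_of_mem _ hg1G)))
  · -- everything moves
    left
    intro u hu d d' ho hn hn0
    obtain ⟨M, hM⟩ := exists_conj h2 (c := P *ᵥ d) (d := P *ᵥ d') (by rw [hnorm, hnorm, hn])
      (by rw [hnorm]; exact mul_ne_zero hκ hn0)
    have hMG : M ∈ G := by
      have : proj M ∈ G.map proj := h ▸ Subgroup.mem_top _
      obtain ⟨N, hN, hNM⟩ := this
      rcases proj_eq_proj_iff.1 hNM with rfl | rfl
      · exact hN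
      · rw [show -N = -1 * N by simp]; exact G.mul_mem hneg hN
    exact hMG.1 u hu d d' ho hM
  · right
    obtain ⟨k, hk, e⟩ := h _ (Subgroup.mem_map_of_mem proj hg1G)
    rw [← map_pow, proj_eq_one_iff] at e
    rw [← ht1]
    exact sval_of_pow hgc1 ht1' hk e
  · exfalso
    have hin : ∀ g ∈ G, g ∉ Subgroup.center (SLtwo F) → tr g ≠ 0 → proj g ∈ A' := by
      intro g hgG hgc hgt
      have hgH : proj g ∈ normIn (G.map proj) A' := hN.symm ▸ Subgroup.mem_map_of_mem _ hgG
      rcases hA'.normIn_cases with he | ⟨-, hinv⟩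
      · exact he ▸ hgH
      · by_contra hnA
        obtain ⟨hsq, -⟩ := hinv _ hgH hnA
        rw [← map_mul, proj_eq_one_iff, mem_center_iff_entries] at hsq
        apply hgc
        rw [mem_center_iff_entries]
        obtain ⟨q1, q2, q3⟩ := hsq
        rw [mul_01] at q1
        rw [mul_10] at q2
        rw [mul_00, mul_11] at q3
        simp only [tr] at hgt
        refine ⟨?_, ?_, ?_⟩
        · exact (mul_eq_zero.1 (show g 0 1 * (g 0 0 + g 1 1) = 0 by linear_combination q1)).resolve_right hgt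
        · exact (mul_eq_zero.1 (show g 1 0 * (g 0 0 + g 1 1) = 0 by linear_combination q2)).resolve_right hgt
        · exact sub_eq_zero.1 ((mul_eq_zero.1
            (show (g 0 0 - g 1 1) * (g 0 0 + g 1 1) = 0 by linear_combination q3)).resolve_right hgt)
    have hc := hA'.1.comm (hin _ hg1G hgc1 ht1') (hin _ hg2G hgc2 ht2')
    rw [← map_mul, ← map_mul] at hc
    rcases proj_eq_proj_iff.1 hc with e | e
    · exact hcomm e.symm
    · -- an element conjugate to its negative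
      apply ht1'
      have e' : g2 * g1 * g2⁻¹ = -g1 := by rw [e, neg_mul, mul_inv_cancel_right]
      have := congrArg tr e'
      rw [tr_conj, tr_neg] at this
      exact (mul_eq_zero.1 (show (2 : F) * tr g1 = 0 by linear_combination this)).resolve_left h2
  · exfalso
    obtain ⟨g, rfl, hgt⟩ := hw
    have hgc : g ∉ Subgroup.center (SLtwo F) := fun hh => hw1 (proj_eq_one_iff.2 hh)
    obtain ⟨v, hv, hgv⟩ : ∃ v : Fin 2 → F, v ≠ 0 ∧ (g : M2) *ᵥ v = v := by
      have h0 : ((g : M2) - 1).det = 0 := by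
        have := det_entries g
        simp only [tr] at hgt
        simp [Matrix.det_fin_two]
        linear_combination this - hgt
      obtain ⟨v, hv, e⟩ := Matrix.exists_mulVec_eq_zero_iff.2 h0
      rw [Matrix.sub_mulVec, Matrix.one_mulVec, sub_eq_zero] at e
      exact ⟨v, hv, e⟩
    have heig : ∀ n ∈ G, ∃ μ : F, (n : M2) *ᵥ v = μ • v := by
      intro n hn
      refine eigen_of_normalize hgc hgt ?_ v hv hgv
      have h' := Subgroup.mem_normalizer_iff.1 (hH (Subgroup.mem_map_of_mem proj hn)) (proj g)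
      have h'' := h'.1 (mem_torus_self _)
      rw [← map_inv, ← map_mul, ← map_mul] at h''
      exact proj_mem_torus_iff.1 h''
    obtain ⟨μ1, h1⟩ := heig _ hg1G
    obtain ⟨μ2, h2'⟩ := heig _ hg2G
    apply hfr
    refine trace_two_of_fix (by simp [Matrix.det_mul, Matrix.det_adjugate]) hv ?_
    have hinvv : ∀ (n : SLtwo F) (μ : F), (n : M2) *ᵥ v = μ • v → μ • ((n : M2).adjugate *ᵥ v) = v := by
      intro n μ e
      rw [← Matrix.mulVec_smul, ← e, Matrix.mulVec_mulVec, Matrix.adjugate_mul, n.2, one_smul, Matrix.one_mulVec]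
    have e1 := hinvv g1 μ1 h1
    have e2 := hinvv g2 μ2 h2'
    have hμ1 : μ1 ≠ 0 := fun h => hv (by rw [← e1, h, zero_smul])
    have hμ2 : μ2 ≠ 0 := fun h => hv (by rw [← e2, h, zero_smul])
    have f1 : (g1 : M2).adjugate *ᵥ v = μ1⁻¹ • v := by
      conv_rhs => rw [← e1, smul_smul, inv_mul_cancel₀ hμ1, one_smul]
    have f2 : (g2 : M2).adjugate *ᵥ v = μ2⁻¹ • v := by
      conv_rhs => rw [← e2, smul_smul, inv_mul_cancel₀ hμ2, one_smul]
    rw [← Matrix.mulVec_mulVec, f2, Matrix.mulVec_smul, ← Matrix.mulVec_mulVec, f1, Matrix.mulVec_smul,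
      ← Matrix.mulVec_mulVec, h2', Matrix.mulVec_smul, h1, smul_smul, smul_smul, smul_smul]
    rw [show μ2⁻¹ * μ1⁻¹ * μ2 * μ1 = 1 by field_simp, one_smul]

end Cfsg.Agent.Lib.OrthFrame
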